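import Groth.Agent.GrSyz.Basic
import Groth.Agent.RegLoc.PD
import Groth.Agent.RegLoc.Homological
import Mathlib.RingTheory.RegularLocalRing.Polynomial
import Mathlib.RingTheory.KrullDimension.Polynomial
import Mathlib.RingTheory.Nakayama

/-!
# Projective dimension and the length of minimal resolutions

* `pd_mvPolynomial`: Hilbert's syzygy theorem (global dimension of a polynomial ring over a field);
* `pd_le_iff_hasLengthLE`.
-/

set_option autoImplicit false
set_option linter.unusedSectionVars false
universe u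

open CategoryTheory DirectSum

namespace Groth.Agent.GrSyz

/-- Hilbert's syzygy theorem. -/
theorem pd_mvPolynomial {k : Type u} [Field k] (n : ℕ) (M : Type u) [AddCommGroup M]
    [Module (MvPolynomial (Fin n) k) M] :
    HasProjectiveDimensionLE (ModuleCat.of (MvPolynomial (Fin n) k) M) n := by
  refine RegLoc.PD.pd_of_forall_cyclic n (fun I => ?_) M
  rw [ModuleCat.hasProjectiveDimensionLE_iff_forall_maximalSpectrum]
  intro m
  haveI : IsRegularLocalRing (Localization m.asIdeal.primeCompl) :=
    IsRegularRing.isRegularLocalRing_localization m.asIdeal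
  have hle : ringKrullDim (Localization m.asIdeal.primeCompl) ≤ (n : WithBot ℕ∞) := by
    rw [IsLocalization.AtPrime.ringKrullDim_eq_height m.asIdeal (Localization m.asIdeal.primeCompl)]
    refine (Ideal.height_le_ringKrullDim_of_ne_top m.isMaximal.ne_top).trans ?_
    rw [MvPolynomial.ringKrullDim_of_isNoetherianRing, ringKrullDim_eq_zero_of_field]
    simp
  obtain ⟨d, hd⟩ : ∃ d : ℕ, ringKrullDim (Localization m.asIdeal.primeCompl) = d := by
    generalize hD : ringKrullDim (Localization m.asIdeal.primeCompl) = D at hle ⊢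
    induction D with
    | bot => exact absurd hD ringKrullDim_ne_bot
    | coe a =>
      induction a with
      | top =>
        rw [show (n : WithBot ℕ∞) = ((n : ℕ∞) : WithBot ℕ∞) from rfl, WithBot.coe_le_coe] at hle
        exact absurd hle (by simp)
      | coe a => exact ⟨a, rfl⟩
  have hdn : d ≤ n := by rw [hd] at hle; exact_mod_cast hle
  exact RegLoc.PD.pd_mono _ hdn (RegLoc.Homological.pd_le_dim hd _)

open Groth.Agent.GrLC

variable {R : Type u} [CommRing R] [IsDomain R] [IsNoetherianRing R]
variable {σ : Type u} [SetLike σ R] [AddSubgroupClass σ R] {𝒜 : ℤ → σ} [GradedRing 𝒜]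
variable {M : Type u} [AddCommGroup M] [Module R M] {τ : Type u} [SetLike τ M] [AddSubgroupClass τ M]
  {ℳ : ℤ → τ} [DirectSum.Decomposition ℳ] [SetLike.GradedSMul 𝒜 ℳ]

theorem ker_eq_bot_of_projective {a : ℕ} {P : Type u} [AddCommGroup P] [Module R P]
    [Module.Projective R P] (p : (Fin a → R) →ₗ[R] P) (hp : Function.Surjective p) {J : Ideal R}
    (hJ : (1 : R) ∉ J) (hker : ∀ v, p v = 0 → ∀ b, v b ∈ J) : LinearMap.ker p = ⊥ := by
  obtain ⟨s, hs⟩ := Module.projective_lifting_property p LinearMap.id hp
  have hπ : ∀ v, v - s (p v) ∈ LinearMap.ker p := fun v => by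
    rw [LinearMap.mem_ker, map_sub, sub_eq_zero]
    exact (LinearMap.congr_fun hs (p v)).symm
  have hle : LinearMap.ker p ≤ J • LinearMap.ker p := by
    intro v hv
    have hv' : v = ∑ b, v b • (Pi.single b (1 : R) - s (p (Pi.single b 1))) := by
      simp only [smul_sub, Finset.sum_sub_distrib, ← map_smul, ← map_sum]
      rw [← pi_eq_sum_univ' v, LinearMap.mem_ker.1 hv, map_zero, sub_zero]
    rw [hv']
    exact sum_mem fun b _ => Submodule.smul_mem_smul (hker v hv b) (hπ _)
  obtain ⟨r, hr, hr0⟩ := Submodule.exists_sub_one_mem_and_smul_eq_zero_of_fg_of_le_smul J _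
    (IsNoetherian.noetherian _) hle
  have hrne : r ≠ 0 := fun h => hJ (by simpa [h] using neg_mem hr)
  refine (Submodule.eq_bot_iff _).2 fun v hv => ?_
  exact (smul_eq_zero.1 (hr0 v hv)).resolve_left hrne

variable (F : _root_.GrSyz.FreeRes 𝒜 ℳ) (hpos : ∀ n : ℤ, n < 0 → ∀ x ∈ 𝒜 n, x = 0)

/-- Dimension shifting along the resolution. -/
theorem pd_range_iff (i n : ℕ) :
    HasProjectiveDimensionLE (ModuleCat.of R (LinearMap.range (F.dLin i))) (n + 1) ↔
      HasProjectiveDimensionLE (ModuleCat.of R (LinearMap.range (F.dLin (i + 1)))) n := by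
  rw [RegLoc.PD.pd_shift (F.dLin i).rangeRestrict (F.dLin i).surjective_rangeRestrict n]
  have h : LinearMap.ker (F.dLin i).rangeRestrict = LinearMap.range (F.dLin (i + 1)) := by
    rw [LinearMap.ker_rangeRestrict, F.exact_succ i]
  rw [h]

theorem pd_iff_projective_range (n : ℕ) :
    HasProjectiveDimensionLE (ModuleCat.of R M) (n + 1) ↔
      Module.Projective R (LinearMap.range (F.dLin n)) := by
  have h0 : ∀ m, HasProjectiveDimensionLE (ModuleCat.of R M) (m + 1) ↔
      HasProjectiveDimensionLE (ModuleCat.of R (LinearMap.range (F.dLin 0))) m := fun m => by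
    rw [RegLoc.PD.pd_shift F.augLin F.aug_surjective m, F.exact_zero]
  rw [h0, ← RegLoc.PD.pd_zero_iff]
  suffices H : ∀ k i, HasProjectiveDimensionLE (ModuleCat.of R (LinearMap.range (F.dLin i))) k ↔
      HasProjectiveDimensionLE (ModuleCat.of R (LinearMap.range (F.dLin (i + k)))) 0 by
    rw [H n 0, Nat.zero_add]
  intro k
  induction k with
  | zero => exact fun i => Iff.rfl
  | succ k ih => intro i; rw [pd_range_iff, ih (i + 1), show i + 1 + k = i + (k + 1) by omega]

theorem range_eq_bot_of_rk {i : ℕ} (h : F.rk (i + 1) = 0) : LinearMap.range (F.dLin i) = ⊥ := by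
  haveI : IsEmpty (Fin (F.rk (i + 1))) := by rw [h]; exact Fin.isEmpty
  refine LinearMap.range_eq_bot.2 (LinearMap.ext fun v => ?_)
  rw [Subsingleton.elim v 0, map_zero, map_zero]

include hpos in
theorem pd_le_iff_hasLengthLE (hF : F.IsMinimal (_root_.GrSyz.irrel 𝒜).toIdeal) (n : ℕ) :
    F.HasLengthLE n ↔ HasProjectiveDimensionLE (ModuleCat.of R M) n := by
  have key : ∀ i, LinearMap.range (F.dLin i) = ⊥ → ∀ j, i < j → F.rk j = 0 := by
    intro i hi j hj
    have h1 : F.rk (i + 1) = 0 := by
      by_contra hne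
      obtain ⟨a, ha⟩ := exists_ne_zero_of_minimal hpos F hF i ⟨0, Nat.pos_of_ne_zero hne⟩
      have hcol := col_mem_range (F.d i) ⟨0, Nat.pos_of_ne_zero hne⟩
      change _ ∈ LinearMap.range (F.dLin i) at hcol
      rw [hi, Submodule.mem_bot] at hcol
      exact ha (congrFun hcol a)
    induction j with
    | zero => omega
    | succ j ih =>
      rcases Nat.lt_or_ge i j with h | h
      · have hr0 := ih h
        by_contra hne
        obtain ⟨a, -⟩ := exists_ne_zero_of_minimal hpos F hF j ⟨0, Nat.pos_of_ne_zero hne⟩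
        exact Fin.elim0 (hr0 ▸ a)
      · rwa [show j = i by omega]
  refine ⟨fun h => ?_, fun h => ?_⟩
  · have hb := range_eq_bot_of_rk F (h (n + 1) (by omega))
    rcases n with - | n
    · rw [RegLoc.PD.pd_zero_iff]
      refine Module.Projective.of_equiv (LinearEquiv.ofBijective F.augLin
        ⟨LinearMap.ker_eq_bot.1 (F.exact_zero.trans hb), F.aug_surjective⟩)
    · rw [pd_iff_projective_range F n]
      refine Module.Projective.of_equiv (LinearEquiv.ofBijective (F.dLin n).rangeRestrict
        ⟨LinearMap.ker_eq_bot.1 ?_, (F.dLin n).surjective_rangeRestrict⟩)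
      rw [LinearMap.ker_rangeRestrict, F.exact_succ n, hb]
  · suffices hb : LinearMap.range (F.dLin n) = ⊥ from fun i hi => key n hb i hi
    rcases n with - | n
    · haveI := (RegLoc.PD.pd_zero_iff M).1 h
      refine F.exact_zero.symm.trans ?_
      exact ker_eq_bot_of_projective F.augLin F.aug_surjective (one_notMem_irrel hpos)
        fun v hv b => ker_augLin_mem F hF hv b
    · haveI := (pd_iff_projective_range F n).1 h
      refine (F.exact_succ n).symm.trans ?_
      rw [← LinearMap.ker_rangeRestrict (F.dLin n)]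
      refine ker_eq_bot_of_projective _ (F.dLin n).surjective_rangeRestrict (one_notMem_irrel hpos)
        fun v hv b => ker_dLin_mem F hF (i := n) ?_ b
      exact congrArg Subtype.val hv

end Groth.Agent.GrSyz
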