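import Groth.Prelude.Def_GrSyz
import Groth.Agent.GrLC.Hom
import Mathlib.LinearAlgebra.Matrix.ToLin
import Mathlib.RingTheory.Noetherian.Basic

/-!
# Graded matrices, minimal presentations and minimal graded free resolutions

* `IsGrMat`, its closure properties and homogeneous lifting `exists_lift`, `exists_lift_aug`;
* `exists_gens_subset_irrel`: a minimal homogeneous generating family has its relations in `R₊`;
* `exists_minimal`: existence of minimal resolutions;
* `isMinimal_iff_irredundant`, `deg_succ_gt`.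
-/

set_option autoImplicit false
set_option linter.unusedSectionVars false
universe u

open DirectSum

namespace Groth.Agent.GrSyz

open Groth.Agent.GrLC

variable {R : Type u} [CommRing R]
variable {σ : Type u} [SetLike σ R] [AddSubgroupClass σ R] {𝒜 : ℤ → σ} [GradedRing 𝒜]

section Mat

variable {a b c : ℕ} (p : Fin a → ℤ) (q : Fin b → ℤ) (r : Fin c → ℤ)

variable (𝒜) in
/-- A degree-preserving matrix from generators of degrees `q` to generators of degrees `p`. -/
def IsGrMat (A : Matrix (Fin a) (Fin b) R) : Prop := ∀ x y, A x y ∈ 𝒜 (q y - p x)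

variable {p q r}

theorem isGrMat_mul {A : Matrix (Fin a) (Fin b) R} {B : Matrix (Fin b) (Fin c) R}
    (hA : IsGrMat 𝒜 p q A) (hB : IsGrMat 𝒜 q r B) : IsGrMat 𝒜 p r (A * B) := fun x z => by
  rw [Matrix.mul_apply]
  refine sum_mem fun y _ => ?_
  rw [show r z - p x = (q y - p x) + (r z - q y) by ring]
  exact SetLike.mul_mem_graded (hA x y) (hB y z)

theorem isGrMat_sub {A B : Matrix (Fin a) (Fin b) R}
    (hA : IsGrMat 𝒜 p q A) (hB : IsGrMat 𝒜 p q B) : IsGrMat 𝒜 p q (A - B) :=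
  fun x y => sub_mem (hA x y) (hB x y)

theorem isGrMat_one : IsGrMat 𝒜 p p (1 : Matrix (Fin a) (Fin a) R) := fun x y => by
  rw [Matrix.one_apply]
  split_ifs with h
  · subst h; rw [sub_self]; exact SetLike.one_mem_graded 𝒜
  · exact zero_mem _

theorem isGrMat_zero : IsGrMat 𝒜 p q (0 : Matrix (Fin a) (Fin b) R) := fun x y => by
  rw [Matrix.zero_apply]; exact zero_mem _

theorem cpt_mul_of_mem {i : ℤ} {x : R} (hx : x ∈ 𝒜 i) (y : R) (j : ℤ) :
    cpt 𝒜 j (x * y) = x * cpt 𝒜 (j - i) y := by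
  induction y using homogeneous_induction 𝒜 with
  | zero => simp
  | hom g y hy =>
    rw [cpt_of_mem_ite 𝒜 _ (SetLike.mul_mem_graded hx hy), cpt_of_mem_ite 𝒜 _ hy]
    by_cases h : g = j - i
    · rw [if_pos h, if_pos (by omega)]
    · rw [if_neg h, if_neg (by omega), mul_zero]
  | add u v hu hv => simp only [mul_add, map_add, hu, hv]

/-- Homogeneous lifting through a graded matrix. -/
theorem exists_lift {D : Matrix (Fin a) (Fin c) R} {A : Matrix (Fin a) (Fin b) R}
    (hD : IsGrMat 𝒜 p r D) (hA : IsGrMat 𝒜 p q A)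
    (h : ∀ y, (fun x => A x y) ∈ LinearMap.range D.mulVecLin) :
    ∃ B : Matrix (Fin c) (Fin b) R, IsGrMat 𝒜 r q B ∧ D * B = A := by
  choose v hv using h
  refine ⟨Matrix.of fun z y => cpt 𝒜 (q y - r z) (v y z), fun z y => cpt_mem 𝒜 _ _, ?_⟩
  ext x y
  have hx : (D.mulVec (v y)) x = A x y := congrFun (hv y) x
  rw [Matrix.mul_apply, ← cpt_of_mem 𝒜 (hA x y), ← hx]
  simp only [Matrix.mulVec, dotProduct, map_sum, Matrix.of_apply]
  refine Finset.sum_congr rfl fun z _ => ?_
  rw [cpt_mul_of_mem (hD x z), show q y - p x - (r z - p x) = q y - r z by ring]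

variable {M : Type u} [AddCommGroup M] [Module R M] {τ : Type u} [SetLike τ M] [AddSubgroupClass τ M]
  {ℳ : ℤ → τ} [DirectSum.Decomposition ℳ] [SetLike.GradedSMul 𝒜 ℳ]

/-- Homogeneous lifting through a homogeneous family of elements. -/
theorem exists_lift_aug {g : Fin c → M} (hg : ∀ z, g z ∈ ℳ (r z)) {w : Fin b → M}
    (hw : ∀ y, w y ∈ ℳ (q y)) (h : ∀ y, w y ∈ LinearMap.range (Fintype.linearCombination R g)) :
    ∃ B : Matrix (Fin c) (Fin b) R, IsGrMat 𝒜 r q B ∧ ∀ y, ∑ z, B z y • g z = w y := by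
  choose v hv using h
  refine ⟨fun z y => cpt 𝒜 (q y - r z) (v y z), fun z y => cpt_mem 𝒜 _ _, fun y => ?_⟩
  conv_rhs => rw [← cpt_of_mem ℳ (hw y), ← hv y, Fintype.linearCombination_apply, map_sum]
  exact Finset.sum_congr rfl fun z _ => (cpt_smul_right' (𝒜 := 𝒜) ℳ (hg z) _ _).symm

theorem linearCombination_col (A : Matrix (Fin a) (Fin b) R) :
    Fintype.linearCombination R (fun y => fun x => A x y) = A.mulVecLin := by
  refine LinearMap.ext fun v => funext fun x => ?_
  simp [Fintype.linearCombination_apply, Matrix.mulVec, dotProduct, Finset.sum_apply, mul_comm]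

theorem col_mem_freeGr {A : Matrix (Fin a) (Fin b) R} (hA : IsGrMat 𝒜 p q A) (y : Fin b) :
    (fun x => A x y) ∈ freeGr 𝒜 p (q y) :=
  (mem_freeGr (𝒜 := 𝒜) p).2 fun x => hA x y

theorem col_mem_range (A : Matrix (Fin a) (Fin b) R) (y : Fin b) :
    (fun x => A x y) ∈ LinearMap.range A.mulVecLin :=
  ⟨Pi.single y 1, funext fun x => by simp⟩

end Mat

section Irrel

variable (hpos : ∀ n : ℤ, n < 0 → ∀ x ∈ 𝒜 n, x = 0)

include hpos in
theorem cpt_zero_of_mem_irrel {x : R} (hx : x ∈ (_root_.GrSyz.irrel 𝒜).toIdeal) : cpt 𝒜 0 x = 0 := by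
  change x ∈ Ideal.span {r : R | ∃ n : ℤ, 0 < n ∧ r ∈ 𝒜 n} at hx
  induction hx using Submodule.span_induction with
  | mem x hx =>
    obtain ⟨n, hn, hx⟩ := hx
    exact cpt_of_mem_ne 𝒜 hx hn.ne'
  | zero => simp
  | add x y _ _ hx hy => rw [map_add, hx, hy, add_zero]
  | smul c x hx' hx =>
    induction c using homogeneous_induction 𝒜 with
    | zero => simp
    | hom g c hc =>
      rw [smul_eq_mul, cpt_mul_of_mem hc]
      rcases lt_trichotomy g 0 with hg | hg | hg
      · rw [hpos g hg c hc, zero_mul]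
      · subst hg; rw [sub_zero, hx, mul_zero]
      · rw [hpos (0 - g) (by omega) _ (cpt_mem 𝒜 _ x), mul_zero]
    | add u v hu hv => rw [add_smul, map_add, hu, hv, add_zero]

theorem mem_irrel_of_pos {n : ℤ} (hn : 0 < n) {x : R} (hx : x ∈ 𝒜 n) :
    x ∈ (_root_.GrSyz.irrel 𝒜).toIdeal :=
  Ideal.subset_span ⟨n, hn, hx⟩

include hpos in
theorem mem_irrel_iff {x : R} : x ∈ (_root_.GrSyz.irrel 𝒜).toIdeal ↔ cpt 𝒜 0 x = 0 := by
  refine ⟨cpt_zero_of_mem_irrel hpos, fun h => ?_⟩
  rw [← sum_cpt 𝒜 x]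
  refine sum_mem fun g hg => ?_
  rw [mem_degs] at hg
  rcases lt_trichotomy g 0 with h' | h' | h'
  · exact absurd (hpos g h' _ (cpt_mem 𝒜 g x)) hg
  · subst h'; exact absurd h hg
  · exact mem_irrel_of_pos h' (cpt_mem 𝒜 g x)

include hpos in
theorem one_notMem_irrel [Nontrivial R] : (1 : R) ∉ (_root_.GrSyz.irrel 𝒜).toIdeal := fun h => by
  have := cpt_zero_of_mem_irrel hpos h
  rw [cpt_of_mem 𝒜 (SetLike.one_mem_graded 𝒜)] at this
  exact one_ne_zero this

include hpos in
theorem mem_degree_of_notMem_irrel {n : ℤ} {x : R} (hx : x ∈ 𝒜 n)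
    (h : x ∉ (_root_.GrSyz.irrel 𝒜).toIdeal) : n = 0 ∧ x ≠ 0 := by
  refine ⟨?_, fun h0 => h (h0 ▸ zero_mem _)⟩
  by_contra hn
  exact h ((mem_irrel_iff hpos).2 (cpt_of_mem_ne 𝒜 hx hn))

end Irrel

section Gens

variable (hpos : ∀ n : ℤ, n < 0 → ∀ x ∈ 𝒜 n, x = 0)
  (hunit : ∀ x ∈ 𝒜 0, x ≠ 0 → IsUnit x)
variable {X : Type u} [AddCommGroup X] [Module R X] {τ : Type u} [SetLike τ X] [AddSubgroupClass τ X]
  {𝒳 : ℤ → τ} [DirectSum.Decomposition 𝒳] [SetLike.GradedSMul 𝒜 𝒳]

theorem mem_span_others {n : ℕ} {g : Fin n → X} {v : Fin n → R}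
    (hv : Fintype.linearCombination R g v = 0) {a : Fin n} (ha : IsUnit (v a)) :
    g a ∈ Submodule.span R (g '' {b | b ≠ a}) := by
  obtain ⟨w, hw⟩ := ha
  rw [Fintype.linearCombination_apply, ← Finset.add_sum_erase _ _ (Finset.mem_univ a)] at hv
  have h2 : v a • g a = -∑ b ∈ Finset.univ.erase a, v b • g b := eq_neg_of_add_eq_zero_left hv
  rw [← hw] at h2
  rw [show g a = (↑w⁻¹ : R) • ((w : R) • g a) by rw [smul_smul, Units.inv_mul, one_smul], h2]
  exact Submodule.smul_mem _ _ (neg_mem (sum_mem fun b hb =>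
    Submodule.smul_mem _ _ (Submodule.subset_span ⟨b, Finset.ne_of_mem_erase hb, rfl⟩)))

theorem single_sub_mem_ker {n : ℕ} {g : Fin n → X} {a : Fin n}
    (h : g a ∈ Submodule.span R (g '' {b | b ≠ a})) :
    ∃ v, Fintype.linearCombination R g v = 0 ∧ v a = 1 := by
  rw [Finsupp.mem_span_image_iff_linearCombination] at h
  obtain ⟨l, hl, hl'⟩ := h
  refine ⟨Pi.single a 1 - ⇑l, ?_, ?_⟩
  · rw [map_sub, Fintype.linearCombination_apply_single, one_smul, sub_eq_zero, ← hl',
      Fintype.linearCombination_apply, Finsupp.linearCombination_apply,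
      Finsupp.sum_fintype _ _ (fun _ => by simp)]
  · rw [Pi.sub_apply, Pi.single_eq_same]
    have : l a = 0 := by
      by_contra hne
      exact (hl (Finsupp.mem_support_iff.2 hne) : a ≠ a) rfl
    rw [this, sub_zero]

include hpos hunit in
/-- Homogeneous relations between irredundant homogeneous generators have coefficients in `R₊`. -/
theorem relation_mem_irrel {n : ℕ} {dg : Fin n → ℤ} {g : Fin n → X} (hg : ∀ a, g a ∈ 𝒳 (dg a))
    (hirr : ∀ a, g a ∉ Submodule.span R (g '' {b | b ≠ a})) {v : Fin n → R}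
    (hv : Fintype.linearCombination R g v = 0) (a : Fin n) :
    v a ∈ (_root_.GrSyz.irrel 𝒜).toIdeal := by
  by_contra hva
  letI := (isInternal_freeGr 𝒜 dg).chooseDecomposition
  have hne : cpt 𝒜 0 (v a) ≠ 0 := fun h => hva ((mem_irrel_iff hpos).2 h)
  have h0 : cpt 𝒳 (dg a) (Fintype.linearCombination R g v) = 0 := by rw [hv, map_zero]
  rw [Fintype.linearCombination_apply, map_sum] at h0
  have h1 : Fintype.linearCombination R g (fun b => cpt 𝒜 (dg a - dg b) (v b)) = 0 := by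
    rw [Fintype.linearCombination_apply, ← h0]
    exact Finset.sum_congr rfl fun b _ => (cpt_smul_right' (𝒜 := 𝒜) 𝒳 (hg b) _ _).symm
  refine hirr a (mem_span_others h1 ?_)
  simp only [sub_self]
  exact hunit _ (cpt_mem 𝒜 0 _) hne

include hpos hunit in
/-- A finitely generated homogeneous submodule has minimal homogeneous generators. -/
theorem exists_gens_subset_irrel {N : Submodule R X} (hN : N.FG) (hhom : N.IsHomogeneous 𝒳) :
    ∃ (n : ℕ) (dg : Fin n → ℤ) (g : Fin n → X), (∀ a, g a ∈ 𝒳 (dg a)) ∧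
      LinearMap.range (Fintype.linearCombination R g) = N ∧
      ∀ v, Fintype.linearCombination R g v = 0 → ∀ a, v a ∈ (_root_.GrSyz.irrel 𝒜).toIdeal := by
  classical
  let P : ℕ → Prop := fun n => ∃ (dg : Fin n → ℤ) (g : Fin n → X), (∀ a, g a ∈ 𝒳 (dg a)) ∧
      LinearMap.range (Fintype.linearCombination R g) = N
  have hex : ∃ n, P n := by
    obtain ⟨s, hs⟩ := hN
    let T : Finset (ℤ × X) := s.biUnion fun m => (degs 𝒳 m).image fun g => (g, cpt 𝒳 g m)
    refine ⟨T.card, fun a => (T.equivFin.symm a).1.1, fun a => (T.equivFin.symm a).1.2,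
      fun a => ?_, ?_⟩
    · obtain ⟨⟨p, hp⟩, rfl⟩ : ∃ q, T.equivFin q = a := T.equivFin.surjective a
      simp only [Equiv.symm_apply_apply]
      obtain ⟨m, -, hm⟩ := Finset.mem_biUnion.1 hp
      obtain ⟨g, -, rfl⟩ := Finset.mem_image.1 hm
      exact cpt_mem 𝒳 g m
    · rw [Fintype.range_linearCombination]
      refine le_antisymm (Submodule.span_le.2 ?_) ?_
      · rintro _ ⟨a, rfl⟩
        obtain ⟨⟨p, hp⟩, rfl⟩ : ∃ q, T.equivFin q = a := T.equivFin.surjective a
        simp only [Equiv.symm_apply_apply]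
        obtain ⟨m, hm', hm⟩ := Finset.mem_biUnion.1 hp
        obtain ⟨g, -, rfl⟩ := Finset.mem_image.1 hm
        exact (isHomogeneous_iff 𝒳).1 hhom m (hs ▸ Submodule.subset_span hm') g
      · rw [← hs, Submodule.span_le]
        intro m hm
        rw [SetLike.mem_coe, ← sum_cpt 𝒳 m]
        refine sum_mem fun g hg => Submodule.subset_span ?_
        refine ⟨T.equivFin ⟨(g, cpt 𝒳 g m), Finset.mem_biUnion.2
          ⟨m, hm, Finset.mem_image.2 ⟨g, hg, rfl⟩⟩⟩, ?_⟩
        simp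
  obtain ⟨dg, g, hg, hr⟩ := Nat.find_spec hex
  refine ⟨Nat.find hex, dg, g, hg, hr, fun v hv a => relation_mem_irrel hpos hunit hg ?_ hv a⟩
  intro a ha
  obtain ⟨k, hk⟩ : ∃ k, Nat.find hex = k + 1 := ⟨Nat.find hex - 1, by have := a.pos; omega⟩
  refine Nat.find_min hex (m := k) (by omega) ?_
  let e : Fin k → Fin (Nat.find hex) := fun x => Fin.cast hk.symm ((Fin.cast hk a).succAbove x)
  have he : Set.range e = {b | b ≠ a} := by
    ext b
    constructor
    · rintro ⟨x, rfl⟩ hx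
      exact Fin.succAbove_ne (Fin.cast hk a) x (Fin.ext (by simpa [e, Fin.ext_iff] using hx))
    · intro hb
      obtain ⟨x, hx⟩ := Fin.exists_succAbove_eq (x := Fin.cast hk b) (y := Fin.cast hk a)
        (fun h => hb (Fin.ext (by simpa [Fin.ext_iff] using h)))
      exact ⟨x, by simp [e, hx]⟩
  refine ⟨fun x => dg (e x), fun x => g (e x), fun x => hg _, ?_⟩
  rw [Fintype.range_linearCombination] at hr ⊢
  change Submodule.span R (Set.range (g ∘ e)) = N
  rw [Set.range_comp, he, ← hr]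
  refine le_antisymm (Submodule.span_mono (Set.image_subset_range _ _)) (Submodule.span_le.2 ?_)
  rintro _ ⟨b, rfl⟩
  by_cases hb : b = a
  · subst hb; exact ha
  · exact Submodule.subset_span ⟨b, hb, rfl⟩

end Gens

section Resolution

variable (hpos : ∀ n : ℤ, n < 0 → ∀ x ∈ 𝒜 n, x = 0)
  (hunit : ∀ x ∈ 𝒜 0, x ≠ 0 → IsUnit x)
variable {M : Type u} [AddCommGroup M] [Module R M] {τ : Type u} [SetLike τ M] [AddSubgroupClass τ M]
  {ℳ : ℤ → τ} [DirectSum.Decomposition ℳ] [SetLike.GradedSMul 𝒜 ℳ]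

variable (𝒜) in
/-- A stage of the recursive construction: a homogeneous submodule inside `R₊ F` of a free `F`. -/
structure Stage : Type u where
  /-- rank -/
  n : ℕ
  /-- degrees -/
  dg : Fin n → ℤ
  /-- the syzygy module -/
  K : Submodule R (Fin n → R)
  le : ∀ v ∈ K, ∀ a, v a ∈ (_root_.GrSyz.irrel 𝒜).toIdeal
  hom : letI := (isInternal_freeGr 𝒜 dg).chooseDecomposition; K.IsHomogeneous (freeGr 𝒜 dg)

theorem isHomogeneous_ker_linearCombination {n : ℕ} {dg : Fin n → ℤ} {g : Fin n → M}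
    (hg : ∀ a, g a ∈ ℳ (dg a)) :
    letI := (isInternal_freeGr 𝒜 dg).chooseDecomposition
    (LinearMap.ker (Fintype.linearCombination R g)).IsHomogeneous (freeGr 𝒜 dg) := by
  letI := (isInternal_freeGr 𝒜 dg).chooseDecomposition
  letI := freeGr_gradedSMul 𝒜 dg
  exact isHomogeneous_ker (freeGr 𝒜 dg) (linearCombination_isGrHom (𝒜 := 𝒜) dg hg)

include hpos hunit in
theorem Stage.exists_next [IsNoetherianRing R] (S : Stage 𝒜) :
    ∃ (T : Stage 𝒜) (A : Matrix (Fin S.n) (Fin T.n) R), IsGrMat 𝒜 S.dg T.dg A ∧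
      LinearMap.range A.mulVecLin = S.K ∧ LinearMap.ker A.mulVecLin = T.K := by
  letI := (isInternal_freeGr 𝒜 S.dg).chooseDecomposition
  letI := freeGr_gradedSMul 𝒜 S.dg
  obtain ⟨n, dg, g, hg, hr, hk⟩ := exists_gens_subset_irrel hpos hunit (𝒳 := freeGr 𝒜 S.dg)
    (IsNoetherian.noetherian S.K) S.hom
  refine ⟨⟨n, dg, LinearMap.ker (Fintype.linearCombination R g),
    fun v hv => hk v hv, isHomogeneous_ker_linearCombination hg⟩, fun x y => g y x,
    fun x y => (mem_freeGr (𝒜 := 𝒜) S.dg).1 (hg y) x, ?_, ?_⟩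
  · rw [← linearCombination_col]; exact hr
  · rw [← linearCombination_col]

include hpos hunit in
/-- Every finitely generated graded module has a minimal graded free resolution. -/
theorem exists_minimal [IsNoetherianRing R] [Module.Finite R M] :
    ∃ F : _root_.GrSyz.FreeRes 𝒜 ℳ, F.IsMinimal (_root_.GrSyz.irrel 𝒜).toIdeal := by
  obtain ⟨n, dg, g, hg, hr, hk⟩ := exists_gens_subset_irrel hpos hunit (𝒳 := ℳ)
    (N := (⊤ : Submodule R M)) Module.Finite.fg_top (isHomogeneous_top ℳ)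
  choose T A hA hAr hAk using Stage.exists_next (𝒜 := 𝒜) hpos hunit
  let St : ℕ → Stage 𝒜 := fun i => Nat.rec
    ⟨n, dg, LinearMap.ker (Fintype.linearCombination R g), fun v hv => hk v hv,
      isHomogeneous_ker_linearCombination hg⟩ (fun _ S => T S) i
  refine ⟨{
    rk := fun i => (St i).n
    deg := fun i => (St i).dg
    d := fun i => A (St i)
    aug := g
    d_mem := fun i x y => hA (St i) x y
    aug_mem := hg
    aug_surjective := LinearMap.range_eq_top.1 hr
    exact_zero := (hAr (St 0)).symm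
    exact_succ := fun i => (hAk (St i)).trans (hAr (St (i + 1))).symm }, fun i x y => ?_⟩
  have h : (fun z => A (St i) z y) ∈ LinearMap.range (A (St i)).mulVecLin := col_mem_range _ y
  rw [hAr] at h
  exact (St i).le _ h x

variable (F : _root_.GrSyz.FreeRes 𝒜 ℳ)

theorem d_isGrMat (i : ℕ) : IsGrMat 𝒜 (F.deg i) (F.deg (i + 1)) (F.d i) := F.d_mem i

theorem d_mul_d (i : ℕ) : F.d i * F.d (i + 1) = 0 := by
  ext x y
  have h : (fun z => F.d (i + 1) z y) ∈ LinearMap.ker (F.dLin i) :=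
    (F.exact_succ i).ge (col_mem_range _ y)
  exact congrFun (LinearMap.mem_ker.1 h) x

theorem aug_d (y : Fin (F.rk 1)) : ∑ x, F.d 0 x y • F.aug x = 0 := by
  have h : (fun z => F.d 0 z y) ∈ LinearMap.ker F.augLin := F.exact_zero.ge (col_mem_range _ y)
  rw [LinearMap.mem_ker, Fintype.linearCombination_apply] at h
  exact h

theorem ker_augLin_mem (hF : F.IsMinimal (_root_.GrSyz.irrel 𝒜).toIdeal) {v : Fin (F.rk 0) → R}
    (hv : F.augLin v = 0) (a : Fin (F.rk 0)) : v a ∈ (_root_.GrSyz.irrel 𝒜).toIdeal := by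
  obtain ⟨w, rfl⟩ := F.exact_zero.le (LinearMap.mem_ker.2 hv)
  change ∑ z, F.d 0 a z * w z ∈ _
  exact sum_mem fun z _ => Ideal.mul_mem_right _ _ (hF 0 a z)

theorem ker_dLin_mem (hF : F.IsMinimal (_root_.GrSyz.irrel 𝒜).toIdeal) {i : ℕ}
    {v : Fin (F.rk (i + 1)) → R} (hv : F.dLin i v = 0) (a : Fin (F.rk (i + 1))) :
    v a ∈ (_root_.GrSyz.irrel 𝒜).toIdeal := by
  obtain ⟨w, rfl⟩ := (F.exact_succ i).le (LinearMap.mem_ker.2 hv)
  change ∑ z, F.d (i + 1) a z * w z ∈ _
  exact sum_mem fun z _ => Ideal.mul_mem_right _ _ (hF (i + 1) a z)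

include hpos in
theorem irredundant_of_minimal [Nontrivial R] (hF : F.IsMinimal (_root_.GrSyz.irrel 𝒜).toIdeal) :
    (∀ b, F.aug b ∉ Submodule.span R (F.aug '' {b' | b' ≠ b})) ∧
      ∀ (i : ℕ) (b : Fin (F.rk (i + 1))),
        (fun a => F.d i a b) ∉ Submodule.span R ((fun b' a => F.d i a b') '' {b' | b' ≠ b}) := by
  refine ⟨fun b hb => ?_, fun i b hb => ?_⟩
  · obtain ⟨v, hv, hvb⟩ := single_sub_mem_ker hb
    exact one_notMem_irrel hpos (hvb ▸ ker_augLin_mem F hF hv b)
  · obtain ⟨v, hv, hvb⟩ := single_sub_mem_ker hb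
    rw [linearCombination_col] at hv
    exact one_notMem_irrel hpos (hvb ▸ ker_dLin_mem F hF hv b)

include hpos hunit in
theorem minimal_of_irredundant (h0 : ∀ b, F.aug b ∉ Submodule.span R (F.aug '' {b' | b' ≠ b}))
    (h1 : ∀ (i : ℕ) (b : Fin (F.rk (i + 1))),
        (fun a => F.d i a b) ∉ Submodule.span R ((fun b' a => F.d i a b') '' {b' | b' ≠ b})) :
    F.IsMinimal (_root_.GrSyz.irrel 𝒜).toIdeal := by
  intro i a b
  rcases i with - | i
  · exact relation_mem_irrel hpos hunit F.aug_mem h0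
      (LinearMap.mem_ker.1 (F.exact_zero.ge (col_mem_range (F.d 0) b))) a
  · letI := (isInternal_freeGr 𝒜 (F.deg i)).chooseDecomposition
    letI := freeGr_gradedSMul 𝒜 (F.deg i)
    refine relation_mem_irrel hpos hunit (𝒳 := freeGr 𝒜 (F.deg i))
      (fun y => col_mem_freeGr (d_isGrMat F i) y) (h1 i) (v := fun z => F.d (i + 1) z b) ?_ a
    rw [linearCombination_col]
    exact LinearMap.mem_ker.1 ((F.exact_succ i).ge (col_mem_range (F.d (i + 1)) b))

include hpos in
theorem exists_ne_zero_of_minimal [Nontrivial R] (hF : F.IsMinimal (_root_.GrSyz.irrel 𝒜).toIdeal)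
    (i : ℕ) (b : Fin (F.rk (i + 1))) : ∃ a, F.d i a b ≠ 0 := by
  by_contra hc
  push Not at hc
  refine (irredundant_of_minimal hpos F hF).2 i b ?_
  rw [show (fun a => F.d i a b) = 0 from funext hc]
  exact zero_mem _

include hpos in
theorem deg_succ_gt [Nontrivial R] (hF : F.IsMinimal (_root_.GrSyz.irrel 𝒜).toIdeal)
    (i : ℕ) (b : Fin (F.rk (i + 1))) : ∃ a, F.deg i a < F.deg (i + 1) b := by
  obtain ⟨a, ha⟩ := exists_ne_zero_of_minimal hpos F hF i b
  refine ⟨a, ?_⟩
  by_contra hle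
  rcases (sub_nonpos.2 (not_lt.1 hle)).lt_or_eq with hlt | heq
  · exact ha (hpos _ hlt _ (F.d_mem i a b))
  · have hc := (mem_irrel_iff hpos).1 (hF i a b)
    have hm := F.d_mem i a b
    rw [heq] at hm
    exact ha ((cpt_of_mem 𝒜 hm).symm.trans hc)

end Resolution

end Groth.Agent.GrSyz
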