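import Groth.Agent.GrSyz.Regularity
import Groth.Agent.GrLC.Acyclicity
import Mathlib.RingTheory.Regular.RegularSequence
import Mathlib.RingTheory.FiniteLength

/-!
# Operations on regularity

Short exact sequences, finite-length modules, quasi-regular linear forms, regular sequences.
-/

set_option autoImplicit false
set_option linter.unusedSectionVars false
set_option linter.style.haveILetI false
set_option maxRecDepth 20000
universe u

open DirectSum Groth.Agent.GrLC Pointwise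

namespace Groth.Agent.GrSyz

section General

variable {R : Type u} [CommRing R] [IsNoetherianRing R]
variable {σ : Type u} [SetLike σ R] [AddSubgroupClass σ R] {𝒜 : ℤ → σ} [GradedRing 𝒜]
variable (hpos : ∀ n : ℤ, n < 0 → ∀ x ∈ 𝒜 n, x = 0)
variable {M : Type u} [AddCommGroup M] [Module R M] {τ : Type u} [SetLike τ M] [AddSubgroupClass τ M]
  {ℳ : ℤ → τ} [DirectSum.Decomposition ℳ] [SetLike.GradedSMul 𝒜 ℳ]

include hpos in
/-- A graded module of finite length is torsion. -/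
theorem mem_gam_of_isFiniteLength (ℳ : ℤ → τ) [DirectSum.Decomposition ℳ] [SetLike.GradedSMul 𝒜 ℳ]
    (hM : IsFiniteLength R M) (m : M) :
    m ∈ _root_.GrLC.gam (_root_.GrSyz.irrel 𝒜).toIdeal M := by
  obtain ⟨hN, hA⟩ := isFiniteLength_iff_isNoetherian_isArtinian.1 hM
  haveI := hN
  haveI := hA
  set I := (_root_.GrSyz.irrel 𝒜).toIdeal
  have hΓ : (_root_.GrLC.gam I M).IsHomogeneous ℳ := isHomogeneous_gam (_root_.GrSyz.irrel 𝒜)
  let Q := quoGMod 𝒜 ℳ hΓ
  haveI : IsArtinian R Q.carrier := inferInstanceAs (IsArtinian R (M ⧸ _root_.GrLC.gam I M))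
  haveI : Module.Finite R Q.carrier := inferInstanceAs (Module.Finite R (M ⧸ _root_.GrLC.gam I M))
  obtain ⟨n, hn, x, hx, hinj⟩ := exists_nzd_pos (N := M ⧸ _root_.GrLC.gam I M) hpos fun q hq => by
    refine eq_zero_of_quotient_gam (N := M) I (q := q) (n := 1) fun s hs => ?_
    rw [pow_one] at hs
    induction hs using Submodule.span_induction with
    | mem r hr => exact hr.elim fun j hj => hq j hj.1 r hj.2
    | zero => exact zero_smul R q
    | add u v _ _ hu hv => exact (add_smul u v q).trans (by rw [hu, hv, add_zero])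
    | smul c u _ hu => exact (mul_smul c u q).trans (by rw [hu, smul_zero])
  have hsurj : ∀ q : Q.carrier, ∃ q', x • q' = q :=
    (IsArtinian.surjective_of_injective_endomorphism
      (x • (LinearMap.id : Q.carrier →ₗ[R] Q.carrier)) hinj)
  haveI : Subsingleton Q.carrier :=
    subsingleton_of_smul_surjective (M := Q.carrier) (ℳ := Q.gr) hpos hn hx hsurj
  haveI hsub : Subsingleton (M ⧸ _root_.GrLC.gam I M) := inferInstanceAs (Subsingleton Q.carrier)
  exact (Submodule.Quotient.mk_eq_zero _).1 (Subsingleton.elim (Submodule.Quotient.mk m) 0)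

variable (a : HomogeneousIdeal 𝒜)

theorem gr_succ_eq_bot_of_torsion (h : ∀ m : M, m ∈ _root_.GrLC.gam a.toIdeal M) (p : ℕ) (n : ℤ) :
    LC.gr ℳ a (p + 1) n = ⊥ := by
  haveI := LocCohElt.subsingleton_of_powerTorsion a.toIdeal p M fun m => h m
  exact (AddSubgroup.eq_bot_iff_forall _).2 fun y _ => Subsingleton.elim y 0

theorem gr_zero_eq_bot_iff_of_torsion (h : ∀ m : M, m ∈ _root_.GrLC.gam a.toIdeal M) (n : ℤ) :
    LC.gr ℳ a 0 n = ⊥ ↔ ∀ m ∈ ℳ n, m = 0 := by
  refine ⟨fun hb m hm => ?_, fun hb => LC.gr_zero_eq_bot a fun m hm _ => hb m hm⟩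
  by_contra hne
  exact LC.exists_mem_gr_zero_ne a hm (h m) hne hb

section QuasiRegular

variable {N : Type u} [AddCommGroup N] [Module R N] {τ' : Type u} [SetLike τ' N] [AddSubgroupClass τ' N]
  {𝒩 : ℤ → τ'} [DirectSum.Decomposition 𝒩] [SetLike.GradedSMul 𝒜 𝒩]
variable {x : R} (hx : x ∈ 𝒜 1)
  (hK : ∀ m : M, x • m = 0 → m ∈ _root_.GrLC.gam a.toIdeal M)
  (π : M →ₗ[R] N) (hπ : Function.Surjective π) (hπg : _root_.GrLC.IsGrHom ℳ 𝒩 π)
  (hker : LinearMap.ker π = LinearMap.range (x • (LinearMap.id : M →ₗ[R] M)))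

include hx hK hπ hπg hker in
/-- The consequences of the two sequences attached to a quasi-regular element of degree one. -/
theorem quasiRegular_aux :
    (∀ (p : ℕ) (n : ℤ), LC.gr ℳ a p n = ⊥ → LC.gr ℳ a (p + 1) (n - 1) = ⊥ → LC.gr 𝒩 a p n = ⊥) ∧
      (x ∈ a.toIdeal → ∀ (p : ℕ) (n₀ : ℤ), (∀ m, n₀ < m → LC.gr 𝒩 a p m = ⊥) →
        ∀ n, n₀ ≤ n → LC.gr ℳ a (p + 1) n = ⊥) := by
  have hmul : _root_.GrLC.IsGrHomDeg ℳ ℳ (x • (LinearMap.id : M →ₗ[R] M)) 1 := LC.isGrHomDeg_smul hx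
  have hkh := isHomogeneous_kerDeg ℳ hmul
  let K := subGMod 𝒜 ℳ hkh
  let M' := quoGMod 𝒜 ℳ hkh
  let ι' : K.carrier →ₗ[R] M := (LinearMap.ker (x • (LinearMap.id : M →ₗ[R] M))).subtype
  let q : M →ₗ[R] M'.carrier := (LinearMap.ker (x • (LinearMap.id : M →ₗ[R] M))).mkQ
  let f : M'.carrier →ₗ[R] M := Submodule.liftQ _ (x • (LinearMap.id : M →ₗ[R] M)) le_rfl
  have hι : Function.Injective ι' := Submodule.injective_subtype _
  have hιq : Function.Exact ι' q := LinearMap.exact_subtype_mkQ _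
  have hq : Function.Surjective q := Submodule.mkQ_surjective _
  have hιg : _root_.GrLC.IsGrHom K.gr ℳ ι' := fun _ _ hm => hm
  have hιd : _root_.GrLC.IsGrHomDeg K.gr ℳ ι' 0 := fun j m hm => by rw [add_zero]; exact hm
  have hqg : _root_.GrLC.IsGrHom ℳ M'.gr q := isGrHom_mkQ _ _
  have hf : Function.Injective f := LinearMap.ker_eq_bot.1 (Submodule.ker_liftQ_eq_bot' _ _ rfl)
  have hfπ : Function.Exact f π := LinearMap.exact_iff.2 (hker.trans (Submodule.range_liftQ _ _ _).symm)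
  have hfg : _root_.GrLC.IsGrHomDeg M'.gr ℳ f 1 := by
    rintro g y ⟨m, hm, rfl⟩
    exact hmul g m hm
  have htorK : ∀ m : K.carrier, m ∈ _root_.GrLC.gam a.toIdeal K.carrier := fun m =>
    (hK m.1 m.2).elim fun n hn => ⟨n, fun r hr => Subtype.ext (hn r hr)⟩
  have hA : ∀ p n, LC.gr ℳ a p n = ⊥ → LC.gr M'.gr a p n = ⊥ := by
    intro p n h
    refine (AddSubgroup.eq_bot_iff_forall _).2 fun y hy => ?_
    haveI := LocCohElt.subsingleton_of_powerTorsion a.toIdeal p K.carrier fun m => htorK m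
    obtain ⟨z, hz, rfl⟩ := LC.exists_map_eq_of_δ_eq_zero a p hι hιq hq hqg hy (Subsingleton.elim _ _)
    rw [(AddSubgroup.eq_bot_iff_forall _).1 h z hz, map_zero]
  refine ⟨fun p n h₁ h₂ => ?_, fun hxa p n₀ hN n hn => ?_⟩
  · refine (AddSubgroup.eq_bot_iff_forall _).2 fun y hy => ?_
    have hδ := LC.δ_mem_gr_deg a p hf hfπ hπ hfg hπg hy
    obtain ⟨z, hz, rfl⟩ := LC.exists_map_eq_of_δ_eq_zero a p hf hfπ hπ hπg hy
      ((AddSubgroup.eq_bot_iff_forall _).1 (hA (p + 1) (n - 1) h₂) _ hδ)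
    rw [(AddSubgroup.eq_bot_iff_forall _).1 h₁ z hz, map_zero]
  · refine (AddSubgroup.eq_bot_iff_forall _).2 fun y hy => ?_
    obtain ⟨k, hk⟩ := LocCohElt.exists_pow_smul_eq_zero a.toIdeal (p + 1) y
    have hkill : x ^ k • y = 0 := hk _ (Ideal.pow_mem_pow hxa k)
    clear hk
    induction k generalizing n y with
    | zero => simpa using hkill
    | succ k ih =>
      have hxy : x • y = 0 := ih (n := 1 + n) (by omega) (x • y) (LC.smul_mem_gr' a (p + 1) hx hy)
        (by rw [← mul_smul, ← pow_succ]; exact hkill)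
      have hqy := LC.map_mem_gr a (p + 1) hqg hy
      have hfqy : LocCohElt.map a.toIdeal (p + 1) f (LocCohElt.map a.toIdeal (p + 1) q y) = 0 := by
        rw [LocCohElt.map_comp]
        exact (LocCohElt.map_smul_id a.toIdeal (p + 1) x y).trans hxy
      obtain ⟨w, hw, hwy⟩ := LC.exists_δ_eq_of_map_eq_zero a p hf hfπ hπ hfg hπg hqy hfqy
      rw [(AddSubgroup.eq_bot_iff_forall _).1 (hN _ (by omega)) w hw, map_zero] at hwy
      obtain ⟨z, hz, rfl⟩ := LC.exists_map_eq_of_map_eq_zero a (p + 1) hι hιq hq hιd hy hwy.symm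
      haveI := LocCohElt.subsingleton_of_powerTorsion a.toIdeal p K.carrier fun m => htorK m
      rw [Subsingleton.elim z 0, map_zero]

end QuasiRegular

end General

section Poly

variable {k : Type u} [Field k] {N : ℕ}
variable {M : Type u} [AddCommGroup M] [Module (MvPolynomial (Fin N) k) M]
  {τ : Type u} [SetLike τ M] [AddSubgroupClass τ M]
  {ℳ : ℤ → τ} [DirectSum.Decomposition ℳ] [SetLike.GradedSMul (_root_.GrSyz.stdGr k (Fin N)) ℳ]
variable {P : Type u} [AddCommGroup P] [Module (MvPolynomial (Fin N) k) P]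
  {τ' : Type u} [SetLike τ' P] [AddSubgroupClass τ' P]
  {𝒩 : ℤ → τ'} [DirectSum.Decomposition 𝒩] [SetLike.GradedSMul (_root_.GrSyz.stdGr k (Fin N)) 𝒩]
variable {Q : Type u} [AddCommGroup Q] [Module (MvPolynomial (Fin N) k) Q]
  {τ'' : Type u} [SetLike τ'' Q] [AddSubgroupClass τ'' Q]
  {𝒬 : ℤ → τ''} [DirectSum.Decomposition 𝒬] [SetLike.GradedSMul (_root_.GrSyz.stdGr k (Fin N)) 𝒬]

theorem cohReg_iff_of_bijective {f : M →ₗ[MvPolynomial (Fin N) k] P} (hf : Function.Bijective f)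
    (hfgr : _root_.GrLC.IsGrHom ℳ 𝒩 f) (d : ℤ) : CohReg k N ℳ d ↔ CohReg k N 𝒩 d :=
  forall_congr' fun p => forall_congr' fun n => imp_congr_right fun _ =>
    LC.gr_eq_bot_iff_of_bijective (f := f) (irrelS k N) p hf hfgr n

theorem cohReg_iff_of_torsion (h : ∀ m : M, m ∈ _root_.GrLC.gam (irrelS k N).toIdeal M) (d : ℤ) :
    CohReg k N ℳ d ↔ ∀ n, d < n → ∀ m ∈ ℳ n, m = 0 := by
  refine ⟨fun hR n hn => (gr_zero_eq_bot_iff_of_torsion _ h n).1 (hR 0 n (by push_cast; omega)),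
    fun hb p n hn => ?_⟩
  rcases p with - | p
  · exact (gr_zero_eq_bot_iff_of_torsion _ h n).2 (hb n (by push_cast at hn; omega))
  · exact gr_succ_eq_bot_of_torsion _ h p n

section SES

variable {f : M →ₗ[MvPolynomial (Fin N) k] P} {g : P →ₗ[MvPolynomial (Fin N) k] Q}
  (hf : Function.Injective f) (hfg : Function.Exact f g) (hg : Function.Surjective g)
  (hfgr : _root_.GrLC.IsGrHom ℳ 𝒩 f) (hggr : _root_.GrLC.IsGrHom 𝒩 𝒬 g)

include hf hfg hg hfgr hggr

theorem cohReg_left {r : ℤ} (h₂ : CohReg k N 𝒩 r) (h₃ : CohReg k N 𝒬 (r - 1)) : CohReg k N ℳ r := by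
  intro p n hn
  refine (AddSubgroup.eq_bot_iff_forall _).2 fun x hx => ?_
  have h0 := (AddSubgroup.eq_bot_iff_forall _).1 (h₂ p n hn) _ (LC.map_mem_gr (irrelS k N) p hfgr hx)
  rcases p with - | p
  · exact LocCohElt.map_zero_injective _ hf (h0.trans (map_zero _).symm)
  · have hfd : _root_.GrLC.IsGrHomDeg ℳ 𝒩 f (0 : ℤ) := fun j m hm => by
      rw [add_zero]; exact hfgr j m hm
    obtain ⟨y, hy, rfl⟩ := LC.exists_δ_eq_of_map_eq_zero (irrelS k N) p hf hfg hg hfd hggr hx h0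
    rw [add_zero] at hy
    rw [(AddSubgroup.eq_bot_iff_forall _).1 (h₃ p n (by push_cast at hn; omega)) y hy, map_zero]

theorem cohReg_middle {r : ℤ} (h₁ : CohReg k N ℳ r) (h₃ : CohReg k N 𝒬 r) : CohReg k N 𝒩 r := by
  intro p n hn
  have hfd : _root_.GrLC.IsGrHomDeg ℳ 𝒩 f (0 : ℤ) := fun j m hm => by
    rw [add_zero]; exact hfgr j m hm
  exact LC.gr_eq_bot_of_exact (irrelS k N) p hf hfg hg hfd hggr
    (by rw [sub_zero]; exact h₁ p n hn) (h₃ p n hn)

theorem cohReg_right {r : ℤ} (h₁ : CohReg k N ℳ (r + 1)) (h₂ : CohReg k N 𝒩 r) : CohReg k N 𝒬 r := by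
  intro p n hn
  refine (AddSubgroup.eq_bot_iff_forall _).2 fun x hx => ?_
  obtain ⟨y, hy, rfl⟩ := LC.exists_map_eq_of_δ_eq_zero (irrelS k N) p hf hfg hg hggr hx
    ((AddSubgroup.eq_bot_iff_forall _).1 (h₁ (p + 1) n (by push_cast; omega)) _
      (LC.δ_mem_gr (irrelS k N) p hf hfg hg hfgr hggr hx))
  rw [(AddSubgroup.eq_bot_iff_forall _).1 (h₂ p n hn) y hy, map_zero]

end SES

section QuasiRegular

variable {x : MvPolynomial (Fin N) k} (hx : x ∈ _root_.GrSyz.stdGr k (Fin N) 1)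
  (hK : ∀ m : M, x • m = 0 → m ∈ _root_.GrLC.gam (irrelS k N).toIdeal M)
  (π : M →ₗ[MvPolynomial (Fin N) k] P) (hπ : Function.Surjective π) (hπg : _root_.GrLC.IsGrHom ℳ 𝒩 π)
  (hker : LinearMap.ker π =
    LinearMap.range (x • (LinearMap.id : M →ₗ[MvPolynomial (Fin N) k] M)))

include hx hK hπ hπg hker

theorem diag_quotient {d : ℤ}
    (hM : ∀ i : ℕ, 0 < i → LC.gr ℳ (irrelS k N) i (d - (i : ℤ) + 1) = ⊥) {i : ℕ} (hi : 0 < i) :
    LC.gr 𝒩 (irrelS k N) i (d - (i : ℤ) + 1) = ⊥ := by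
  refine (quasiRegular_aux (irrelS k N) hx hK π hπ hπg hker).1 i _ (hM i hi) ?_
  have h := hM (i + 1) (by omega)
  rwa [show d - (i : ℤ) + 1 - 1 = d - ((i + 1 : ℕ) : ℤ) + 1 by push_cast; ring]

theorem cohReg_iff_quotient (d : ℤ) :
    CohReg k N ℳ d ↔ CohReg k N 𝒩 d ∧ ∀ n, d < n → LC.gr ℳ (irrelS k N) 0 n = ⊥ := by
  have haux := quasiRegular_aux (irrelS k N) hx hK π hπ hπg hker
  refine ⟨fun h => ⟨fun p n hn => haux.1 p n (h p n hn) (h (p + 1) (n - 1) (by push_cast; omega)),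
    fun n hn => h 0 n (by push_cast; omega)⟩, fun h p n hn => ?_⟩
  rcases p with - | p
  · exact h.2 n (by push_cast at hn; omega)
  · refine haux.2 (mem_irrel_of_pos zero_lt_one hx) p n (fun m hm => h.1 p m ?_) n le_rfl
    push_cast at hn
    omega

end QuasiRegular

/-- Regularity is unchanged modulo a regular sequence of linear forms. -/
theorem cohReg_iff_regularSeq (ys : List (MvPolynomial (Fin N) k))
    (hys : ∀ y ∈ ys, y ∈ _root_.GrSyz.stdGr k (Fin N) 1) :
    ∀ (X : _root_.GrLC.GMod.{u} (_root_.GrSyz.stdGr k (Fin N))),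
      RingTheory.Sequence.IsWeaklyRegular X.carrier ys →
      ∀ (π : X.carrier →ₗ[MvPolynomial (Fin N) k] P), Function.Surjective π →
        _root_.GrLC.IsGrHom X.gr 𝒩 π →
        LinearMap.ker π = Ideal.ofList ys • (⊤ : Submodule (MvPolynomial (Fin N) k) X.carrier) →
        ∀ d : ℤ, CohReg k N X.gr d ↔ CohReg k N 𝒩 d := by
  induction ys with
  | nil =>
    intro X _ π hπ hπg hker d
    rw [Ideal.ofList_nil, Submodule.bot_smul] at hker
    exact cohReg_iff_of_bijective (f := π) ⟨LinearMap.ker_eq_bot.1 hker, hπ⟩ hπg d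
  | cons x ys ih =>
    intro X hreg π hπ hπg hker d
    let S := MvPolynomial (Fin N) k
    obtain ⟨hxreg, hreg'⟩ := (RingTheory.Sequence.isWeaklyRegular_cons_iff X.carrier x ys).1 hreg
    have hx := hys x List.mem_cons_self
    let X₁ := quoGMod (_root_.GrSyz.stdGr k (Fin N)) X.gr (isHomogeneous_smulRange (X := X) hx)
    let q : X.carrier →ₗ[S] X₁.carrier := (smulRange x X.carrier).mkQ
    have hsr : smulRange x X.carrier = x • (⊤ : Submodule S X.carrier) := by
      ext m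
      simp [smulRange, Submodule.mem_smul_pointwise_iff_exists]
    have hreg₁ : RingTheory.Sequence.IsWeaklyRegular X₁.carrier ys :=
      (LinearEquiv.isWeaklyRegular_congr (Submodule.quotEquivOfEq _ _ hsr.symm) ys).1 hreg'
    have hle : smulRange x X.carrier ≤ LinearMap.ker π := by
      rw [hker, hsr, Ideal.ofList_cons, Submodule.sup_smul, Submodule.ideal_span_singleton_smul]
      exact le_sup_left
    let π₁ : X₁.carrier →ₗ[S] P := Submodule.liftQ _ π hle
    have hπ₁ : Function.Surjective π₁ := fun y => by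
      obtain ⟨m, rfl⟩ := hπ y; exact ⟨q m, rfl⟩
    have hπ₁g : _root_.GrLC.IsGrHom X₁.gr 𝒩 π₁ := by
      rintro g y ⟨m, hm, rfl⟩; exact hπg g m hm
    have hker₁ : LinearMap.ker π₁ = Ideal.ofList ys • (⊤ : Submodule S X₁.carrier) := by
      refine (Submodule.ker_liftQ _ π hle).trans ?_
      rw [hker, Ideal.ofList_cons, Submodule.sup_smul, Submodule.ideal_span_singleton_smul,
        Submodule.map_sup, ← hsr, Submodule.map_smul'', Submodule.map_top, Submodule.range_mkQ,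
        (Submodule.mkQ_map_self (smulRange x X.carrier)), bot_sup_eq]
      rfl
    have hqker : LinearMap.ker q = LinearMap.range (x • (LinearMap.id : X.carrier →ₗ[S] X.carrier)) :=
      Submodule.ker_mkQ _
    have hqg : _root_.GrLC.IsGrHom X.gr X₁.gr q := isGrHom_mkQ _ _
    rw [cohReg_iff_quotient (ℳ := X.gr) (𝒩 := X₁.gr) hx (fun m hm => ?_) q
      (Submodule.mkQ_surjective _) hqg hqker d]
    · rw [ih (fun y hy => hys y (List.mem_cons_of_mem _ hy)) X₁ hreg₁ π₁ hπ₁ hπ₁g hker₁ d]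
      refine and_iff_left_of_imp fun _ n hn => ?_
      exact LC.gr_zero_eq_bot_of_nzd (irrelS k N) (mem_irrel_of_pos zero_lt_one hx) hxreg n
    · rw [hxreg (hm.trans (smul_zero x).symm)]
      exact zero_mem _

/-- `cohReg_iff_regularSeq` for an unbundled graded module. -/
theorem cohReg_iff_regularSeq' (ys : List (MvPolynomial (Fin N) k))
    (hys : ∀ y ∈ ys, y ∈ _root_.GrSyz.stdGr k (Fin N) 1)
    (hreg : RingTheory.Sequence.IsWeaklyRegular M ys)
    (π : M →ₗ[MvPolynomial (Fin N) k] P) (hπ : Function.Surjective π)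
    (hπg : _root_.GrLC.IsGrHom ℳ 𝒩 π)
    (hker : LinearMap.ker π = Ideal.ofList ys • (⊤ : Submodule (MvPolynomial (Fin N) k) M)) (d : ℤ) :
    CohReg k N ℳ d ↔ CohReg k N 𝒩 d := by
  let X := toGMod (_root_.GrSyz.stdGr k (Fin N)) ℳ
  let f : M →ₗ[MvPolynomial (Fin N) k] X.carrier := LinearMap.id
  have hf : _root_.GrLC.IsGrHom ℳ X.gr f := fun _ _ hm => hm
  exact (cohReg_iff_of_bijective (f := f) Function.bijective_id hf d).trans
    (cohReg_iff_regularSeq ys hys X hreg π hπ hπg hker d)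

end Poly

end Groth.Agent.GrSyz
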