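import Groth.Agent.GrSyz.Basic
import Mathlib.LinearAlgebra.InvariantBasisNumber
import Mathlib.LinearAlgebra.FreeModule.StrongRankCondition

/-!
# Comparison of graded free resolutions and uniqueness of graded Betti numbers

* `exists_chainMap`: comparison maps over the identity of `M`;
* `homotopy_mem`: an endomorphism of a minimal resolution over `id` is `1` modulo `R₊`;
* `betti_le`, `betti_eq`: graded Betti numbers are minimal, hence unique;
* `isGenLE_of_minimal`: a minimal resolution is generated in the smallest degrees.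
-/

set_option autoImplicit false
set_option linter.unusedSectionVars false
universe u

open DirectSum

namespace Groth.Agent.GrSyz

open Groth.Agent.GrLC

variable {R : Type u} [CommRing R]
variable {σ : Type u} [SetLike σ R] [AddSubgroupClass σ R] {𝒜 : ℤ → σ} [GradedRing 𝒜]
variable {M : Type u} [AddCommGroup M] [Module R M] {τ : Type u} [SetLike τ M] [AddSubgroupClass τ M]
  {ℳ : ℤ → τ} [DirectSum.Decomposition ℳ] [SetLike.GradedSMul 𝒜 ℳ]
variable (F G : _root_.GrSyz.FreeRes 𝒜 ℳ)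

theorem col_mul {a b c : ℕ} (A : Matrix (Fin a) (Fin b) R) (B : Matrix (Fin b) (Fin c) R) (y : Fin c) :
    (fun x => (A * B) x y) = A.mulVecLin (fun z => B z y) := by
  funext x
  simp [Matrix.mul_apply, Matrix.mulVec, dotProduct]

/-- Comparison maps over the identity. -/
theorem exists_chainMap : ∃ φ : ∀ i, Matrix (Fin (G.rk i)) (Fin (F.rk i)) R,
    (∀ i, IsGrMat 𝒜 (G.deg i) (F.deg i) (φ i)) ∧ (∀ y, ∑ x, φ 0 x y • G.aug x = F.aug y) ∧
      ∀ i, G.d i * φ (i + 1) = φ i * F.d i := by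
  obtain ⟨φ₀, h₀, h₀a⟩ := exists_lift_aug (𝒜 := 𝒜) (ℳ := ℳ) G.aug_mem F.aug_mem fun y => by
    rw [LinearMap.range_eq_top.2 G.aug_surjective]; trivial
  let Q : ∀ i, Matrix (Fin (G.rk i)) (Fin (F.rk i)) R → Prop := fun i φ =>
    IsGrMat 𝒜 (G.deg i) (F.deg i) φ ∧
      ∀ y, (fun x => (φ * F.d i) x y) ∈ LinearMap.range (G.dLin i)
  have step : ∀ i φ, Q i φ → ∃ ψ, Q (i + 1) ψ ∧ G.d i * ψ = φ * F.d i := by
    intro i φ hφ
    obtain ⟨ψ, hψ, he⟩ := exists_lift (d_isGrMat G i) (isGrMat_mul hφ.1 (d_isGrMat F i)) hφ.2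
    refine ⟨ψ, ⟨hψ, fun y => ?_⟩, he⟩
    rw [← G.exact_succ i, LinearMap.mem_ker]
    change (G.d i).mulVecLin (fun x => (ψ * F.d (i + 1)) x y) = 0
    rw [← col_mul, ← Matrix.mul_assoc, he, Matrix.mul_assoc, d_mul_d, Matrix.mul_zero]
    rfl
  have base : Q 0 φ₀ := by
    refine ⟨h₀, fun y => ?_⟩
    rw [← G.exact_zero, LinearMap.mem_ker, Fintype.linearCombination_apply]
    simp only [Matrix.mul_apply, Finset.sum_smul, mul_comm (φ₀ _ _), mul_smul]
    rw [Finset.sum_comm]
    simp only [← Finset.smul_sum, h₀a]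
    exact aug_d F y
  choose next hnext hcomm using step
  let f : ∀ i, {φ // Q i φ} := fun i => Nat.rec ⟨φ₀, base⟩ (fun j p => ⟨next j p.1 p.2, hnext j p.1 p.2⟩) i
  exact ⟨fun i => (f i).1, fun i => (f i).2.1, h₀a, fun i => hcomm i (f i).1 (f i).2⟩

/-- An endomorphism of a minimal resolution over `0` has entries in `R₊`. -/
theorem homotopy_mem (hF : F.IsMinimal (_root_.GrSyz.irrel 𝒜).toIdeal)
    (E : ∀ i, Matrix (Fin (F.rk i)) (Fin (F.rk i)) R) (hE : ∀ i, IsGrMat 𝒜 (F.deg i) (F.deg i) (E i))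
    (h0 : ∀ y, ∑ x, E 0 x y • F.aug x = 0) (hc : ∀ i, F.d i * E (i + 1) = E i * F.d i) :
    ∀ i x y, E i x y ∈ (_root_.GrSyz.irrel 𝒜).toIdeal := by
  set 𝔪 := (_root_.GrSyz.irrel 𝒜).toIdeal
  have hmul : ∀ i {n : ℕ} (H : Matrix (Fin (F.rk (i + 1))) (Fin n) R) x y, (F.d i * H) x y ∈ 𝔪 :=
    fun i n H x y => by
      rw [Matrix.mul_apply]
      exact sum_mem fun z _ => Ideal.mul_mem_right _ _ (hF i x z)
  obtain ⟨h₀, hh₀, he₀⟩ := exists_lift (d_isGrMat F 0) (hE 0) fun y => by
    rw [← F.exact_zero, LinearMap.mem_ker, Fintype.linearCombination_apply]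
    exact h0 y
  have key : ∀ i, ∃ h : Matrix (Fin (F.rk (i + 1))) (Fin (F.rk i)) R,
      IsGrMat 𝒜 (F.deg (i + 1)) (F.deg i) h ∧ F.d i * (E (i + 1) - h * F.d i) = 0 := by
    intro i
    induction i with
    | zero =>
      refine ⟨h₀, hh₀, ?_⟩
      rw [Matrix.mul_sub, hc 0, ← Matrix.mul_assoc, he₀, sub_self]
    | succ i ih =>
      obtain ⟨h, hh, he⟩ := ih
      obtain ⟨h', hh', he'⟩ := exists_lift (d_isGrMat F (i + 1))
        (isGrMat_sub (hE (i + 1)) (isGrMat_mul hh (d_isGrMat F i))) fun y => by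
          rw [← F.exact_succ i, LinearMap.mem_ker]
          change (F.d i).mulVecLin (fun x => (E (i + 1) - h * F.d i) x y) = 0
          rw [← col_mul, he]
          rfl
      refine ⟨h', hh', ?_⟩
      rw [Matrix.mul_sub, hc (i + 1), ← Matrix.mul_assoc, he', Matrix.sub_mul, Matrix.mul_assoc h,
        d_mul_d, Matrix.mul_zero, sub_zero, sub_self]
  intro i x y
  rcases i with - | i
  · rw [← he₀]; exact hmul 0 h₀ x y
  · obtain ⟨h, hh, he⟩ := key i
    obtain ⟨h', -, he'⟩ := exists_lift (d_isGrMat F (i + 1))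
      (isGrMat_sub (hE (i + 1)) (isGrMat_mul hh (d_isGrMat F i))) fun y => by
        rw [← F.exact_succ i, LinearMap.mem_ker]
        change (F.d i).mulVecLin (fun x => (E (i + 1) - h * F.d i) x y) = 0
        rw [← col_mul, he]
        rfl
    have : E (i + 1) x y = (F.d (i + 1) * h') x y + (h * F.d i) x y := by
      rw [he', Matrix.sub_apply, sub_add_cancel]
    rw [this]
    refine add_mem (hmul _ _ _ _) ?_
    rw [Matrix.mul_apply]
    exact sum_mem fun z _ => Ideal.mul_mem_left _ _ (hF i z y)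

variable (hpos : ∀ n : ℤ, n < 0 → ∀ x ∈ 𝒜 n, x = 0)

include hpos in
/-- The Betti numbers of a minimal resolution are the smallest possible. -/
theorem betti_le [Nontrivial R] (hF : F.IsMinimal (_root_.GrSyz.irrel 𝒜).toIdeal) (i : ℕ) (j : ℤ) :
    F.betti i j ≤ G.betti i j := by
  classical
  obtain ⟨φ, hφ, hφ0, hφc⟩ := exists_chainMap F G
  obtain ⟨ψ, hψ, hψ0, hψc⟩ := exists_chainMap G F
  set 𝔪 := (_root_.GrSyz.irrel 𝒜).toIdeal
  have hmem := homotopy_mem F hF (fun i => ψ i * φ i - 1)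
    (fun i => isGrMat_sub (isGrMat_mul (hψ i) (hφ i)) isGrMat_one)
    (fun y => by
      simp only [Matrix.sub_apply, sub_smul, Finset.sum_sub_distrib, Matrix.mul_apply, Finset.sum_smul,
        mul_comm (ψ 0 _ _), mul_smul, Matrix.one_apply, ite_smul, one_smul, zero_smul,
        Finset.sum_ite_eq', Finset.mem_univ, if_true]
      rw [Finset.sum_comm]
      simp only [← Finset.smul_sum, hψ0, hφ0, sub_self])
    (fun i => by
      simp only [Matrix.mul_sub, Matrix.sub_mul, Matrix.mul_one, Matrix.one_mul]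
      rw [← Matrix.mul_assoc, hψc, Matrix.mul_assoc, hφc, ← Matrix.mul_assoc])
  let π := Ideal.Quotient.mk 𝔪
  haveI : Nontrivial (R ⧸ 𝔪) := Ideal.Quotient.nontrivial_iff.2 fun h =>
    one_notMem_irrel hpos ((h ▸ Submodule.mem_top : (1 : R) ∈ 𝔪))
  let P : Matrix {y // F.deg i y = j} {x // G.deg i x = j} (R ⧸ 𝔪) :=
    Matrix.of fun y x => π (ψ i y.1 x.1)
  let Q : Matrix {x // G.deg i x = j} {y // F.deg i y = j} (R ⧸ 𝔪) :=
    Matrix.of fun x y => π (φ i x.1 y.1)
  have hPQ : P * Q = 1 := by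
    ext y y'
    have h := hmem i y.1 y'.1
    rw [Matrix.sub_apply, ← Ideal.Quotient.eq_zero_iff_mem, map_sub, sub_eq_zero, Matrix.mul_apply,
      map_sum] at h
    rw [Matrix.mul_apply, Matrix.one_apply]
    rw [Matrix.one_apply, apply_ite π, map_one, map_zero] at h
    simp only [Subtype.coe_inj] at h
    rw [← h]
    simp only [P, Q, Matrix.of_apply]
    rw [← Finset.sum_subtype (Finset.univ.filter fun x => G.deg i x = j) (by simp)
      (fun x => π (ψ i y.1 x) * π (φ i x y'.1))]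
    simp only [map_mul]
    refine Finset.sum_subset (Finset.subset_univ _) fun x _ hx => ?_
    have hxj : G.deg i x ≠ j := by simpa using hx
    have : φ i x y'.1 ∈ 𝔪 := by
      by_contra hc
      have := (mem_degree_of_notMem_irrel hpos (hφ i x y'.1) hc).1
      exact hxj (by rw [← y'.2]; omega)
    rw [Ideal.Quotient.eq_zero_iff_mem.2 this, mul_zero]
  have hinj : Function.Injective Q.mulVecLin := by
    intro a b hab
    have := congrArg P.mulVec hab
    simpa [Matrix.mulVec_mulVec, hPQ] using this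
  have := card_le_of_injective (R ⧸ 𝔪) Q.mulVecLin hinj
  simpa [_root_.GrSyz.FreeRes.betti, Fintype.card_subtype] using this

include hpos in
theorem betti_eq [Nontrivial R] (hF : F.IsMinimal (_root_.GrSyz.irrel 𝒜).toIdeal)
    (hG : G.IsMinimal (_root_.GrSyz.irrel 𝒜).toIdeal) (i : ℕ) (j : ℤ) : F.betti i j = G.betti i j :=
  le_antisymm (betti_le F G hpos hF i j) (betti_le G F hpos hG i j)

include hpos in
theorem exists_deg_eq_of_minimal [Nontrivial R] (hF : F.IsMinimal (_root_.GrSyz.irrel 𝒜).toIdeal)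
    (i : ℕ) (b : Fin (F.rk i)) : ∃ x, G.deg i x = F.deg i b := by
  have h : 0 < G.betti i (F.deg i b) :=
    lt_of_lt_of_le (Finset.card_pos.2 ⟨b, by simp⟩) (betti_le F G hpos hF i (F.deg i b))
  obtain ⟨x, hx⟩ := Finset.card_pos.1 h
  exact ⟨x, (Finset.mem_filter.1 hx).2⟩

include hpos in
theorem isGenLE_of_minimal [Nontrivial R] (hF : F.IsMinimal (_root_.GrSyz.irrel 𝒜).toIdeal) {r : ℤ}
    (hG : G.IsGenLE r) : F.IsGenLE r := fun i b => by
  obtain ⟨x, hx⟩ := exists_deg_eq_of_minimal F G hpos hF i b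
  rw [← hx]; exact hG i x

end Groth.Agent.GrSyz
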