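import Groth.Agent.GrSyz.PolyCoh
import Groth.Agent.GrSyz.ProjDim
import Groth.Agent.GrSyz.Compare

/-!
# Local cohomology along a graded free resolution over a polynomial ring

`gr_eq_bot_of_isGenLE` (a resolution generated in degrees `≤ d + i` bounds `H^p_𝔪(M)_n`) and
`isGenLE_of_gr_eq_bot` (the converse for a minimal resolution).
-/

set_option autoImplicit false
set_option linter.unusedSectionVars false
set_option linter.style.haveILetI false
set_option maxRecDepth 20000
universe u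

open DirectSum Groth.Agent.GrLC

namespace Groth.Agent.GrSyz

section General

variable {R : Type u} [CommRing R]
variable {σ : Type u} [SetLike σ R] [AddSubgroupClass σ R] {𝒜 : ℤ → σ} [GradedRing 𝒜]
variable {M : Type u} [AddCommGroup M] [Module R M] {τ : Type u} [SetLike τ M] [AddSubgroupClass τ M]
  {ℳ : ℤ → τ} [DirectSum.Decomposition ℳ] [SetLike.GradedSMul 𝒜 ℳ]
variable (F : _root_.GrSyz.FreeRes 𝒜 ℳ)

/-- The terms of the resolution as graded modules. -/
noncomputable abbrev FF (i : ℕ) : _root_.GrLC.GMod.{u} 𝒜 := freeGMod 𝒜 (F.deg i)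

/-- The differentials between the graded terms. -/
noncomputable def dL (i : ℕ) : (FF F (i + 1)).carrier →ₗ[R] (FF F i).carrier := F.dLin i

theorem dL_isGrHom (i : ℕ) : _root_.GrLC.IsGrHom (FF F (i + 1)).gr (FF F i).gr (dL F i) := by
  intro g v hv
  refine (mem_freeGr (𝒜 := 𝒜) (F.deg i)).2 fun a => ?_
  have hv' := (mem_freeGr (𝒜 := 𝒜) (F.deg (i + 1))).1 hv
  change ∑ b, F.d i a b * v b ∈ 𝒜 (g - F.deg i a)
  refine sum_mem fun b _ => ?_
  have h := SetLike.mul_mem_graded (F.d_mem i a b) (hv' b)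
  rwa [show F.deg (i + 1) b - F.deg i a + (g - F.deg (i + 1) b) = g - F.deg i a by ring] at h

/-- The syzygy modules `range (d_i) ⊆ F_i`. -/
noncomputable def ZZ (i : ℕ) : _root_.GrLC.GMod.{u} 𝒜 :=
  subGMod 𝒜 (FF F i).gr (isHomogeneous_range (𝒩 := (FF F i).gr) _ (dL_isGrHom F i))

/-- The inclusion of a syzygy module. -/
noncomputable def zIncl (i : ℕ) : (ZZ F i).carrier →ₗ[R] (FF F i).carrier :=
  (LinearMap.range (dL F i)).subtype

/-- The projection onto a syzygy module. -/
noncomputable def zProj (i : ℕ) : (FF F (i + 1)).carrier →ₗ[R] (ZZ F i).carrier :=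
  (dL F i).rangeRestrict

/-- The augmentation on the graded term. -/
noncomputable def augL : (FF F 0).carrier →ₗ[R] M := F.augLin

theorem zIncl_injective (i : ℕ) : Function.Injective (zIncl F i) := Submodule.injective_subtype _

theorem zProj_surjective (i : ℕ) : Function.Surjective (zProj F i) :=
  (dL F i).surjective_rangeRestrict

theorem zIncl_isGrHom (i : ℕ) : _root_.GrLC.IsGrHom (ZZ F i).gr (FF F i).gr (zIncl F i) :=
  fun _ _ hm => hm

theorem zIncl_isGrHomDeg (i : ℕ) :
    _root_.GrLC.IsGrHomDeg (ZZ F i).gr (FF F i).gr (zIncl F i) 0 := fun g m hm => by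
  rw [add_zero]; exact hm

theorem zProj_isGrHom (i : ℕ) : _root_.GrLC.IsGrHom (FF F (i + 1)).gr (ZZ F i).gr (zProj F i) :=
  fun g m hm => dL_isGrHom F i g m hm

theorem exact_zIncl_zProj (i : ℕ) : Function.Exact (zIncl F (i + 1)) (zProj F i) := by
  intro v
  constructor
  · intro hv
    have h : v ∈ LinearMap.ker (F.dLin i) := congrArg Subtype.val hv
    rw [F.exact_succ i] at h
    exact ⟨⟨v, h⟩, rfl⟩
  · rintro ⟨w, rfl⟩
    have h : w.1 ∈ LinearMap.ker (F.dLin i) := by rw [F.exact_succ i]; exact w.2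
    exact Subtype.ext h

theorem augL_surjective : Function.Surjective (augL F) := F.aug_surjective

theorem augL_isGrHom : _root_.GrLC.IsGrHom (FF F 0).gr ℳ (augL F) :=
  linearCombination_isGrHom (𝒜 := 𝒜) (F.deg 0) F.aug_mem

theorem exact_zIncl_augL : Function.Exact (zIncl F 0) (augL F) := by
  intro v
  constructor
  · intro hv
    have h : v ∈ LinearMap.ker F.augLin := hv
    rw [F.exact_zero] at h
    exact ⟨⟨v, h⟩, rfl⟩
  · rintro ⟨w, rfl⟩
    have h : w.1 ∈ LinearMap.ker F.augLin := by rw [F.exact_zero]; exact w.2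
    exact h

theorem subsingleton_ZZ {i : ℕ} (h : F.rk (i + 1) = 0) : Subsingleton (ZZ F i).carrier := by
  have hb : LinearMap.range (dL F i) = ⊥ := by
    haveI : IsEmpty (Fin (F.rk (i + 1))) := by rw [h]; exact Fin.isEmpty
    haveI : Subsingleton (FF F (i + 1)).carrier :=
      inferInstanceAs (Subsingleton (Fin (F.rk (i + 1)) → R))
    exact LinearMap.range_eq_bot.2 (LinearMap.ext fun v => by
      rw [Subsingleton.elim v 0, map_zero, map_zero])
  exact Submodule.subsingleton_iff_eq_bot.2 hb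

theorem freeProj_comp_dL (i : ℕ) (b : Fin (F.rk i)) :
    (freeProj 𝒜 (F.deg i) b) ∘ₗ (dL F i) =
      ∑ b', F.d i b b' • freeProj 𝒜 (F.deg (i + 1)) b' := by
  refine LinearMap.ext fun v => ?_
  rw [LinearMap.sum_apply]
  rfl

variable [IsNoetherianRing R] (a : HomogeneousIdeal 𝒜)

/-- A downward induction along the resolution. -/
theorem gr_ZZ_eq_bot {L : ℕ} (hL : F.HasLengthLE L) (P : ℕ → ℕ → ℤ → Prop)
    (hF : ∀ i p n, P i p n → LC.gr (FF F (i + 1)).gr a p n = ⊥)
    (hstep : ∀ i p n, P i p n → P (i + 1) (p + 1) n) :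
    ∀ i p n, P i p n → LC.gr (ZZ F i).gr a p n = ⊥ := by
  suffices H : ∀ (t i : ℕ), L ≤ i + t → ∀ p n, P i p n → LC.gr (ZZ F i).gr a p n = ⊥ from
    fun i => H L i (by omega)
  intro t
  induction t with
  | zero =>
    intro i hi p n _
    haveI := subsingleton_ZZ F (hL (i + 1) (by omega))
    rcases p with - | p
    · exact LC.gr_zero_eq_bot a fun m _ _ => Subsingleton.elim _ _
    · haveI := LocCohElt.subsingleton_of_powerTorsion a.toIdeal p (ZZ F i).carrier
        fun x => ⟨0, fun r _ => Subsingleton.elim _ _⟩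
      exact (AddSubgroup.eq_bot_iff_forall _).2 fun y _ => Subsingleton.elim y 0
  | succ t ih =>
    intro i hi p n hP
    refine (AddSubgroup.eq_bot_iff_forall _).2 fun x hx => ?_
    have hδ := LC.δ_mem_gr a p (zIncl_injective F (i + 1)) (exact_zIncl_zProj F i)
      (zProj_surjective F i) (zIncl_isGrHom F (i + 1)) (zProj_isGrHom F i) hx
    obtain ⟨y, hy, rfl⟩ := LC.exists_map_eq_of_δ_eq_zero a p (zIncl_injective F (i + 1))
      (exact_zIncl_zProj F i) (zProj_surjective F i) (zProj_isGrHom F i) hx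
      ((AddSubgroup.eq_bot_iff_forall _).1 (ih (i + 1) (by omega) (p + 1) n (hstep i p n hP)) _ hδ)
    rw [(AddSubgroup.eq_bot_iff_forall _).1 (hF i p n hP) y hy, map_zero]

/-- Vanishing for the resolved module. -/
theorem gr_eq_bot_of_ZZ {p : ℕ} {n : ℤ} (hF : LC.gr (FF F 0).gr a p n = ⊥)
    (hZ : LC.gr (ZZ F 0).gr a (p + 1) n = ⊥) : LC.gr ℳ a p n = ⊥ := by
  refine (AddSubgroup.eq_bot_iff_forall _).2 fun x hx => ?_
  have hδ := LC.δ_mem_gr a p (zIncl_injective F 0) (exact_zIncl_augL F) (augL_surjective F)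
    (zIncl_isGrHom F 0) (augL_isGrHom F) hx
  obtain ⟨y, hy, rfl⟩ := LC.exists_map_eq_of_δ_eq_zero a p (zIncl_injective F 0)
    (exact_zIncl_augL F) (augL_surjective F) (augL_isGrHom F) hx
    ((AddSubgroup.eq_bot_iff_forall _).1 hZ _ hδ)
  rw [(AddSubgroup.eq_bot_iff_forall _).1 hF y hy, map_zero]

end General

section Poly

variable {k : Type u} [Field k] {N : ℕ}
variable {M : Type u} [AddCommGroup M] [Module (MvPolynomial (Fin N) k) M]
  {τ : Type u} [SetLike τ M] [AddSubgroupClass τ M] {ℳ : ℤ → τ} [DirectSum.Decomposition ℳ]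
  [SetLike.GradedSMul (_root_.GrSyz.stdGr k (Fin N)) ℳ]
variable (F : _root_.GrSyz.FreeRes (_root_.GrSyz.stdGr k (Fin N)) ℳ)

theorem hasLengthLE_of_minimal (hF : F.IsMinimal (irrelS k N).toIdeal) : F.HasLengthLE N :=
  (pd_le_iff_hasLengthLE F stdGr_eq_zero_of_neg hF N).2 (pd_mvPolynomial N M)

theorem gr_FF_eq_bot {i p : ℕ} {n : ℤ}
    (h : p ≠ N ∨ ∀ b, F.deg i b < n + (N : ℤ)) : LC.gr (FF F i).gr (irrelS k N) p n = ⊥ := by
  refine LC.gr_free_eq_bot (irrelS k N) p (F.deg i) fun b => gr_poly_eq_bot k N ?_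
  exact h.imp id fun h => by have := h b; omega

/-- A resolution generated in degrees `≤ d + i` bounds local cohomology. -/
theorem gr_eq_bot_of_isGenLE {L : ℕ} (hL : F.HasLengthLE L) {d : ℤ} (hd : F.IsGenLE d) {p : ℕ}
    {n : ℤ} (hn : d < n + (p : ℤ)) : LC.gr ℳ (irrelS k N) p n = ⊥ := by
  refine gr_eq_bot_of_ZZ F (irrelS k N) (gr_FF_eq_bot F ?_)
    (gr_ZZ_eq_bot F (irrelS k N) hL (fun i q m => d + i + 1 < m + q) (fun i q m h => gr_FF_eq_bot F ?_)
      (fun i q m h => by push_cast; omega) 0 (p + 1) n (by push_cast; omega))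
  · by_cases hp : p = N
    · refine Or.inr fun b => ?_
      have := hd 0 b
      subst hp
      push_cast at this
      omega
    · exact Or.inl hp
  · by_cases hq : q = N
    · refine Or.inr fun b => ?_
      have := hd (i + 1) b
      subst hq
      push_cast at this
      omega
    · exact Or.inl hq

theorem gr_ZZ_eq_bot_of_gt {L : ℕ} (hL : F.HasLengthLE L) {i p : ℕ} (hp : N < p) (n : ℤ) :
    LC.gr (ZZ F i).gr (irrelS k N) p n = ⊥ :=
  gr_ZZ_eq_bot F (irrelS k N) hL (fun _ q _ => N < q)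
    (fun i q m h => gr_FF_eq_bot F (Or.inl (by omega))) (fun i q m h => by omega) i p n hp

/-- Descending a nonzero class from a syzygy module to the module. -/
theorem exists_gr_ne_bot_of_ZZ {D : ℤ} (hD : ∀ i b, F.deg i b ≤ D + i) :
    ∀ (j p : ℕ) (n : ℤ), n + p = D + j + 1 → LC.gr (ZZ F j).gr (irrelS k N) p n ≠ ⊥ →
      ∃ q : ℕ, LC.gr ℳ (irrelS k N) q (D - q) ≠ ⊥ := by
  intro j
  induction j with
  | zero =>
    intro p n hn hne
    have hbot : LC.gr (FF F 0).gr (irrelS k N) p n = ⊥ := gr_FF_eq_bot F (by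
      by_cases hp : p = N
      · refine Or.inr fun b => ?_
        have := hD 0 b
        subst hp
        push_cast at this hn
        omega
      · exact Or.inl hp)
    rcases p with - | p
    · refine absurd ((AddSubgroup.eq_bot_iff_forall _).2 fun x hx => ?_) hne
      refine LocCohElt.map_zero_injective _ (zIncl_injective F 0) ?_
      rw [map_zero]
      exact (AddSubgroup.eq_bot_iff_forall _).1 hbot _
        (LC.map_mem_gr (irrelS k N) 0 (zIncl_isGrHom F 0) hx)
    · refine ⟨p, fun hM => hne ((AddSubgroup.eq_bot_iff_forall _).2 fun x hx => ?_)⟩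
      obtain ⟨y, hy, rfl⟩ := LC.exists_δ_eq_of_map_eq_zero (irrelS k N) p (zIncl_injective F 0)
        (exact_zIncl_augL F) (augL_surjective F) (zIncl_isGrHomDeg F 0) (augL_isGrHom F) hx
        ((AddSubgroup.eq_bot_iff_forall _).1 hbot _
          (LC.map_mem_gr (irrelS k N) (p + 1) (zIncl_isGrHom F 0) hx))
      rw [add_zero] at hy
      rw [show D - (p : ℤ) = n by push_cast at hn; omega] at hM
      rw [(AddSubgroup.eq_bot_iff_forall _).1 hM y hy, map_zero]
  | succ j ih =>
    intro p n hn hne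
    have hbot : LC.gr (FF F (j + 1)).gr (irrelS k N) p n = ⊥ := gr_FF_eq_bot F (by
      by_cases hp : p = N
      · refine Or.inr fun b => ?_
        have := hD (j + 1) b
        subst hp
        push_cast at this hn
        omega
      · exact Or.inl hp)
    rcases p with - | p
    · refine absurd ((AddSubgroup.eq_bot_iff_forall _).2 fun x hx => ?_) hne
      refine LocCohElt.map_zero_injective _ (zIncl_injective F (j + 1)) ?_
      rw [map_zero]
      exact (AddSubgroup.eq_bot_iff_forall _).1 hbot _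
        (LC.map_mem_gr (irrelS k N) 0 (zIncl_isGrHom F (j + 1)) hx)
    · refine ih p n (by push_cast at hn; omega) fun hM => hne ?_
      refine (AddSubgroup.eq_bot_iff_forall _).2 fun x hx => ?_
      obtain ⟨y, hy, rfl⟩ := LC.exists_δ_eq_of_map_eq_zero (irrelS k N) p (zIncl_injective F (j + 1))
        (exact_zIncl_zProj F j) (zProj_surjective F j) (zIncl_isGrHomDeg F (j + 1))
        (zProj_isGrHom F j) hx ((AddSubgroup.eq_bot_iff_forall _).1 hbot _
          (LC.map_mem_gr (irrelS k N) (p + 1) (zIncl_isGrHom F (j + 1)) hx))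
      rw [add_zero] at hy
      rw [(AddSubgroup.eq_bot_iff_forall _).1 hM y hy, map_zero]

/-- A generator of maximal `deg - i` and maximal index gives a class not coming from the syzygies. -/
theorem exists_top_class (hF : F.IsMinimal (irrelS k N).toIdeal) {i : ℕ} {b : Fin (F.rk i)}
    (hle : ∀ b', F.deg (i + 1) b' ≤ F.deg i b) :
    ∃ x ∈ LC.gr (FF F i).gr (irrelS k N) N (F.deg i b - N),
      ∀ y ∈ LC.gr (ZZ F i).gr (irrelS k N) N (F.deg i b - N),
        LocCohElt.map (irrelS k N).toIdeal N (zIncl F i) y ≠ x := by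
  obtain ⟨c, hc, hc0⟩ : ∃ c ∈ LC.gr (_root_.GrSyz.stdGr k (Fin N)) (irrelS k N) N (-(N : ℤ)), c ≠ 0 := by
    by_contra h
    push Not at h
    exact gr_poly_ne_bot k N ((AddSubgroup.eq_bot_iff_forall _).2 h)
  refine ⟨LocCohElt.map (irrelS k N).toIdeal N (freeInj _ (F.deg i) b) c, ?_, fun y hy hxy => ?_⟩
  · have h : LocCohElt.map (irrelS k N).toIdeal N (freeInj _ (F.deg i) b) c ∈
        LC.gr (FF F i).gr (irrelS k N) N (-(N : ℤ) + F.deg i b) :=
      LC.map_mem_gr_deg (irrelS k N) N (freeInj_isGrHomDeg _ (F.deg i) b) hc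
    rwa [neg_add_eq_sub] at h
  · have hL := hasLengthLE_of_minimal F hF
    have hδ := LC.δ_mem_gr (irrelS k N) N (zIncl_injective F (i + 1)) (exact_zIncl_zProj F i)
      (zProj_surjective F i) (zIncl_isGrHom F (i + 1)) (zProj_isGrHom F i) hy
    obtain ⟨z, hz, rfl⟩ := LC.exists_map_eq_of_δ_eq_zero (irrelS k N) N (zIncl_injective F (i + 1))
      (exact_zIncl_zProj F i) (zProj_surjective F i) (zProj_isGrHom F i) hy
      ((AddSubgroup.eq_bot_iff_forall _).1
        (gr_ZZ_eq_bot_of_gt F hL (Nat.lt_succ_self N) _) _ hδ)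
    refine hc0 ?_
    have key := congrArg (LocCohElt.map (irrelS k N).toIdeal N (freeProj _ (F.deg i) b)) hxy
    rw [LocCohElt.map_comp, LocCohElt.map_comp, LocCohElt.map_comp, freeProj_freeInj,
      LocCohElt.map_id] at key
    rw [← key, show ((freeProj _ (F.deg i) b) ∘ₗ (zIncl F i)) ∘ₗ (zProj F i) =
      (freeProj _ (F.deg i) b) ∘ₗ (dL F i) from rfl, freeProj_comp_dL, LocCohElt.map_sum_hom]
    refine Finset.sum_eq_zero fun b' _ => ?_
    rw [LocCohElt.map_smul_hom]
    rcases (hle b').lt_or_eq with h | h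
    · rw [(AddSubgroup.eq_bot_iff_forall _).1 (gr_poly_eq_bot k N (Or.inr (by omega))) _
        (LC.freeProj_mem_gr (irrelS k N) N (F.deg (i + 1)) b' hz), smul_zero]
    · have hmem := F.d_mem i b b'
      rw [h, sub_self] at hmem
      have h0 := (mem_irrel_iff stdGr_eq_zero_of_neg).1 (hF i b b')
      rw [cpt_of_mem _ hmem] at h0
      rw [h0, zero_smul]

/-- The converse bound for a minimal resolution. -/
theorem isGenLE_of_gr_eq_bot (hF : F.IsMinimal (irrelS k N).toIdeal) {d : ℤ}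
    (h : ∀ (p : ℕ) (n : ℤ), d < n + (p : ℤ) → LC.gr ℳ (irrelS k N) p n = ⊥) : F.IsGenLE d := by
  intro i₀ b₀
  by_contra hlt
  push Not at hlt
  have hL := hasLengthLE_of_minimal F hF
  have hi : ∀ i, Fin (F.rk i) → i < N + 1 := fun i b => by
    by_contra h
    exact Fin.elim0 (hL i (by omega) ▸ b)
  let T : Finset (Σ i : Fin (N + 1), Fin (F.rk i)) := Finset.univ
  obtain ⟨⟨i₁, b₁⟩, -, hmax⟩ := T.exists_max_image (fun s => F.deg s.1 s.2 - (s.1 : ℤ))
    ⟨⟨⟨i₀, hi i₀ b₀⟩, b₀⟩, Finset.mem_univ _⟩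
  let D := F.deg i₁ b₁ - (i₁ : ℤ)
  have hD : ∀ i b, F.deg i b ≤ D + i := fun i b => by
    have := hmax ⟨⟨i, hi i b⟩, b⟩ (Finset.mem_univ _)
    change F.deg i b - (i : ℤ) ≤ D at this
    omega
  have hdD : d < D := by have := hD i₀ b₀; omega
  let T' := T.filter fun s => F.deg s.1 s.2 - (s.1 : ℤ) = D
  obtain ⟨⟨⟨i, hiN⟩, b⟩, hmem, hmaxi⟩ := T'.exists_max_image (fun s => (s.1 : ℕ))
    ⟨⟨i₁, b₁⟩, Finset.mem_filter.2 ⟨Finset.mem_univ _, rfl⟩⟩
  have he : F.deg i b = D + i := by
    have := (Finset.mem_filter.1 hmem).2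
    change F.deg i b - (i : ℤ) = D at this
    omega
  have hle : ∀ b', F.deg (i + 1) b' ≤ F.deg i b := fun b' => by
    have h1 := hD (i + 1) b'
    by_contra hc
    push Not at hc
    have := hmaxi ⟨⟨i + 1, hi _ b'⟩, b'⟩ (Finset.mem_filter.2 ⟨Finset.mem_univ _, by
      change F.deg (i + 1) b' - ((i + 1 : ℕ) : ℤ) = D
      push_cast at h1 ⊢
      omega⟩)
    change i + 1 ≤ i at this
    omega
  obtain ⟨x, hx, hxne⟩ := exists_top_class F hF hle
  rcases i with - | i
  · refine hxne 0 (zero_mem _) ?_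
    rw [map_zero]
    by_contra hx0
    obtain ⟨y, hy, hyx⟩ := LC.exists_map_eq_of_map_eq_zero (irrelS k N) N (zIncl_injective F 0)
      (exact_zIncl_augL F) (augL_surjective F) (zIncl_isGrHomDeg F 0) hx
      ((AddSubgroup.eq_bot_iff_forall _).1 (h N (F.deg 0 b - N) (by push_cast at he; omega)) _
        (LC.map_mem_gr (irrelS k N) N (augL_isGrHom F) hx))
    rw [sub_zero] at hy
    exact hxne y hy hyx
  · obtain ⟨q, hq⟩ := exists_gr_ne_bot_of_ZZ F hD i N (F.deg (i + 1) b - N)
      (by push_cast at he ⊢; omega) fun hZ => by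
        obtain ⟨y, hy, hyx⟩ := LC.exists_map_eq_of_map_eq_zero (irrelS k N) N
          (zIncl_injective F (i + 1)) (exact_zIncl_zProj F i) (zProj_surjective F i)
          (zIncl_isGrHomDeg F (i + 1)) hx
          ((AddSubgroup.eq_bot_iff_forall _).1 hZ _
            (LC.map_mem_gr (irrelS k N) N (zProj_isGrHom F i) hx))
        rw [sub_zero] at hy
        exact hxne y hy hyx
    exact hq (h q (D - q) (by omega))

end Poly

end Groth.Agent.GrSyz
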