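import Groth.Agent.GrSyz.Std
import Mathlib.Algebra.Order.Antidiag.FinsuppEquiv
import Mathlib.RingTheory.MvPolynomial.Basic
import Mathlib.LinearAlgebra.FiniteDimensional.Basic
import Mathlib.LinearAlgebra.FiniteDimensional.Lemmas
import Mathlib.LinearAlgebra.Dimension.Constructions
import Mathlib.RingTheory.Polynomial.Pochhammer

/-!
# Hilbert functions from finite graded free resolutions

* `finrank_stdGr`: dimensions of the graded pieces of a polynomial ring;
* `finrank_piece_eq_sum`: Euler characteristic of a finite graded free resolution;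
* `binomPoly`: the binomial coefficient as a polynomial.
-/

set_option autoImplicit false
set_option linter.unusedSectionVars false
universe u

open DirectSum

namespace Groth.Agent.GrSyz

open Groth.Agent.GrLC

variable {k : Type u} [Field k] {r : ℕ}

theorem setOf_weight_eq_nat (e : ℕ) :
    {d : Fin (r + 1) →₀ ℕ | Finsupp.weight (fun _ : Fin (r + 1) => (1 : ℤ)) d = e} =
      ↑((Finset.univ : Finset (Fin (r + 1))).finsuppAntidiag e) := by
  ext d
  simp [Finset.mem_finsuppAntidiag, Finsupp.weight_apply, Finsupp.sum_fintype, ← Nat.cast_sum]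

theorem stdGr_eq_supported (e : ℤ) : _root_.GrSyz.stdGr k (Fin (r + 1)) e =
    MvPolynomial.restrictSupport k {d | Finsupp.weight (fun _ : Fin (r + 1) => (1 : ℤ)) d = e} :=
  MvPolynomial.weightedHomogeneousSubmodule_eq_finsupp_supported k _ e

theorem finrank_stdGr (e : ℤ) :
    Module.Finite k (_root_.GrSyz.stdGr k (Fin (r + 1)) e) ∧
      (Module.finrank k (_root_.GrSyz.stdGr k (Fin (r + 1)) e) : ℤ) =
        if 0 ≤ e then ((Nat.choose (r + e.toNat) r : ℕ) : ℤ) else 0 := by
  rcases lt_or_ge e 0 with he | he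
  · have hbot : _root_.GrSyz.stdGr k (Fin (r + 1)) e = ⊥ :=
      (Submodule.eq_bot_iff _).2 fun x hx => stdGr_eq_zero_of_neg e he x hx
    rw [hbot, if_neg (not_le.2 he)]
    exact ⟨inferInstance, by simp⟩
  · obtain ⟨n, rfl⟩ := Int.eq_ofNat_of_zero_le he
    rw [if_pos he, Int.toNat_natCast, stdGr_eq_supported, setOf_weight_eq_nat]
    refine ⟨Module.Finite.of_basis (MvPolynomial.basisRestrictSupport k _), ?_⟩
    rw [Module.finrank_eq_nat_card_basis (MvPolynomial.basisRestrictSupport k _)]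
    simp only [SetLike.coe_sort_coe, Nat.card_eq_fintype_card, Fintype.card_coe,
      Finset.card_finsuppAntidiag_nat_eq_choose, Finset.card_univ, Fintype.card_fin]
    rw [show r + 1 + n - 1 = r + n by omega, Nat.choose_symm_add]

variable {M : Type u} [AddCommGroup M] [Module k M] [Module (MvPolynomial (Fin (r + 1)) k) M]
    [IsScalarTower k (MvPolynomial (Fin (r + 1)) k) M]
    {ℳ : ℤ → Submodule k M} [DirectSum.Decomposition ℳ]
    [SetLike.GradedSMul (_root_.GrSyz.stdGr k (Fin (r + 1))) ℳ]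
    (F : _root_.GrSyz.FreeRes (_root_.GrSyz.stdGr k (Fin (r + 1))) ℳ)

/-- The degree `d` piece of the `i`-th term. -/
noncomputable def freePiece (i : ℕ) (d : ℤ) : Submodule k (Fin (F.rk i) → MvPolynomial (Fin (r + 1)) k) :=
  Submodule.pi Set.univ fun b => _root_.GrSyz.stdGr k (Fin (r + 1)) (d - F.deg i b)

theorem mem_freePiece {i : ℕ} {d : ℤ} {v : Fin (F.rk i) → MvPolynomial (Fin (r + 1)) k} :
    v ∈ freePiece F i d ↔ ∀ b, v b ∈ _root_.GrSyz.stdGr k (Fin (r + 1)) (d - F.deg i b) := by
  simp [freePiece]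

/-- A piece of a free module as a product. -/
noncomputable def freePieceEquiv (i : ℕ) (d : ℤ) : freePiece F i d ≃ₗ[k]
    ((b : Fin (F.rk i)) → _root_.GrSyz.stdGr k (Fin (r + 1)) (d - F.deg i b)) where
  toFun v b := ⟨v.1 b, (mem_freePiece F).1 v.2 b⟩
  invFun w := ⟨fun b => (w b).1, (mem_freePiece F).2 fun b => (w b).2⟩
  map_add' _ _ := rfl
  map_smul' _ _ := rfl
  left_inv _ := rfl
  right_inv _ := rfl

instance finite_freePiece (i : ℕ) (d : ℤ) : Module.Finite k (freePiece F i d) :=
  have : ∀ b, Module.Finite k (_root_.GrSyz.stdGr k (Fin (r + 1)) (d - F.deg i b)) :=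
    fun b => (finrank_stdGr _).1
  Module.Finite.equiv (freePieceEquiv F i d).symm

theorem finrank_freePiece (i : ℕ) (d : ℤ) : (Module.finrank k (freePiece F i d) : ℤ) =
    ∑ b : Fin (F.rk i),
      if F.deg i b ≤ d then ((Nat.choose (r + (d - F.deg i b).toNat) r : ℕ) : ℤ) else 0 := by
  haveI : ∀ b, Module.Finite k (_root_.GrSyz.stdGr k (Fin (r + 1)) (d - F.deg i b)) :=
    fun b => (finrank_stdGr _).1
  rw [(freePieceEquiv F i d).finrank_eq, Module.finrank_pi_fintype, Nat.cast_sum]
  refine Finset.sum_congr rfl fun b _ => ?_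
  rw [(finrank_stdGr _).2]
  simp only [sub_nonneg]

theorem dLin_mem_freePiece (i : ℕ) {d : ℤ} {v : Fin (F.rk (i + 1)) → MvPolynomial (Fin (r + 1)) k}
    (hv : v ∈ freePiece F (i + 1) d) : F.dLin i v ∈ freePiece F i d := by
  refine (mem_freePiece F).2 fun a => ?_
  change ∑ b, F.d i a b * v b ∈ _
  refine sum_mem fun b _ => ?_
  rw [show d - F.deg i a = (F.deg (i + 1) b - F.deg i a) + (d - F.deg (i + 1) b) by ring]
  exact SetLike.mul_mem_graded (F.d_mem i a b) ((mem_freePiece F).1 hv b)

/-- A differential in degree `d`. -/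
noncomputable def dPiece (i : ℕ) (d : ℤ) : freePiece F (i + 1) d →ₗ[k] freePiece F i d :=
  ((F.dLin i).restrictScalars k).restrict fun _ hv => dLin_mem_freePiece F i hv

theorem augLin_mem {d : ℤ} {v : Fin (F.rk 0) → MvPolynomial (Fin (r + 1)) k}
    (hv : v ∈ freePiece F 0 d) : F.augLin v ∈ ℳ d := by
  rw [Fintype.linearCombination_apply]
  refine sum_mem fun b _ => ?_
  have := smul_mem_gr (𝒜 := _root_.GrSyz.stdGr k (Fin (r + 1))) (ℳ := ℳ)
    ((mem_freePiece F).1 hv b) (F.aug_mem b)
  rwa [sub_add_cancel] at this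

/-- The augmentation in degree `d`. -/
noncomputable def augPiece (d : ℤ) : freePiece F 0 d →ₗ[k] ℳ d :=
  ((F.augLin).restrictScalars k).restrict fun _ hv => augLin_mem F hv

theorem augPiece_surjective (d : ℤ) : Function.Surjective (augPiece F d) := by
  intro m
  obtain ⟨B, hB, hBm⟩ := exists_lift_aug (𝒜 := _root_.GrSyz.stdGr k (Fin (r + 1))) (ℳ := ℳ)
    (q := fun _ : Fin 1 => d) F.aug_mem (w := fun _ => m.1) (fun _ => m.2) fun _ => by
      rw [LinearMap.range_eq_top.2 F.aug_surjective]; trivial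
  exact ⟨⟨fun b => B b 0, (mem_freePiece F).2 fun b => hB b 0⟩,
    Subtype.ext ((Fintype.linearCombination_apply _ _ _).trans (hBm 0))⟩

theorem mem_range_dPiece {i : ℕ} {d : ℤ} (v : freePiece F i d)
    (hv : v.1 ∈ LinearMap.range (F.dLin i)) : v ∈ LinearMap.range (dPiece F i d) := by
  obtain ⟨B, hB, hBv⟩ := exists_lift (𝒜 := _root_.GrSyz.stdGr k (Fin (r + 1))) (q := fun _ : Fin 1 => d)
    (d_isGrMat F i) (A := Matrix.of fun a (_ : Fin 1) => v.1 a)
    (fun a _ => (mem_freePiece F).1 v.2 a) fun _ => hv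
  refine ⟨⟨fun b => B b 0, (mem_freePiece F).2 fun b => hB b 0⟩, Subtype.ext (funext fun a => ?_)⟩
  have := congrFun (congrFun hBv a) 0
  change ∑ z, F.d i a z * B z 0 = _
  simpa [Matrix.mul_apply] using this

theorem ker_augPiece (d : ℤ) : LinearMap.ker (augPiece F d) = LinearMap.range (dPiece F 0 d) := by
  refine le_antisymm (fun v hv => mem_range_dPiece F v ?_) ?_
  · rw [← F.exact_zero]
    exact congrArg Subtype.val hv
  · rintro _ ⟨w, rfl⟩
    exact Subtype.ext (LinearMap.mem_ker.1 (F.exact_zero.ge ⟨w.1, rfl⟩))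

theorem ker_dPiece (i : ℕ) (d : ℤ) :
    LinearMap.ker (dPiece F i d) = LinearMap.range (dPiece F (i + 1) d) := by
  refine le_antisymm (fun v hv => mem_range_dPiece F v ?_) ?_
  · rw [← F.exact_succ i]
    exact congrArg Subtype.val hv
  · rintro _ ⟨w, rfl⟩
    exact Subtype.ext (LinearMap.mem_ker.1 ((F.exact_succ i).ge ⟨w.1, rfl⟩))

/-- The Euler characteristic computes the Hilbert function. -/
theorem finrank_piece_eq_sum (m : ℕ) (hF : F.HasLengthLE m) (d : ℤ) :
    (Module.finrank k (ℳ d) : ℤ) = ∑ i ∈ Finset.range (m + 1), (-1 : ℤ) ^ i * ∑ b : Fin (F.rk i),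
      (if F.deg i b ≤ d then ((Nat.choose (r + (d - F.deg i b).toNat) r : ℕ) : ℤ) else 0) := by
  simp only [← finrank_freePiece]
  let ρ : ℕ → ℤ := fun i => (Module.finrank k (LinearMap.range (dPiece F i d)) : ℤ)
  have h0 : (Module.finrank k (freePiece F 0 d) : ℤ) = Module.finrank k (ℳ d) + ρ 0 := by
    have := (augPiece F d).finrank_range_add_finrank_ker
    rw [LinearMap.range_eq_top.2 (augPiece_surjective F d), finrank_top, ker_augPiece] at this
    simp only [ρ]; exact_mod_cast this.symm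
  have hs : ∀ i, (Module.finrank k (freePiece F (i + 1) d) : ℤ) = ρ i + ρ (i + 1) := fun i => by
    have := (dPiece F i d).finrank_range_add_finrank_ker
    rw [ker_dPiece] at this
    simp only [ρ]; exact_mod_cast this.symm
  have key : ∀ n : ℕ, (Module.finrank k (ℳ d) : ℤ) + (-1) ^ n * ρ n =
      ∑ i ∈ Finset.range (n + 1), (-1 : ℤ) ^ i * Module.finrank k (freePiece F i d) := by
    intro n
    induction n with
    | zero => simp [h0]
    | succ n ih => rw [Finset.sum_range_succ, ← ih, hs, pow_succ]; ring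
  have hm : ρ m = 0 := by
    have hz : F.rk (m + 1) = 0 := hF _ (by omega)
    haveI : IsEmpty (Fin (F.rk (m + 1))) := by rw [hz]; exact Fin.isEmpty
    have : LinearMap.range (dPiece F m d) = ⊥ := LinearMap.range_eq_bot.2 (LinearMap.ext fun v => by
      rw [Subsingleton.elim v 0, map_zero, map_zero])
    simp [ρ, this]
  have := key m
  rw [hm, mul_zero, add_zero] at this
  exact this

/-- The polynomial `x ↦ C(x + s, r)`. -/
noncomputable def binomPoly (r : ℕ) (s : ℤ) : Polynomial ℚ :=
  Polynomial.C ((r.factorial : ℚ)⁻¹) *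
    (descPochhammer ℚ r).comp (Polynomial.X + Polynomial.C (s : ℚ))

theorem eval_binomPoly (r : ℕ) (s d : ℤ) (n : ℕ) (h : d + s = n) :
    (binomPoly r s).eval (d : ℚ) = (n.choose r : ℚ) := by
  simp only [binomPoly, Polynomial.eval_mul, Polynomial.eval_C, Polynomial.eval_comp,
    Polynomial.eval_add, Polynomial.eval_X]
  rw [← Int.cast_add, h, Int.cast_natCast, descPochhammer_eval_eq_descFactorial,
    Nat.descFactorial_eq_factorial_mul_choose, Nat.cast_mul, ← mul_assoc,
    inv_mul_cancel₀ (Nat.cast_ne_zero.2 r.factorial_ne_zero), one_mul]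

end Groth.Agent.GrSyz
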