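import Groth.Agent.GrSyz.Basic
import Mathlib.RingTheory.Polynomial.Basic

/-!
# The standard grading of a polynomial ring over a field
-/

set_option autoImplicit false
universe u v

namespace Groth.Agent.GrSyz

variable {k : Type u} {σ : Type v}

theorem stdGr_degree_eq [CommRing k] {n : ℤ} {p : MvPolynomial σ k}
    (hp : p ∈ _root_.GrSyz.stdGr k σ n) {d : σ →₀ ℕ} (hd : MvPolynomial.coeff d p ≠ 0) :
    (d.degree : ℤ) = n := by
  have := hp hd
  rw [Finsupp.weight_apply, Finsupp.sum] at this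
  rw [← this, Finsupp.degree_apply, Nat.cast_sum]
  simp

theorem stdGr_eq_zero_of_neg [CommRing k] :
    ∀ n : ℤ, n < 0 → ∀ x ∈ _root_.GrSyz.stdGr k σ n, x = 0 := by
  intro n hn x hx
  ext d
  by_contra hd
  rw [MvPolynomial.coeff_zero] at hd
  have := stdGr_degree_eq hx hd
  omega

theorem stdGr_zero_eq_C [CommRing k] {x : MvPolynomial σ k} (hx : x ∈ _root_.GrSyz.stdGr k σ 0) :
    x = MvPolynomial.C (MvPolynomial.coeff 0 x) := by
  classical
  ext d
  rw [MvPolynomial.coeff_C]
  split_ifs with h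
  · rw [← h]
  · by_contra hd
    have hdeg := stdGr_degree_eq hx hd
    exact h ((Finsupp.degree_eq_zero_iff d).1 (by exact_mod_cast hdeg)).symm

theorem stdGr_isUnit [Field k] :
    ∀ x ∈ _root_.GrSyz.stdGr k σ 0, x ≠ 0 → IsUnit x := by
  intro x hx hne
  rw [stdGr_zero_eq_C hx]
  refine IsUnit.map MvPolynomial.C (isUnit_iff_ne_zero.2 fun h => hne ?_)
  rw [stdGr_zero_eq_C hx, h, map_zero]

end Groth.Agent.GrSyz
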