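import Groth.Agent.GrSyz.CohBound
import Groth.Agent.LocCoh.DepthVanishing

/-!
# Graded Auslander–Buchsbaum over a polynomial ring

`idealDepth_eq`: if a minimal resolution of `M` has length exactly `ℓ` then `depth_m M = N - ℓ`.
-/

set_option autoImplicit false
set_option linter.unusedSectionVars false
set_option linter.style.haveILetI false
set_option maxRecDepth 20000
universe u

open DirectSum Groth.Agent.GrLC

namespace Groth.Agent.GrSyz

variable {k : Type u} [Field k] {N : ℕ}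
variable {M : Type u} [AddCommGroup M] [Module (MvPolynomial (Fin N) k) M]
  {τ : Type u} [SetLike τ M] [AddSubgroupClass τ M] {ℳ : ℤ → τ} [DirectSum.Decomposition ℳ]
  [SetLike.GradedSMul (_root_.GrSyz.stdGr k (Fin N)) ℳ]
variable (F : _root_.GrSyz.FreeRes (_root_.GrSyz.stdGr k (Fin N)) ℳ)

/-- Vanishing below `N - pd`. -/
theorem gr_eq_bot_of_lt {L : ℕ} (hL : F.HasLengthLE L) {p : ℕ} (hp : p + L < N) (n : ℤ) :
    LC.gr ℳ (irrelS k N) p n = ⊥ := by
  refine gr_eq_bot_of_ZZ F (irrelS k N) (gr_FF_eq_bot F (Or.inl (by omega)))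
    (gr_ZZ_eq_bot F (irrelS k N) hL (fun i q _ => q + L ≤ N + i) (fun i q m h => ?_)
      (fun i q m h => by omega) 0 (p + 1) n (by omega))
  refine gr_FF_eq_bot F ?_
  by_cases hi : i + 1 ≤ L
  · exact Or.inl (by omega)
  · exact Or.inr fun b => Fin.elim0 (hL (i + 1) (by omega) ▸ b)

/-- Descending a class killed in the free module. -/
theorem exists_gr_ne_bot_of_class : ∀ (j p : ℕ) (n : ℤ), p ≤ N →
    (∃ y ∈ LC.gr (ZZ F j).gr (irrelS k N) p n, y ≠ 0 ∧
      LocCohElt.map (irrelS k N).toIdeal p (zIncl F j) y = 0) →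
    ∃ q, p = q + (j + 1) ∧ LC.gr ℳ (irrelS k N) q n ≠ ⊥ := by
  intro j
  induction j with
  | zero =>
    rintro p n hpN ⟨y, hy, hy0, hmap⟩
    rcases p with - | p
    · exact absurd (LocCohElt.map_zero_injective _ (zIncl_injective F 0)
        (hmap.trans (map_zero _).symm)) hy0
    · obtain ⟨z, hz, rfl⟩ := LC.exists_δ_eq_of_map_eq_zero (irrelS k N) p (zIncl_injective F 0)
        (exact_zIncl_augL F) (augL_surjective F) (zIncl_isGrHomDeg F 0) (augL_isGrHom F) hy hmap
      rw [add_zero] at hz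
      refine ⟨p, by omega, fun hb => hy0 ?_⟩
      rw [(AddSubgroup.eq_bot_iff_forall _).1 hb z hz, map_zero]
  | succ j ih =>
    rintro p n hpN ⟨y, hy, hy0, hmap⟩
    rcases p with - | p
    · exact absurd (LocCohElt.map_zero_injective _ (zIncl_injective F (j + 1))
        (hmap.trans (map_zero _).symm)) hy0
    · obtain ⟨z, hz, rfl⟩ := LC.exists_δ_eq_of_map_eq_zero (irrelS k N) p (zIncl_injective F (j + 1))
        (exact_zIncl_zProj F j) (zProj_surjective F j) (zIncl_isGrHomDeg F (j + 1))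
        (zProj_isGrHom F j) hy hmap
      rw [add_zero] at hz
      obtain ⟨q, hq, hne⟩ := ih p n (by omega) ⟨z, hz, fun h => hy0 (by rw [h, map_zero]),
        (AddSubgroup.eq_bot_iff_forall _).1 (gr_FF_eq_bot F (Or.inl (by omega))) _
          (LC.map_mem_gr (irrelS k N) p (zIncl_isGrHom F j) hz)⟩
      exact ⟨q, by omega, hne⟩

/-- Nonvanishing at `N - pd`. -/
theorem exists_gr_ne_bot (hF : F.IsMinimal (irrelS k N).toIdeal) {ℓ : ℕ} (hL : F.HasLengthLE ℓ)
    (hℓ : F.rk ℓ ≠ 0) : ∃ (q : ℕ) (n : ℤ), q + ℓ = N ∧ LC.gr ℳ (irrelS k N) q n ≠ ⊥ := by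
  haveI : Nonempty (Fin (F.rk ℓ)) := ⟨⟨0, Nat.pos_of_ne_zero hℓ⟩⟩
  obtain ⟨b, hb⟩ := Finite.exists_max (F.deg ℓ)
  obtain ⟨x, hx, hxne⟩ := exists_top_class F hF (i := ℓ) (b := b)
    fun b' => Fin.elim0 (hL (ℓ + 1) (by omega) ▸ b')
  rcases ℓ with - | i
  · refine ⟨N, F.deg 0 b - N, rfl, fun hb => ?_⟩
    obtain ⟨y, hy, hyx⟩ := LC.exists_map_eq_of_map_eq_zero (irrelS k N) N (zIncl_injective F 0)
      (exact_zIncl_augL F) (augL_surjective F) (zIncl_isGrHomDeg F 0) hx
      ((AddSubgroup.eq_bot_iff_forall _).1 hb _ (LC.map_mem_gr (irrelS k N) N (augL_isGrHom F) hx))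
    rw [sub_zero] at hy
    exact hxne y hy hyx
  · let y := LocCohElt.map (irrelS k N).toIdeal N (zProj F i) x
    have hy : y ∈ LC.gr (ZZ F i).gr (irrelS k N) N (F.deg (i + 1) b - N) :=
      LC.map_mem_gr (irrelS k N) N (zProj_isGrHom F i) hx
    have hy0 : y ≠ 0 := fun h => by
      obtain ⟨z, hz, hzx⟩ := LC.exists_map_eq_of_map_eq_zero (irrelS k N) N
        (zIncl_injective F (i + 1)) (exact_zIncl_zProj F i) (zProj_surjective F i)
        (zIncl_isGrHomDeg F (i + 1)) hx h
      rw [sub_zero] at hz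
      exact hxne z hz hzx
    have hmap : LocCohElt.map (irrelS k N).toIdeal N (zIncl F i) y = 0 := by
      change LocCohElt.map _ N (zIncl F i) (LocCohElt.map _ N (zProj F i) x) = 0
      rw [LocCohElt.map_comp]
      rw [LC.eq_sum_map_free (irrelS k N) N (F.deg i) (LocCohElt.map _ N (zIncl F i ∘ₗ zProj F i) x)]
      refine Finset.sum_eq_zero fun a _ => ?_
      rw [LocCohElt.map_comp _ _ (f := zIncl F i ∘ₗ zProj F i),
        show (freeProj _ (F.deg i) a) ∘ₗ (zIncl F i ∘ₗ zProj F i) =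
          (freeProj _ (F.deg i) a) ∘ₗ (dL F i) from rfl, freeProj_comp_dL, LocCohElt.map_sum_hom]
      refine (congrArg _ (Finset.sum_eq_zero fun b' _ => ?_)).trans (map_zero _)
      rw [LocCohElt.map_smul_hom]
      have hc := LC.freeProj_mem_gr (irrelS k N) N (F.deg (i + 1)) b' hx
      have hd := F.d_mem i a b'
      have hdI := (mem_irrel_iff stdGr_eq_zero_of_neg).1 (hF i a b')
      rcases (hb b').lt_or_eq with hlt' | heq'
      · rw [(AddSubgroup.eq_bot_iff_forall _).1 (gr_poly_eq_bot k N (Or.inr (by omega))) _ hc,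
          smul_zero]
      rcases le_or_gt (F.deg (i + 1) b' - F.deg i a) 0 with hle | hlt
      · rcases hle.lt_or_eq with h | h
        · rw [stdGr_eq_zero_of_neg _ h _ hd, zero_smul]
        · rw [h] at hd
          rw [cpt_of_mem _ hd] at hdI
          rw [hdI, zero_smul]
      · rw [← LocCohElt.map_smul_id]
        refine (AddSubgroup.eq_bot_iff_forall _).1
          (gr_poly_eq_bot k N (p := N) (n := F.deg (i + 1) b - N - F.deg (i + 1) b' +
            (F.deg (i + 1) b' - F.deg i a)) ?_) _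
          (LC.map_mem_gr_deg (irrelS k N) N (LC.isGrHomDeg_smul
            (M := MvPolynomial (Fin N) k) (ℳ := _root_.GrSyz.stdGr k (Fin N)) hd) hc)
        right
        have h1 := hb b'
        omega
    obtain ⟨q, hq, hne⟩ := exists_gr_ne_bot_of_class F i N (F.deg (i + 1) b - N) le_rfl
      ⟨y, hy, hy0, hmap⟩
    exact ⟨q, _, hq.symm, hne⟩

theorem subsingleton_H_of_gr {R : Type u} [CommRing R] [IsNoetherianRing R] {σ : Type u} [SetLike σ R]
    [AddSubgroupClass σ R] {𝒜 : ℤ → σ} [GradedRing 𝒜] {M : Type u} [AddCommGroup M] [Module R M]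
    {τ : Type u} [SetLike τ M] [AddSubgroupClass τ M] (ℳ : ℤ → τ) [DirectSum.Decomposition ℳ]
    [SetLike.GradedSMul 𝒜 ℳ] (a : HomogeneousIdeal 𝒜) (i : ℕ) (h : ∀ n, LC.gr ℳ a i n = ⊥) :
    Subsingleton (LocCoh.H a.toIdeal i M) := by
  letI := LC.dec (ℳ := ℳ) a i
  refine subsingleton_of_forall_eq 0 fun x => eq_zero_of_cpt (LC.gr ℳ a i) fun g => ?_
  exact (AddSubgroup.eq_bot_iff_forall _).1 (h g) _ (cpt_mem _ g x)

/-- The graded Auslander–Buchsbaum formula. -/
theorem idealDepth_eq [Module.Finite (MvPolynomial (Fin N) k) M]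
    (hF : F.IsMinimal (irrelS k N).toIdeal) {ℓ : ℕ} (hL : F.HasLengthLE ℓ) (hℓ : F.rk ℓ ≠ 0) :
    (ℓ : ℕ∞) + LocCoh.idealDepth (irrelS k N).toIdeal M = (N : ℕ∞) := by
  obtain ⟨q, n, hq, hne⟩ := exists_gr_ne_bot F hF hL hℓ
  have hH : Nontrivial (LocCoh.H (irrelS k N).toIdeal q M) := by
    by_contra h
    rw [not_nontrivial_iff_subsingleton] at h
    exact hne ((AddSubgroup.eq_bot_iff_forall _).2 fun y _ => Subsingleton.elim y 0)
  have hIM : (irrelS k N).toIdeal • (⊤ : Submodule (MvPolynomial (Fin N) k) M) ≠ ⊤ := by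
    intro htop
    obtain ⟨a, ha, b, hb, hab⟩ := Depth.exists_add_eq_one_of_smul_top_eq_top htop
    have hM : ∀ m : M, m = 0 := fun m => by
      induction m using homogeneous_induction ℳ with
      | zero => rfl
      | add u v hu hv => rw [hu, hv, add_zero]
      | hom g m hm =>
        have h1 : b • m = m := by
          have := congrArg (· • m) hab
          simp only [add_smul, one_smul, Module.mem_annihilator.1 ha m, zero_add] at this
          exact this
        have h2 := congrArg (cpt ℳ g) h1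
        rw [cpt_smul_right' (𝒜 := _root_.GrSyz.stdGr k (Fin N)) ℳ hm, sub_self,
          (mem_irrel_iff stdGr_eq_zero_of_neg).1 hb, zero_smul, cpt_of_mem ℳ hm] at h2
        exact h2.symm
    refine hne ((AddSubgroup.eq_bot_iff_forall _).2 fun y hy => ?_)
    rcases q with - | q
    · rw [(AddSubgroup.eq_bot_iff_forall _).1
        (LC.gr_zero_eq_bot (irrelS k N) (g := n) fun m _ _ => hM m) y hy]
    · haveI := LocCohElt.subsingleton_of_powerTorsion (irrelS k N).toIdeal q M
        fun x => ⟨0, fun r _ => by rw [hM x, smul_zero]⟩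
      exact Subsingleton.elim y 0
  rw [(LocCoh.idealDepth_eq_iff_H _ M hIM q).2 ⟨fun i hi => subsingleton_H_of_gr ℳ (irrelS k N) i
    fun m => gr_eq_bot_of_lt F hL (by omega) m, hH⟩]
  rw [← Nat.cast_add, add_comm ℓ q, hq]

end Groth.Agent.GrSyz
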