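import Mathlib.RingTheory.MvPolynomial.Ideal
import Mathlib.LinearAlgebra.Pi
import Mathlib.Algebra.Module.BigOperators
import Mathlib.Data.Fin.Tuple.Basic

/-!
# The Koszul complex of a tuple, recursively

A chain is a function on `Fin n → Bool`; a point `s` has weight `#{v | s v = true}`, and chains
supported in weight `q` are the degree `q` part.

* `kd`: the differential; `kh v`: the homotopy for the `v`-th element;
* `kd_mem`, `kd_comm`: compatibility with weight-indexed families of submodules and operators;
* `exists_kd_eq`: cycles vanishing in weight zero are boundaries, for regular tuples.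
-/

set_option autoImplicit false

universe u v

noncomputable section

namespace Groth.Agent.KoszulRec

variable {S : Type u} [CommRing S]

/-- The weight. -/
def wt : {n : ℕ} → (Fin n → Bool) → ℕ
  | 0, _ => 0
  | _ + 1, s => (s 0).toNat + wt (Fin.tail s)

variable {M : Type v} [AddCommGroup M] [Module S M]

/-- Freezing the first coordinate. -/
def cut {n : ℕ} (b : Bool) : ((Fin (n + 1) → Bool) → M) →ₗ[S] (Fin n → Bool) → M :=
  LinearMap.funLeft S M fun t => Fin.cons b t

/-- The differential. -/
def kd : {n : ℕ} → (Fin n → S) → ((Fin n → Bool) → M) →ₗ[S] ((Fin n → Bool) → M)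
  | 0, _ => 0
  | n + 1, x => LinearMap.pi fun s =>
      bif s 0 then -((LinearMap.proj (Fin.tail s)).comp ((kd (n := n) (Fin.tail x)).comp (cut true)))
      else ((LinearMap.proj (Fin.tail s)).comp ((kd (n := n) (Fin.tail x)).comp (cut false))) +
        x 0 • ((LinearMap.proj (Fin.tail s)).comp (cut true))

/-- The homotopy. -/
def kh : {n : ℕ} → Fin n → ((Fin n → Bool) → M) →ₗ[S] ((Fin n → Bool) → M)
  | 0, v => v.elim0
  | n + 1, v => Fin.cases
      (LinearMap.pi fun s =>
        bif s 0 then (LinearMap.proj (Fin.tail s)).comp (cut false) else 0)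
      (fun w => LinearMap.pi fun s =>
        bif s 0 then -((LinearMap.proj (Fin.tail s)).comp ((kh (n := n) w).comp (cut true)))
        else (LinearMap.proj (Fin.tail s)).comp ((kh (n := n) w).comp (cut false))) v

variable {n : ℕ}

omit [CommRing S] [Module S M] in
theorem ext_cut {f g : (Fin (n + 1) → Bool) → M}
    (h : ∀ b t, f (Fin.cons b t) = g (Fin.cons b t)) : f = g :=
  funext fun s => by simpa [Fin.cons_self_tail] using h (s 0) (Fin.tail s)

theorem cut_apply (b : Bool) (f : (Fin (n + 1) → Bool) → M) (t : Fin n → Bool) :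
    cut (S := S) b f t = f (Fin.cons b t) := rfl

theorem cut_kd_true (x : Fin (n + 1) → S) (f : (Fin (n + 1) → Bool) → M) :
    cut (S := S) true (kd x f) = -kd (Fin.tail x) (cut (S := S) true f) :=
  funext fun t => by simp [kd, cut, LinearMap.funLeft_apply]

theorem cut_kd_false (x : Fin (n + 1) → S) (f : (Fin (n + 1) → Bool) → M) :
    cut (S := S) false (kd x f) =
      kd (Fin.tail x) (cut (S := S) false f) + x 0 • cut (S := S) true f :=
  funext fun t => by simp [kd, cut, LinearMap.funLeft_apply]

theorem cut_kh_zero (b : Bool) (f : (Fin (n + 1) → Bool) → M) :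
    cut (S := S) b (kh (S := S) 0 f) = bif b then cut (S := S) false f else 0 := by
  funext t
  cases b <;> simp [kh, cut, LinearMap.funLeft_apply]

theorem cut_kh_succ (w : Fin n) (b : Bool) (f : (Fin (n + 1) → Bool) → M) :
    cut (S := S) b (kh (S := S) w.succ f) =
      bif b then -kh (S := S) w (cut (S := S) true f) else kh (S := S) w (cut (S := S) false f) := by
  funext t
  cases b <;> simp [kh, cut, LinearMap.funLeft_apply]

theorem eq_of_cut {f g : (Fin (n + 1) → Bool) → M}
    (h : ∀ b, cut (S := S) b f = cut (S := S) b g) : f = g :=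
  ext_cut fun b t => congrFun (h b) t

theorem kd_kd : ∀ {n : ℕ} (x : Fin n → S) (f : (Fin n → Bool) → M), kd x (kd x f) = 0
  | 0, _, _ => rfl
  | n + 1, x, f => eq_of_cut (S := S) fun b => by
    cases b
    · rw [cut_kd_false, cut_kd_false, cut_kd_true, map_add, map_smul, kd_kd, zero_add, smul_neg,
        add_neg_cancel, map_zero]
    · rw [cut_kd_true, cut_kd_true, map_neg, kd_kd, neg_zero, neg_zero, map_zero]

theorem kd_kh_add : ∀ {n : ℕ} (x : Fin n → S) (v : Fin n) (f : (Fin n → Bool) → M),
    kd x (kh (S := S) v f) + kh (S := S) v (kd x f) = x v • f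
  | 0, _, v, _ => v.elim0
  | n + 1, x, v, f => eq_of_cut (S := S) fun b => by
    rw [map_add, map_smul]
    induction v using Fin.cases with
    | zero =>
      cases b
      · simp [cut_kd_false, cut_kh_zero]
      · simp [cut_kd_true, cut_kd_false, cut_kh_zero]
    | succ w =>
      have ih := fun g => kd_kh_add (Fin.tail x) w g
      cases b
      · simp only [cut_kd_false, cut_kh_succ, map_add, map_smul, cond_true, cond_false, smul_neg]
        rw [show x w.succ = Fin.tail x w from rfl, ← ih]
        abel
      · simp only [cut_kd_true, cut_kh_succ, map_neg, cond_true, neg_neg]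
        rw [show x w.succ = Fin.tail x w from rfl, ← ih]

section Map

variable {N : Type v} [AddCommGroup N] [Module S N]

omit [CommRing S] [Module S M] [Module S N] in
theorem compLeft_def (φ : M → N) (f : (Fin n → Bool) → M) (s) : (φ ∘ f) s = φ (f s) := rfl

theorem cut_map (φ : M →ₗ[S] N) (b : Bool) (f : (Fin (n + 1) → Bool) → M) :
    cut (S := S) b (φ.compLeft (Fin (n + 1) → Bool) f) =
      φ.compLeft (Fin n → Bool) (cut (S := S) b f) := rfl

theorem kd_map (φ : M →ₗ[S] N) : ∀ {n : ℕ} (x : Fin n → S) (f : (Fin n → Bool) → M),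
    kd x (φ.compLeft (Fin n → Bool) f) = φ.compLeft (Fin n → Bool) (kd x f)
  | 0, _, _ => (map_zero _).symm
  | n + 1, x, f => eq_of_cut (S := S) fun b => by
    cases b
    · rw [cut_kd_false, cut_map, cut_map, cut_map, cut_kd_false, map_add, map_smul, kd_map]
    · rw [cut_kd_true, cut_map, cut_map, cut_kd_true, map_neg, kd_map]

theorem kh_map (φ : M →ₗ[S] N) : ∀ {n : ℕ} (v : Fin n) (f : (Fin n → Bool) → M),
    kh (S := S) v (φ.compLeft (Fin n → Bool) f) = φ.compLeft (Fin n → Bool) (kh (S := S) v f)
  | 0, v, _ => v.elim0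
  | n + 1, v, f => eq_of_cut (S := S) fun b => by
    induction v using Fin.cases with
    | zero => cases b <;> simp [cut_kh_zero, cut_map]
    | succ w =>
      have ih := fun g => kh_map φ w g
      cases b <;> simp [cut_kh_succ, cut_map, ih]

end Map

/-- The differential raises the index of weight-indexed families by multiplication. -/
theorem kd_mem : ∀ {n : ℕ} (x : Fin n → S) (G H : ℕ → AddSubgroup M)
    (_ : ∀ (a : ℕ) (v : Fin n), ∀ m ∈ G (a + 1), x v • m ∈ H a)
    (f : (Fin n → Bool) → M) (_ : ∀ s, f s ∈ G (wt s)), ∀ s, kd x f s ∈ H (wt s)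
  | 0, _, _, _, _, _, _ => fun _ => zero_mem _
  | n + 1, x, G, H, hx, f, hf => fun s => by
    have hcut : ∀ b t, cut (S := S) b f t ∈ G (Bool.toNat b + wt t) := fun b t => by
      simpa [cut_apply, wt, Fin.tail_cons] using hf (Fin.cons b t)
    rw [← Fin.cons_self_tail s]
    generalize s 0 = b
    generalize Fin.tail s = t
    cases b
    · change cut (S := S) false (kd x f) t ∈ H _
      rw [cut_kd_false]
      simp only [wt, Fin.cons_zero, Fin.tail_cons, Bool.toNat_false, zero_add, Pi.add_apply,
        Pi.smul_apply]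
      refine add_mem (kd_mem (Fin.tail x) G H (fun a v => hx a v.succ) _
        (fun t => by simpa using hcut false t) t) (hx _ 0 _ ?_)
      simpa [add_comm] using hcut true t
    · change cut (S := S) true (kd x f) t ∈ H _
      rw [cut_kd_true]
      simp only [wt, Fin.cons_zero, Fin.tail_cons, Bool.toNat_true, Pi.neg_apply]
      refine neg_mem (kd_mem (Fin.tail x) (fun a => G (1 + a)) (fun a => H (1 + a))
        (fun a v m hm => hx (1 + a) v.succ m (by rwa [add_assoc])) _
        (fun t => by simpa using hcut true t) t)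

/-- The differential commutes with weight-indexed operators. -/
theorem kd_comm : ∀ {n : ℕ} (x : Fin n → S) (π ρ : ℕ → M →+ M)
    (_ : ∀ (a : ℕ) (v : Fin n) (m : M), x v • π (a + 1) m = ρ a (x v • m))
    (f : (Fin n → Bool) → M) (s : Fin n → Bool),
    kd x (fun t => π (wt t) (f t)) s = ρ (wt s) (kd x f s)
  | 0, _, _, ρ, _, _, _ => (map_zero (ρ _)).symm
  | n + 1, x, π, ρ, hx, f, s => by
    rw [← Fin.cons_self_tail s]
    generalize s 0 = b
    generalize Fin.tail s = t
    cases b
    · change cut (S := S) false (kd x _) t = ρ _ (cut (S := S) false (kd x f) t)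
      have h := kd_comm (Fin.tail x) π ρ (fun a v => hx a v.succ)
        (cut (S := S) false f) t
      simp only [cut_kd_false, wt, Fin.cons_zero, Fin.tail_cons, Bool.toNat_false, zero_add,
        Pi.add_apply, Pi.smul_apply, map_add]
      refine congrArg₂ (· + ·) (Eq.trans ?_ h) ?_
      · exact congrArg (fun g => kd (Fin.tail x) g t)
          (funext fun u => by simp [cut_apply, wt, Fin.tail_cons])
      · simp only [cut_apply, wt, Fin.cons_zero, Fin.tail_cons, Bool.toNat_true]
        rw [add_comm 1 (wt t)]
        exact hx _ 0 _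
    · change cut (S := S) true (kd x _) t = ρ _ (cut (S := S) true (kd x f) t)
      have h := kd_comm (Fin.tail x) (fun a => π (1 + a)) (fun a => ρ (1 + a))
        (fun a v m => by rw [← add_assoc]; exact hx (1 + a) v.succ m)
        (cut (S := S) true f) t
      simp only [cut_kd_true, wt, Fin.cons_zero, Fin.tail_cons, Bool.toNat_true, Pi.neg_apply,
        map_neg]
      refine congrArg Neg.neg (Eq.trans ?_ h)
      exact congrArg (fun g => kd (Fin.tail x) g t)
        (funext fun u => by simp [cut_apply, wt, Fin.tail_cons])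

/-! ## Exactness -/

/-- The chain concentrated in weight zero. -/
def base : {n : ℕ} → M → (Fin n → Bool) → M
  | 0, m => fun _ => m
  | _ + 1, m => fun s => bif s 0 then 0 else base m (Fin.tail s)

/-- The point of weight zero. -/
def pt (n : ℕ) : Fin n → Bool := fun _ => false

omit [CommRing S] [Module S M] in
theorem cons_pt : (Fin.cons false (pt n) : Fin (n + 1) → Bool) = pt (n + 1) := by
  funext i
  induction i using Fin.cases <;> rfl

theorem eq_pt : ∀ {n : ℕ} {s : Fin n → Bool}, wt s = 0 → s = pt n
  | 0, _, _ => Subsingleton.elim _ _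
  | n + 1, s, h => by
    simp only [wt] at h
    rw [← Fin.cons_self_tail s, ← cons_pt, eq_pt (s := Fin.tail s) (by omega),
      show s 0 = false by revert h; cases s 0 <;> simp]

theorem cut_base (b : Bool) (m : M) :
    cut (S := S) b (base (n := n + 1) m) = bif b then 0 else base m := by
  funext t
  cases b <;> simp [cut_apply, base, Fin.tail_cons]

omit [CommRing S] [Module S M] in
theorem base_pt : ∀ {n : ℕ} (m : M), base (n := n) m (pt n) = m
  | 0, _ => rfl
  | _ + 1, m => by
    rw [← cons_pt]
    simp [base, Fin.tail_cons, base_pt m]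

omit [CommRing S] [Module S M] in
theorem base_of_ne : ∀ {n : ℕ} (m : M) (s : Fin n → Bool), wt s ≠ 0 → base m s = 0
  | 0, _, _, h => (h rfl).elim
  | _ + 1, m, s, h => by
    simp only [wt] at h
    simp only [base]
    cases hs : s 0
    · rw [hs] at h
      exact base_of_ne m _ (by simpa using h)
    · rfl

theorem kd_base : ∀ {n : ℕ} (x : Fin n → S) (m : M), kd x (base m) = 0
  | 0, _, _ => rfl
  | n + 1, x, m => eq_of_cut (S := S) fun b => by
    have ih := kd_base (Fin.tail x) m
    cases b <;> simp [cut_kd_false, cut_kd_true, cut_base, ih]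

/-- `x v • m` in weight zero is a boundary. -/
theorem kd_kh_base (x : Fin n → S) (v : Fin n) (m : M) :
    kd x (kh (S := S) v (base m)) = x v • base m := by
  have := kd_kh_add x v (base m)
  rwa [kd_base, map_zero, add_zero] at this

theorem smul_base : ∀ {n : ℕ} (c : S) (m : M), c • base (n := n) m = base (c • m)
  | 0, _, _ => rfl
  | _ + 1, c, m => funext fun s => by
    simp only [Pi.smul_apply, base]
    cases s 0
    · exact congrFun (smul_base c m) _
    · exact smul_zero c

omit [CommRing S] [Module S M] in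
theorem base_add : ∀ {n : ℕ} (m m' : M), base (n := n) (m + m') = base m + base m'
  | 0, _, _ => rfl
  | _ + 1, m, m' => funext fun s => by
    simp only [Pi.add_apply, base]
    cases s 0
    · exact congrFun (base_add m m') _
    · exact (add_zero 0).symm

theorem exists_kd_eq_base {x : Fin n → S} {m : M}
    (hm : m ∈ Ideal.span (Set.range x) • (⊤ : Submodule S M)) : ∃ g, kd x g = base m := by
  refine Submodule.smul_induction_on hm (fun c hc y _ => ?_) ?_
  · induction hc using Submodule.span_induction generalizing y with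
    | mem c hc =>
      obtain ⟨v, rfl⟩ := hc
      exact ⟨kh (S := S) v (base y), (kd_kh_base x v y).trans (smul_base _ _)⟩
    | zero =>
      exact ⟨0, by
        rw [map_zero, zero_smul]
        exact ((zero_smul S (base y)).symm.trans (smul_base 0 y)).trans
          (congrArg base (zero_smul S y))⟩
    | add c c' _ _ h h' =>
      obtain ⟨g, hg⟩ := h y trivial
      obtain ⟨g', hg'⟩ := h' y trivial
      exact ⟨g + g', by rw [map_add, hg, hg', ← smul_base, ← smul_base, ← smul_base, ← add_smul]⟩
    | smul a c _ h =>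
      obtain ⟨g, hg⟩ := h y trivial
      exact ⟨a • g, by rw [map_smul, hg, ← smul_base, ← smul_base, smul_smul, smul_eq_mul]⟩
  · rintro y y' ⟨g, hg⟩ ⟨g', hg'⟩
    exact ⟨g + g', by rw [map_add, hg, hg', base_add]⟩

theorem kd_pt_mem : ∀ {n : ℕ} (x : Fin n → S) (f : (Fin n → Bool) → M),
    kd x f (pt n) ∈ Ideal.span (Set.range x) • (⊤ : Submodule S M)
  | 0, _, _ => zero_mem _
  | n + 1, x, f => by
    rw [← cons_pt]
    change cut (S := S) false (kd x f) (pt n) ∈ _
    rw [cut_kd_false]
    refine add_mem ?_ (Submodule.smul_mem_smul (Ideal.subset_span ⟨0, rfl⟩) trivial)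
    exact Submodule.smul_mono_left
      (Ideal.span_mono (Set.range_comp_subset_range Fin.succ x)) (kd_pt_mem (Fin.tail x) _)

/-- The tuple is regular from the right. -/
def RegTuple (x : Fin n → S) (M : Type v) [AddCommGroup M] [Module S M] : Prop :=
  ∀ (i : Fin n) (m : M), x i • m ∈ Ideal.span (x '' Set.Ioi i) • (⊤ : Submodule S M) →
    m ∈ Ideal.span (x '' Set.Ioi i) • (⊤ : Submodule S M)

theorem image_Ioi_tail (x : Fin (n + 1) → S) (i : Fin n) :
    (Fin.tail x) '' Set.Ioi i = x '' Set.Ioi i.succ := by
  ext c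
  constructor
  · rintro ⟨j, hj, rfl⟩
    exact ⟨j.succ, Fin.succ_lt_succ_iff.2 hj, rfl⟩
  · rintro ⟨j, hj, rfl⟩
    rcases Fin.eq_zero_or_eq_succ j with rfl | ⟨j, rfl⟩
    · exact absurd hj (Fin.not_lt_zero _)
    · exact ⟨j, Fin.succ_lt_succ_iff.1 hj, rfl⟩

theorem image_Ioi_zero (x : Fin (n + 1) → S) :
    x '' Set.Ioi 0 = Set.range (Fin.tail x) := by
  ext c
  constructor
  · rintro ⟨j, hj, rfl⟩
    rcases Fin.eq_zero_or_eq_succ j with rfl | ⟨j, rfl⟩
    · simp at hj
    · exact ⟨j, rfl⟩
  · rintro ⟨j, rfl⟩
    exact ⟨j.succ, Fin.succ_pos j, rfl⟩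

theorem exists_eq_base_add : ∀ {n : ℕ} (x : Fin n → S) (_ : RegTuple x M)
    (f : (Fin n → Bool) → M), kd x f = 0 → ∃ m g, f = base m + kd x g
  | 0, x, _, f, _ => ⟨f (pt 0), 0, by
    funext s; simp [base, Subsingleton.elim s (pt 0)]⟩
  | n + 1, x, hx, f, hf => by
    have hxt : RegTuple (Fin.tail x) M := fun i m hm => by
      rw [image_Ioi_tail] at hm ⊢
      exact hx i.succ m hm
    have e1 : kd (Fin.tail x) (cut (S := S) true f) = 0 := by
      have := congrArg (cut (S := S) true) hf
      rwa [cut_kd_true, map_zero, neg_eq_zero] at this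
    have e0 : kd (Fin.tail x) (cut (S := S) false f) + x 0 • cut (S := S) true f = 0 := by
      have := congrArg (cut (S := S) false) hf
      rwa [cut_kd_false, map_zero] at this
    obtain ⟨c, g1, h1⟩ := exists_eq_base_add (Fin.tail x) hxt _ e1
    have hc : c ∈ Ideal.span (Set.range (Fin.tail x)) • (⊤ : Submodule S M) := by
      have h := congrFun e0 (pt n)
      rw [Pi.add_apply, Pi.smul_apply, h1, Pi.add_apply, smul_add, base_pt, Pi.zero_apply] at h
      have h2 := Submodule.smul_mem _ (x 0) (kd_pt_mem (Fin.tail x) g1)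
      have h3 := kd_pt_mem (Fin.tail x) (cut (S := S) false f)
      rw [← image_Ioi_zero]
      refine hx 0 c ?_
      rw [image_Ioi_zero]
      rw [show x 0 • c = -(kd (Fin.tail x) (cut (S := S) false f) (pt n) +
        x 0 • kd (Fin.tail x) g1 (pt n)) by
          rw [eq_neg_iff_add_eq_zero, ← h]; abel]
      exact neg_mem (add_mem h3 h2)
    obtain ⟨h, hh⟩ := exists_kd_eq_base hc
    have hG : cut (S := S) true f = kd (Fin.tail x) (h + g1) := by rw [map_add, hh, h1]
    have e0' : kd (Fin.tail x) (cut (S := S) false f + x 0 • (h + g1)) = 0 := by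
      rw [map_add, map_smul, ← hG, e0]
    obtain ⟨m, g0, h0⟩ := exists_eq_base_add (Fin.tail x) hxt _ e0'
    refine ⟨m, fun s => bif s 0 then -(h + g1) (Fin.tail s) else g0 (Fin.tail s),
      eq_of_cut (S := S) fun b => ?_⟩
    have ct : cut (S := S) true
        (fun s : Fin (n + 1) → Bool => bif s 0 then -(h + g1) (Fin.tail s) else g0 (Fin.tail s)) =
          -(h + g1) := funext fun t => by simp [cut_apply, Fin.tail_cons]
    have cf : cut (S := S) false
        (fun s : Fin (n + 1) → Bool => bif s 0 then -(h + g1) (Fin.tail s) else g0 (Fin.tail s)) =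
          g0 := funext fun t => by simp [cut_apply, Fin.tail_cons]
    rw [map_add, cut_base]
    cases b
    · rw [cut_kd_false, ct, cf, cond_false, smul_neg, ← add_assoc, ← h0]
      abel
    · rw [cut_kd_true, ct, cond_true, map_neg, neg_neg, zero_add, hG]

/-- Cycles vanishing in weight zero modulo the ideal are boundaries. -/
theorem exists_kd_eq (x : Fin n → S) (hx : RegTuple x M) (f : (Fin n → Bool) → M)
    (hf : kd x f = 0) (h0 : f (pt n) ∈ Ideal.span (Set.range x) • (⊤ : Submodule S M)) :
    ∃ g, kd x g = f := by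
  obtain ⟨m, g, rfl⟩ := exists_eq_base_add x hx f hf
  rw [Pi.add_apply, base_pt] at h0
  obtain ⟨g', hg'⟩ := exists_kd_eq_base (x := x) (m := m) (by
    simpa using sub_mem h0 (kd_pt_mem x g))
  exact ⟨g' + g, by rw [map_add, hg']⟩

/-- The variables form a regular tuple. -/
theorem regTuple_X (k : Type u) [CommRing k] (n : ℕ) :
    RegTuple (fun i : Fin n => (MvPolynomial.X i : MvPolynomial (Fin n) k))
      (MvPolynomial (Fin n) k) := by
  intro i p hp
  rw [Ideal.smul_eq_mul, Ideal.mul_top] at hp ⊢
  rw [MvPolynomial.mem_ideal_span_X_image] at hp ⊢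
  intro a ha
  classical
  obtain ⟨j, hj, hne⟩ := hp (Finsupp.single i 1 + a) (by
    rw [MvPolynomial.mem_support_iff, smul_eq_mul, MvPolynomial.coeff_X_mul]
    exact MvPolynomial.mem_support_iff.1 ha)
  refine ⟨j, hj, ?_⟩
  have hij : i ≠ j := ne_of_lt hj
  simpa [Finsupp.single_apply, hij] using hne

/-- Finite powers of a regular module. -/
theorem exists_kd_eq_pi {ι : Type} (x : Fin n → S) (hx : RegTuple x S)
    (f : (Fin n → Bool) → (ι → S)) (hf : kd x f = 0)
    (h0 : ∀ b, f (pt n) b ∈ Ideal.span (Set.range x)) : ∃ g, kd x g = f := by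
  have h : ∀ b, ∃ g : (Fin n → Bool) → S, kd x g = fun s => f s b := fun b =>
    exists_kd_eq x hx _
      (by rw [show (fun s => f s b) = (LinearMap.proj b : (ι → S) →ₗ[S] S).compLeft _ f from rfl,
        kd_map, hf, map_zero])
      (by rw [Ideal.smul_eq_mul, Ideal.mul_top]; exact h0 b)
  choose g hg using h
  refine ⟨fun s b => g b s, funext fun s => funext fun b => ?_⟩
  have := congrFun (kd_map (LinearMap.proj b : (ι → S) →ₗ[S] S) x (fun s b => g b s)) s
  exact this.symm.trans (congrFun (hg b) s)

end Groth.Agent.KoszulRec
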