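import Groth.Agent.GrSyz.KoszulRec
import Groth.Agent.GrSyz.Hilbert

/-!
# Iterated linear syzygy modules and Betti numbers

If the iterated linear syzygy modules `T^i(R)`, `i ≤ p`, are generated in low degrees then every
Koszul cycle of bidegree `(p, j)` is a boundary, and a minimal free resolution has no basis vector
of degree `j` in homological degree `p`.
-/

set_option autoImplicit false

universe u

noncomputable section

namespace Groth.Agent.GrSyz.LinearSyz

open Groth.Agent.KoszulRec

variable (k : Type u) [Field k] (r : ℕ)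

/-- The polynomial ring. -/
abbrev P : Type u := MvPolynomial (Fin (r + 1)) k

/-- The variables. -/
abbrev xs (v : Fin (r + 1)) : P k r := MvPolynomial.X v

/-- The irrelevant ideal. -/
abbrev mx : Ideal (P k r) := Ideal.span (Set.range (xs k r))

variable {k r}

theorem xs_mem (v : Fin (r + 1)) : xs k r v ∈ _root_.GrSyz.stdGr k (Fin (r + 1)) 1 := by
  rw [_root_.GrSyz.stdGr, MvPolynomial.mem_weightedHomogeneousSubmodule]
  exact MvPolynomial.isWeightedHomogeneous_X k (fun _ : Fin (r + 1) => (1 : ℤ)) v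

theorem mem_mx_iff {a : P k r} : a ∈ mx k r ↔ MvPolynomial.coeff 0 a = 0 := by
  rw [mx, ← Set.image_univ, MvPolynomial.mem_ideal_span_X_image]
  constructor
  · intro h
    by_contra hc
    obtain ⟨i, -, hi⟩ := h 0 (MvPolynomial.mem_support_iff.2 hc)
    exact hi rfl
  · intro h m hm
    by_contra hh
    push Not at hh
    exact MvPolynomial.mem_support_iff.1 hm
      ((Finsupp.ext fun i => hh i (Set.mem_univ i) : m = 0) ▸ h)

theorem irrel_le_mx :
    (_root_.GrSyz.irrel (_root_.GrSyz.stdGr k (Fin (r + 1)))).toIdeal ≤ mx k r :=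
  Ideal.span_le.2 fun a ⟨n, hn, ha⟩ => mem_mx_iff.2 <| by
    by_contra hc
    have := stdGr_degree_eq ha hc
    simp only [map_zero, Nat.cast_zero] at this
    omega

theorem one_notMem_mx : (1 : P k r) ∉ mx k r := fun h => by
  simpa using mem_mx_iff.1 h

variable {R : Type u} [AddCommGroup R] [Module k R] [Module (P k r) R]

/-- The linear form of a slot. -/
def slot {i : ℕ} (s : Fin i) (c : Fin i → Fin (r + 1)) :
    ((Fin i → Fin (r + 1)) → R) →ₗ[P k r] R :=
  ∑ v, xs k r v • LinearMap.proj (Function.update c s v)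

theorem slot_apply {i : ℕ} (s : Fin i) (c : Fin i → Fin (r + 1))
    (m : (Fin i → Fin (r + 1)) → R) :
    slot (k := k) s c m = ∑ v, xs k r v • m (Function.update c s v) := by
  simp [slot]

variable (k) in
/-- Membership in `T^i(R)`. -/
def InT {i : ℕ} (m : (Fin i → Fin (r + 1)) → R) : Prop :=
  ∀ (s : Fin i) (c : Fin i → Fin (r + 1)), slot (k := k) s c m = 0

theorem InT.zero {i : ℕ} : InT k (0 : (Fin i → Fin (r + 1)) → R) := fun _ _ => map_zero _

theorem InT.add {i : ℕ} {m m' : (Fin i → Fin (r + 1)) → R} (h : InT k m) (h' : InT k m') :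
    InT k (m + m') := fun s c => by rw [map_add, h s c, h' s c, add_zero]

theorem InT.sub {i : ℕ} {m m' : (Fin i → Fin (r + 1)) → R} (h : InT k m) (h' : InT k m') :
    InT k (m - m') := fun s c => by rw [map_sub, h s c, h' s c, sub_zero]

theorem InT.smul {i : ℕ} {m : (Fin i → Fin (r + 1)) → R} (a : P k r) (h : InT k m) :
    InT k (a • m) := fun s c => by rw [map_smul, h s c, smul_zero]

theorem InT.sum {i : ℕ} {ι : Type*} (t : Finset ι) {m : ι → (Fin i → Fin (r + 1)) → R}
    (h : ∀ a ∈ t, InT k (m a)) : InT k (∑ a ∈ t, m a) := fun s c => by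
  rw [map_sum]
  exact Finset.sum_eq_zero fun a ha => h a ha s c

theorem inT_kd {n i : ℕ} (x : Fin n → P k r)
    {f : (Fin n → Bool) → (Fin i → Fin (r + 1)) → R} (h : ∀ s, InT k (f s)) (t : Fin n → Bool) :
    InT k (kd x f t) := fun s c => by
  have := congrFun (kd_map (slot (k := k) (R := R) s c) x f) t
  rw [show (slot (k := k) (R := R) s c).compLeft (Fin n → Bool) f = 0 from
    funext fun u => h u s c, map_zero] at this
  exact this.symm

theorem inT_kh {n i : ℕ} (v : Fin n)
    {f : (Fin n → Bool) → (Fin i → Fin (r + 1)) → R} (h : ∀ s, InT k (f s)) (t : Fin n → Bool) :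
    InT k (kh (S := P k r) v f t) := fun s c => by
  have := congrFun (kh_map (slot (k := k) (R := R) s c) v f) t
  rw [show (slot (k := k) (R := R) s c).compLeft (Fin n → Bool) f = 0 from
    funext fun u => h u s c, map_zero] at this
  exact this.symm

/-- Fixing the first letter. -/
def letter {i : ℕ} (v : Fin (r + 1)) :
    ((Fin (i + 1) → Fin (r + 1)) → R) →ₗ[P k r] (Fin i → Fin (r + 1)) → R :=
  LinearMap.funLeft (P k r) R fun c => Fin.cons v c

theorem InT.letter {i : ℕ} {m : (Fin (i + 1) → Fin (r + 1)) → R} (h : InT k m)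
    (v : Fin (r + 1)) : InT k (LinearSyz.letter (k := k) v m) := fun s c => by
  refine Eq.trans ?_ (h s.succ (Fin.cons v c))
  simp [slot_apply, LinearSyz.letter, LinearMap.funLeft_apply, Fin.cons_update]

theorem InT.sum_letter {i : ℕ} {m : (Fin (i + 1) → Fin (r + 1)) → R} (h : InT k m) :
    ∑ v, xs k r v • LinearSyz.letter (k := k) v m = 0 := funext fun c => by
  refine Eq.trans ?_ (h 0 (Fin.cons 0 c))
  simp [slot_apply, LinearSyz.letter, LinearMap.funLeft_apply, Fin.update_cons_zero]

variable [IsScalarTower k (P k r) R] {ℛ : ℤ → Submodule k R} [DirectSum.Decomposition ℛ]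
  [SetLike.GradedSMul (_root_.GrSyz.stdGr k (Fin (r + 1))) ℛ]

theorem cpt_X_smul (v : Fin (r + 1)) (D : ℤ) (m : R) :
    GrLC.cpt ℛ D (xs k r v • m) = xs k r v • GrLC.cpt ℛ (D - 1) m :=
  GrLC.cpt_smul_left' (𝒜 := _root_.GrSyz.stdGr k (Fin (r + 1))) ℛ (xs_mem v) m D

/-- The components of a tuple. -/
def wcpt (i : ℕ) (D : ℤ) :
    ((Fin i → Fin (r + 1)) → R) →+ (Fin i → Fin (r + 1)) → R :=
  (GrLC.cpt ℛ D).compLeft _

theorem InT.wcpt {i : ℕ} {m : (Fin i → Fin (r + 1)) → R} (h : InT k m) (D : ℤ) :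
    InT k (LinearSyz.wcpt (ℛ := ℛ) i D m) := fun s c => by
  have := congrArg (GrLC.cpt ℛ (D + 1)) (h s c)
  rw [slot_apply, map_sum, map_zero] at this
  rw [slot_apply, ← this]
  refine Finset.sum_congr rfl fun v _ => ?_
  rw [cpt_X_smul, add_sub_cancel_right]
  rfl

/-- Elements of the span of generators of lower degree are in `𝔪 T`. -/
theorem exists_eq_sum {i : ℕ} {E D : ℤ} (hED : E < D) {m : (Fin i → Fin (r + 1)) → R}
    (hm : ∀ c, m c ∈ ℛ D)
    (hs : m ∈ Submodule.span (P k r)
      {m' | InT k m' ∧ ∃ e : ℤ, e ≤ E ∧ ∀ c, m' c ∈ ℛ e}) :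
    ∃ u : Fin (r + 1) → (Fin i → Fin (r + 1)) → R,
      (∀ v, InT k (u v) ∧ ∀ c, u v c ∈ ℛ (D - 1)) ∧ m = ∑ v, xs k r v • u v := by
  obtain ⟨N, f, g, hfg⟩ := (Submodule.mem_span_set').1 hs
  have hc : ∀ a : P k r, ∃ h : Fin (r + 1) → P k r,
      a = MvPolynomial.C (MvPolynomial.coeff 0 a) + ∑ v, h v * xs k r v := fun a => by
    have hd : a - MvPolynomial.C (MvPolynomial.coeff 0 a) ∈ mx k r := mem_mx_iff.2 (by simp)
    obtain ⟨h, hh⟩ := Ideal.mem_span_range_iff_exists_fun.1 hd
    exact ⟨h, by rw [hh]; abel⟩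
  choose h hh using hc
  refine ⟨fun v => wcpt (ℛ := ℛ) i (D - 1) (∑ a, h (f a) v • (g a).1),
    fun v => ⟨InT.wcpt (InT.sum _ fun a _ => InT.smul _ (g a).2.1) _,
      fun c => GrLC.cpt_mem ℛ _ _⟩, funext fun c => ?_⟩
  rw [Finset.sum_apply]
  calc m c = GrLC.cpt ℛ D (m c) := (GrLC.cpt_of_mem ℛ (hm c)).symm
    _ = ∑ a, GrLC.cpt ℛ D (f a • (g a).1 c) := by
      rw [← hfg, Finset.sum_apply, map_sum]
      rfl
    _ = ∑ a, ∑ v, xs k r v • GrLC.cpt ℛ (D - 1) (h (f a) v • (g a).1 c) := by
      refine Finset.sum_congr rfl fun a _ => ?_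
      obtain ⟨e, he, hmem⟩ := (g a).2.2
      conv_lhs => rw [hh (f a), add_smul, Finset.sum_smul, map_add, map_sum,
        ← MvPolynomial.algebraMap_eq, algebraMap_smul,
        GrLC.cpt_of_mem_ne ℛ (Submodule.smul_mem _ _ (hmem c)) (show e ≠ D by omega), zero_add]
      refine Finset.sum_congr rfl fun v _ => ?_
      rw [mul_comm, mul_smul, cpt_X_smul]
    _ = _ := by
      rw [Finset.sum_comm]
      refine Finset.sum_congr rfl fun v _ => ?_
      rw [← Finset.smul_sum, ← map_sum, Pi.smul_apply]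
      refine congrArg (xs k r v • ·) ?_
      show GrLC.cpt ℛ (D - 1) _ = GrLC.cpt ℛ (D - 1) ((∑ a, h (f a) v • (g a).1) c)
      rw [Finset.sum_apply]
      rfl

variable (ℛ) in
/-- Tuples with values of degree `D`, supported in weight `q`. -/
def PureW (i q : ℕ) (D : ℤ) (a : ℕ) : AddSubgroup ((Fin i → Fin (r + 1)) → R) where
  carrier := {m | (a = q → ∀ c, m c ∈ ℛ D) ∧ (a ≠ q → m = 0)}
  zero_mem' := ⟨fun _ _ => zero_mem _, fun _ => rfl⟩
  add_mem' {m m'} h h' := ⟨fun e c => add_mem (h.1 e c) (h'.1 e c),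
    fun e => by rw [h.2 e, h'.2 e, add_zero]⟩
  neg_mem' {m} h := ⟨fun e c => neg_mem (h.1 e c), fun e => by rw [h.2 e, neg_zero]⟩

theorem X_smul_mem (v : Fin (r + 1)) {D : ℤ} {m : R} (hm : m ∈ ℛ (D - 1)) :
    xs k r v • m ∈ ℛ D := by
  have := SetLike.GradedSMul.smul_mem (A := _root_.GrSyz.stdGr k (Fin (r + 1))) (B := ℛ) (xs_mem v) hm
  rwa [vadd_eq_add, add_sub_cancel] at this

/-- The differential of a pure chain of weight `q + 1` is pure of weight `q`. -/
theorem kd_pure {i q : ℕ} {D : ℤ} {f : (Fin (r + 1) → Bool) → (Fin i → Fin (r + 1)) → R}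
    (hf : ∀ s, f s ∈ PureW ℛ i (q + 1) (D - 1) (wt s)) (s) :
    kd (xs k r) f s ∈ PureW ℛ i q D (wt s) := by
  refine kd_mem (xs k r) (PureW ℛ i (q + 1) (D - 1)) (PureW ℛ i q D) (fun a v m hm => ?_) f hf s
  refine ⟨fun e c => X_smul_mem v (hm.1 (by rw [e]) c), fun e => ?_⟩
  rw [hm.2 (by omega), smul_zero]

/-- The differential of a chain supported in weight zero vanishes. -/
theorem kd_pure_zero {n : ℕ} {S M : Type*} [CommRing S] [AddCommGroup M] [Module S M]
    (x : Fin n → S) {f : (Fin n → Bool) → M} (hf : ∀ s, wt s ≠ 0 → f s = 0) : kd x f = 0 := by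
  funext s
  have h := kd_mem x (fun a => if a = 0 then ⊤ else ⊥) (fun _ => ⊥) (fun a v m hm => by
    rw [if_neg (Nat.succ_ne_zero a)] at hm
    rw [AddSubgroup.mem_bot.1 hm, smul_zero]
    exact zero_mem _) f (fun t => by
      split_ifs with h
      · trivial
      · rw [hf t h]; exact zero_mem _) s
  exact AddSubgroup.mem_bot.1 h

variable {p : ℕ} {j : ℤ}
  (hgen : ∀ i : ℕ, i ≤ p → ∀ m : (Fin i → Fin (r + 1)) → R, InT k m →
    m ∈ Submodule.span (P k r)
      {m' | InT k m' ∧ ∃ e : ℤ, e ≤ j - (p : ℤ) - 1 ∧ ∀ c, m' c ∈ ℛ e})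

include hgen in
/-- Pure Koszul cycles with values in `T^i` are boundaries. -/
theorem exists_boundary : ∀ (q i : ℕ), i + q = p →
    ∀ z : (Fin (r + 1) → Bool) → (Fin i → Fin (r + 1)) → R, (∀ s, InT k (z s)) →
      (∀ s, z s ∈ PureW ℛ i q (j - q - i) (wt s)) → kd (xs k r) z = 0 →
      ∃ w, (∀ s, InT k (w s)) ∧ kd (xs k r) w = z := by
  intro q
  induction q with
  | zero =>
      intro i hi z hT hP _
      choose u hu hz using fun s => show ∃ u : Fin (r + 1) → (Fin i → Fin (r + 1)) → R,
          (∀ v, InT k (u v) ∧ u v ∈ PureW ℛ i 0 (j - (0 : ℕ) - i - 1) (wt s)) ∧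
          z s = ∑ v, xs k r v • u v by
        by_cases h : wt s = 0
        · obtain ⟨u, hu, e⟩ := exists_eq_sum (show j - (p : ℤ) - 1 < j - (0 : ℕ) - i by omega)
            ((hP s).1 h) (hgen i (by omega) _ (hT s))
          exact ⟨u, fun v => ⟨(hu v).1, fun _ => (hu v).2, fun e => absurd h e⟩, e⟩
        · exact ⟨0, fun v => ⟨InT.zero, zero_mem _⟩, by rw [(hP s).2 h]; simp⟩
      let U : Fin (r + 1) → (Fin (r + 1) → Bool) → (Fin i → Fin (r + 1)) → R := fun v s => u s v
      refine ⟨∑ v, kh (S := P k r) v (U v), fun s => ?_, ?_⟩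
      · rw [Finset.sum_apply]
        exact InT.sum _ fun v _ => inT_kh v (fun t => (hu t v).1) s
      · rw [map_sum]
        refine Eq.trans (Finset.sum_congr rfl fun v _ => ?_)
          (funext fun s => by rw [Finset.sum_apply]; exact (hz s).symm)
        have h0 : kd (xs k r) (U v) = 0 := kd_pure_zero _ fun s h => (hu s v).2.2 h
        have := kd_kh_add (xs k r) v (U v)
        rwa [h0, map_zero, add_zero] at this
  | succ q ih =>
      intro i hi z hT hP hz0
      choose u hu hz using fun s => show ∃ u : Fin (r + 1) → (Fin i → Fin (r + 1)) → R,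
          (∀ v, InT k (u v) ∧ u v ∈ PureW ℛ i (q + 1) (j - (q + 1 : ℕ) - i - 1) (wt s)) ∧
          z s = ∑ v, xs k r v • u v by
        by_cases h : wt s = q + 1
        · obtain ⟨u, hu, e⟩ :=
            exists_eq_sum (show j - (p : ℤ) - 1 < j - (q + 1 : ℕ) - i by omega)
              ((hP s).1 h) (hgen i (by omega) _ (hT s))
          exact ⟨u, fun v => ⟨(hu v).1, fun _ => (hu v).2, fun e => absurd h e⟩, e⟩
        · exact ⟨0, fun v => ⟨InT.zero, zero_mem _⟩, by rw [(hP s).2 h]; simp⟩
      let U : Fin (r + 1) → (Fin (r + 1) → Bool) → (Fin i → Fin (r + 1)) → R := fun v s => u s v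
      have hsum : ∑ v, xs k r v • U v = z :=
        funext fun s => by rw [Finset.sum_apply]; exact (hz s).symm
      let z' : (Fin (r + 1) → Bool) → (Fin (i + 1) → Fin (r + 1)) → R :=
        fun s c => kd (xs k r) (U (c 0)) s (Fin.tail c)
      have hlet : ∀ v, (letter (k := k) v).compLeft (Fin (r + 1) → Bool) z' =
          kd (xs k r) (U v) := fun v => by
        funext s c
        simp [z', letter, LinearMap.funLeft_apply, Fin.tail_cons]
      have hT' : ∀ s, InT k (z' s) := fun s sl c => by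
        rw [slot_apply]
        rcases Fin.eq_zero_or_eq_succ sl with rfl | ⟨sl, rfl⟩
        · have := congrFun (congrFun (congrArg (kd (xs k r)) hsum) s) (Fin.tail c)
          rw [hz0, map_sum, Finset.sum_apply, Finset.sum_apply] at this
          refine Eq.trans (Finset.sum_congr rfl fun v _ => ?_) this
          simp [z', map_smul, Fin.tail_update_zero]
        · have := inT_kd (xs k r) (fun t => (hu t (c 0)).1) s sl (Fin.tail c)
          rw [slot_apply] at this
          refine Eq.trans (Finset.sum_congr rfl fun v _ => ?_) this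
          simp [z', U, Fin.tail_update_succ, Function.update_of_ne (Fin.succ_ne_zero sl).symm]
      have hP' : ∀ s, z' s ∈ PureW ℛ (i + 1) q (j - q - (i + 1 : ℕ)) (wt s) := fun s => by
        have hpure : ∀ v, kd (xs k r) (U v) s ∈ PureW ℛ i q (j - (q + 1 : ℕ) - i) (wt s) :=
          fun v => kd_pure (fun t => (hu t v).2) s
        rw [show j - (q : ℤ) - ((i + 1 : ℕ) : ℤ) = j - ((q + 1 : ℕ) : ℤ) - i by push_cast; ring]
        exact ⟨fun e c => (hpure (c 0)).1 e (Fin.tail c),
          fun e => funext fun c => congrFun ((hpure (c 0)).2 e) (Fin.tail c)⟩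
      have hz' : kd (xs k r) z' = 0 := by
        funext s c
        have := congrFun (congrFun (kd_map (letter (k := k) (c 0)) (xs k r) z') s) (Fin.tail c)
        rw [hlet, kd_kd] at this
        simpa [letter, LinearMap.funLeft_apply, Fin.cons_self_tail] using this.symm
      obtain ⟨w, hw, hwz⟩ := ih (i + 1) (by omega) z' hT' hP' hz'
      let W : Fin (r + 1) → (Fin (r + 1) → Bool) → (Fin i → Fin (r + 1)) → R :=
        fun v => (letter (k := k) v).compLeft (Fin (r + 1) → Bool) w
      refine ⟨∑ v, kh (S := P k r) v (U v - W v), fun s => ?_, ?_⟩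
      · rw [Finset.sum_apply]
        exact InT.sum _ fun v _ => inT_kh v (fun t => InT.sub (hu t v).1 ((hw t).letter v)) s
      · rw [map_sum]
        have hv : ∀ v, kd (xs k r) (kh (S := P k r) v (U v - W v)) = xs k r v • (U v - W v) :=
          fun v => by
          have h0 : kd (xs k r) (U v - W v) = 0 := by
            rw [map_sub, kd_map, hwz, hlet, sub_self]
          have := kd_kh_add (xs k r) v (U v - W v)
          rwa [h0, map_zero, add_zero] at this
        simp only [hv, smul_sub, Finset.sum_sub_distrib, hsum]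
        rw [sub_eq_self]
        funext s
        rw [Finset.sum_apply]
        exact (hw s).sum_letter

include hgen in
/-- Pure Koszul cycles of `R` of bidegree `(p, j)` are boundaries. -/
theorem exists_boundary_zero (z : (Fin (r + 1) → Bool) → R)
    (hP : ∀ s, (wt s = p → z s ∈ ℛ (j - p)) ∧ (wt s ≠ p → z s = 0)) (hz : kd (xs k r) z = 0) :
    ∃ w, kd (xs k r) w = z := by
  let ι : R →ₗ[P k r] (Fin 0 → Fin (r + 1)) → R := LinearMap.pi fun _ => LinearMap.id
  obtain ⟨w, -, hw⟩ := exists_boundary (ℛ := ℛ) hgen p 0 (zero_add p)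
    (ι.compLeft (Fin (r + 1) → Bool) z) (fun s sl => sl.elim0)
    (fun s => ⟨fun e c => by simpa [ι] using (hP s).1 e,
      fun e => funext fun c => by simpa [ι] using (hP s).2 e⟩)
    (by rw [kd_map, hz, map_zero])
  refine ⟨(LinearMap.proj Fin.elim0 :
    ((Fin 0 → Fin (r + 1)) → R) →ₗ[P k r] R).compLeft (Fin (r + 1) → Bool) w, ?_⟩
  rw [kd_map, hw]
  rfl

section Resolution

variable [Module.Finite (P k r) R]
  (F : _root_.GrSyz.FreeRes (_root_.GrSyz.stdGr k (Fin (r + 1))) ℛ)

/-- The components in a free term. -/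
def fcpt (i : ℕ) (D : ℤ) : (Fin (F.rk i) → P k r) →+ (Fin (F.rk i) → P k r) :=
  AddMonoidHom.mk' (fun v b => GrLC.cpt (_root_.GrSyz.stdGr k (Fin (r + 1))) (D - F.deg i b) (v b))
    fun v w => funext fun b => map_add _ _ _

theorem fcpt_X_smul (i : ℕ) (D : ℤ) (v : Fin (r + 1)) (m : Fin (F.rk i) → P k r) :
    fcpt F i D (xs k r v • m) = xs k r v • fcpt F i (D - 1) m := funext fun b => by
  show GrLC.cpt _ (D - F.deg i b) (xs k r v • m b) =
    xs k r v • GrLC.cpt _ (D - 1 - F.deg i b) (m b)
  rw [GrLC.cpt_smul_left' (𝒜 := _root_.GrSyz.stdGr k (Fin (r + 1)))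
    (_root_.GrSyz.stdGr k (Fin (r + 1))) (xs_mem v), sub_right_comm]

include hgen in
/-- A pure chain of the resolution whose image is a cycle is a boundary plus an image. -/
theorem exists_decomp (hF : F.IsMinimal (mx k r)) : ∀ (i q : ℕ), i + q = p →
    ∀ a : (Fin (r + 1) → Bool) → Fin (F.rk i) → P k r,
      (∀ s, (wt s = q → a s ∈ freePiece F i (j - q)) ∧ (wt s ≠ q → a s = 0)) →
      (match i, a with
        | 0, a => kd (xs k r) (F.augLin.compLeft (Fin (r + 1) → Bool) a) = 0
        | i + 1, a => kd (xs k r) ((F.dLin i).compLeft (Fin (r + 1) → Bool) a) = 0) →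
      ∃ (W : (Fin (r + 1) → Bool) → Fin (F.rk i) → P k r)
        (H : (Fin (r + 1) → Bool) → Fin (F.rk (i + 1)) → P k r),
        a = kd (xs k r) W + (F.dLin i).compLeft (Fin (r + 1) → Bool) H := by
  intro i
  induction i with
  | zero =>
      intro q hq a ha hcyc
      obtain rfl : q = p := by omega
      obtain ⟨w, hw⟩ := exists_boundary_zero (ℛ := ℛ) hgen
        (F.augLin.compLeft (Fin (r + 1) → Bool) a)
        (fun s => ⟨fun e => augLin_mem F ((ha s).1 e),
          fun e => by show F.augLin (a s) = 0; rw [(ha s).2 e, map_zero]⟩) hcyc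
      choose W hW using fun s => F.aug_surjective (w s)
      have hker : ∀ s, a s - kd (xs k r) W s ∈ LinearMap.range (F.dLin 0) := fun s => by
        refine F.exact_zero.le (LinearMap.mem_ker.2 ?_)
        rw [map_sub, sub_eq_zero]
        refine Eq.trans ?_ (congrFun (kd_map F.augLin (xs k r) W) s)
        rw [show F.augLin.compLeft (Fin (r + 1) → Bool) W = w from funext hW, hw]
        rfl
      choose H hH using hker
      refine ⟨W, H, funext fun s => ?_⟩
      show a s = kd (xs k r) W s + F.dLin 0 (H s)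
      rw [hH, add_sub_cancel]
  | succ i ih =>
      intro q hq a ha hcyc
      let b : (Fin (r + 1) → Bool) → Fin (F.rk i) → P k r :=
        (F.dLin i).compLeft (Fin (r + 1) → Bool) a
      obtain ⟨a', ha'⟩ := exists_kd_eq_pi (xs k r) (regTuple_X k (r + 1)) b hcyc fun c => by
        show ∑ e, F.d i c e * a (pt (r + 1)) e ∈ _
        exact sum_mem fun e _ => Ideal.mul_mem_right _ _ (hF i c e)
      let π : ℕ → (Fin (F.rk i) → P k r) →+ Fin (F.rk i) → P k r := fun t =>
        if t = q + 1 then fcpt F i (j - (q + 1 : ℕ)) else 0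
      let ρ : ℕ → (Fin (F.rk i) → P k r) →+ Fin (F.rk i) → P k r := fun t =>
        if t = q then fcpt F i (j - q) else 0
      let a'' : (Fin (r + 1) → Bool) → Fin (F.rk i) → P k r := fun s => π (wt s) (a' s)
      have hb : kd (xs k r) a'' = b := funext fun s => by
        refine (kd_comm (xs k r) π ρ (fun t v m => ?_) a' s).trans ?_
        · by_cases ht : t = q
          · subst ht
            simp only [π, ρ, if_pos rfl]
            rw [fcpt_X_smul, show j - (t : ℤ) - 1 = j - ((t + 1 : ℕ) : ℤ) by push_cast; ring]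
          · simp [π, ρ, ht]
        · rw [ha']
          by_cases hs : wt s = q
          · simp only [ρ, if_pos hs]
            refine funext fun c => GrLC.cpt_of_mem _ ?_
            exact (mem_freePiece F).1 (dLin_mem_freePiece F i ((ha s).1 hs)) c
          · simp only [ρ, if_neg hs, AddMonoidHom.zero_apply]
            show 0 = F.dLin i (a s)
            rw [(ha s).2 hs, map_zero]
      have ha'' : ∀ s, (wt s = q + 1 → a'' s ∈ freePiece F i (j - (q + 1 : ℕ))) ∧
          (wt s ≠ q + 1 → a'' s = 0) := fun s => by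
        refine ⟨fun e => (mem_freePiece F).2 fun c => ?_, fun e => by simp [a'', π, e]⟩
        simp only [a'', π, if_pos e]
        exact GrLC.cpt_mem _ _ _
      obtain ⟨W, H, hWH⟩ := ih (q + 1) (by omega) a'' ha'' (by
        cases i with
        | zero =>
          show kd (xs k r) (F.augLin.compLeft _ a'') = 0
          rw [kd_map, hb]
          exact funext fun s => LinearMap.mem_ker.1 (F.exact_zero.ge ⟨a s, rfl⟩)
        | succ i =>
          show kd (xs k r) ((F.dLin i).compLeft _ a'') = 0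
          rw [kd_map, hb]
          exact funext fun s => LinearMap.mem_ker.1 ((F.exact_succ i).ge ⟨a s, rfl⟩))
      have hker : ∀ s, a s - kd (xs k r) H s ∈ LinearMap.range (F.dLin (i + 1)) := fun s => by
        refine (F.exact_succ i).le (LinearMap.mem_ker.2 ?_)
        rw [map_sub, sub_eq_zero]
        have h1 := congrFun hb s
        rw [hWH, map_add, kd_kd, zero_add, kd_map] at h1
        exact h1.symm
      choose H' hH' using hker
      refine ⟨H, H', funext fun s => ?_⟩
      show a s = kd (xs k r) H s + F.dLin (i + 1) (H' s)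
      rw [hH', add_sub_cancel]

include hgen in
/-- No basis vector of degree `j` in homological degree `p`. -/
theorem betti_eq_zero (hF : F.IsMinimal (mx k r)) : F.betti p j = 0 := by
  classical
  rw [_root_.GrSyz.FreeRes.betti, Finset.card_eq_zero, Finset.filter_eq_empty_iff]
  intro b _ hb
  let e : Fin (F.rk p) → P k r := Pi.single b 1
  have hpure : ∀ s : Fin (r + 1) → Bool,
      (wt s = 0 → base e s ∈ freePiece F p (j - (0 : ℕ))) ∧ (wt s ≠ 0 → base e s = 0) := fun s => by
    refine ⟨fun _ => ?_, fun h => base_of_ne _ _ h⟩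
    have : base e s = e ∨ base e s = 0 := by
      rcases eq_or_ne s (pt (r + 1)) with rfl | hs
      · exact Or.inl (base_pt e)
      · exact Or.inr (base_of_ne _ _ fun h0 => hs (eq_pt h0))
    rcases this with h | h <;> rw [h]
    · refine (mem_freePiece F).2 fun c => ?_
      rcases eq_or_ne c b with rfl | hc
      · simp only [e, Pi.single_eq_same, hb, Nat.cast_zero, sub_zero, sub_self]
        exact SetLike.GradedOne.one_mem
      · simp only [e, Pi.single_eq_of_ne hc]
        exact zero_mem _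
    · exact zero_mem _
  obtain ⟨W, H, hWH⟩ := exists_decomp hgen F hF p 0 (add_zero p) (base e) hpure (by
    cases p with
    | zero => show kd _ (F.augLin.compLeft _ _) = 0; rw [kd_map, kd_base, map_zero]
    | succ p => show kd _ ((F.dLin p).compLeft _ _) = 0; rw [kd_map, kd_base, map_zero])
  have h := congrFun (congrFun hWH (pt (r + 1))) b
  rw [base_pt, Pi.add_apply, Pi.add_apply] at h
  simp only [e, Pi.single_eq_same] at h
  refine one_notMem_mx (h ▸ add_mem ?_ ?_)
  · have h1 := kd_pt_mem (xs k r)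
      ((LinearMap.proj b : (Fin (F.rk p) → P k r) →ₗ[P k r] P k r).compLeft _ W)
    rw [kd_map, Ideal.smul_eq_mul, Ideal.mul_top] at h1
    exact h1
  · show ∑ c, F.d p b c * H (pt (r + 1)) c ∈ _
    exact sum_mem fun c _ => Ideal.mul_mem_right _ _ (hF p b c)

end Resolution

end Groth.Agent.GrSyz.LinearSyz
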