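import Groth.Agent.GrSyz.Std
import Groth.Agent.GrLC.MapLin
import Mathlib.RingTheory.MvPolynomial.Ideal

/-!
# Graded local cohomology of a polynomial ring

For `S = k[X_0, …, X_{N-1}]` with the standard grading and `𝔪` its irrelevant ideal:
`H^p_𝔪(S) = 0` for `p ≠ N`, `H^N_𝔪(S)_n = 0` for `n > -N` and `H^N_𝔪(S)_{-N} ≠ 0`.
The proof is by induction along the quotients `S/(X_c : j ≤ c)`.
-/

set_option autoImplicit false
set_option linter.unusedSectionVars false
set_option linter.style.haveILetI false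
set_option maxRecDepth 20000
universe u

open DirectSum Groth.Agent.GrLC

namespace Groth.Agent.GrSyz

variable (k : Type u) [Field k] (N : ℕ)

/-- The irrelevant ideal of the polynomial ring. -/
noncomputable abbrev irrelS : HomogeneousIdeal (_root_.GrSyz.stdGr k (Fin N)) :=
  _root_.GrSyz.irrel (_root_.GrSyz.stdGr k (Fin N))

theorem X_mem_stdGr_one {σ : Type} (c : σ) :
    (MvPolynomial.X c : MvPolynomial σ k) ∈ _root_.GrSyz.stdGr k σ 1 := by
  rw [_root_.GrSyz.mem_stdGr_iff]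
  exact MvPolynomial.isWeightedHomogeneous_X k _ c

theorem X_mem_irrelS (c : Fin N) :
    (MvPolynomial.X c : MvPolynomial (Fin N) k) ∈ (irrelS k N).toIdeal :=
  mem_irrel_of_pos zero_lt_one (X_mem_stdGr_one k c)

theorem irrelS_le_span_X : (irrelS k N).toIdeal ≤
    Ideal.span (MvPolynomial.X '' (Set.univ : Set (Fin N))) := by
  refine Ideal.span_le.2 ?_
  rintro p ⟨n, hn, hp⟩
  refine MvPolynomial.mem_ideal_span_X_image.2 fun m hm => ?_
  have hdeg := stdGr_degree_eq hp (MvPolynomial.mem_support_iff.1 hm)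
  by_contra hc
  push Not at hc
  rw [(Finsupp.degree_eq_zero_iff m).2 (Finsupp.ext fun c => hc c (Set.mem_univ c))] at hdeg
  omega

theorem irrelS_eq_span_one : (irrelS k N).toIdeal =
    Ideal.span ((_root_.GrSyz.stdGr k (Fin N) 1 : Submodule k _) : Set (MvPolynomial (Fin N) k)) := by
  refine le_antisymm ((irrelS_le_span_X k N).trans (Ideal.span_mono ?_)) (Ideal.span_le.2 ?_)
  · rintro - ⟨c, -, rfl⟩; exact X_mem_stdGr_one k c
  · exact fun x hx => mem_irrel_of_pos zero_lt_one hx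

/-- The ideal of the last variables. -/
noncomputable def tailIdeal (j : ℕ) : Ideal (MvPolynomial (Fin N) k) :=
  Ideal.span (MvPolynomial.X '' {c : Fin N | j ≤ (c : ℕ)})

theorem isHomogeneous_tailIdeal (j : ℕ) :
    (tailIdeal k N j).IsHomogeneous (_root_.GrSyz.stdGr k (Fin N)) :=
  Ideal.homogeneous_span _ _ (by rintro - ⟨c, -, rfl⟩; exact ⟨1, X_mem_stdGr_one k c⟩)

/-- The quotient by the last variables, as a graded module. -/
noncomputable def tailQuot (j : ℕ) : _root_.GrLC.GMod.{u} (_root_.GrSyz.stdGr k (Fin N)) :=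
  quoGMod (_root_.GrSyz.stdGr k (Fin N)) (_root_.GrSyz.stdGr k (Fin N))
    (isHomogeneous_tailIdeal k N j)

theorem mul_X_mem_tailIdeal_iff {j : ℕ} (hj : j < N) {p : MvPolynomial (Fin N) k} :
    MvPolynomial.X ⟨j, hj⟩ * p ∈ tailIdeal k N (j + 1) ↔ p ∈ tailIdeal k N (j + 1) := by
  refine ⟨fun h => MvPolynomial.mem_ideal_span_X_image.2 fun m hm => ?_, Ideal.mul_mem_left _ _⟩
  obtain ⟨c, hc, hne⟩ := MvPolynomial.mem_ideal_span_X_image.1 h (Finsupp.single ⟨j, hj⟩ 1 + m) (by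
    rw [MvPolynomial.mem_support_iff, MvPolynomial.coeff_X_mul]
    exact MvPolynomial.mem_support_iff.1 hm)
  refine ⟨c, hc, fun h0 => hne ?_⟩
  have hcj : (⟨j, hj⟩ : Fin N) ≠ c := fun e => by
    have : j + 1 ≤ (c : ℕ) := hc
    rw [← e] at this
    exact Nat.not_succ_le_self j this
  rw [Finsupp.add_apply, Finsupp.single_eq_of_ne' hcj, h0]

theorem tailIdeal_eq_sup {j : ℕ} (hj : j < N) :
    tailIdeal k N j = Ideal.span {MvPolynomial.X ⟨j, hj⟩} ⊔ tailIdeal k N (j + 1) := by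
  rw [tailIdeal, tailIdeal, ← Ideal.span_union]
  congr 1
  rw [← Set.image_singleton, ← Set.image_union]
  congr 1
  ext c
  simp only [Set.mem_ofPred_eq, Set.mem_union, Set.mem_singleton_iff, Fin.ext_iff]
  omega

theorem tailQuot_smul_injective {j : ℕ} (hj : j < N) :
    Function.Injective fun m : (tailQuot k N (j + 1)).carrier =>
      (MvPolynomial.X ⟨j, hj⟩ : MvPolynomial (Fin N) k) • m := by
  intro x y hxy
  obtain ⟨p, rfl⟩ := Submodule.Quotient.mk_surjective _ x
  obtain ⟨q, rfl⟩ := Submodule.Quotient.mk_surjective _ y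
  refine (Submodule.Quotient.eq _).2 ((mul_X_mem_tailIdeal_iff k N hj).1 ?_)
  have h := (Submodule.Quotient.eq (tailIdeal k N (j + 1))).1
    (((Submodule.Quotient.mk_smul _ _ p).trans hxy).trans (Submodule.Quotient.mk_smul _ _ q).symm)
  rwa [smul_eq_mul, smul_eq_mul, ← mul_sub] at h

/-- The comparison `Q_{j+1}/X_j Q_{j+1} ≃ Q_j` in each degree. -/
theorem gr_quot_eq_bot_iff {j : ℕ} (hj : j < N) (p : ℕ) (n : ℤ) :
    LC.gr (quoGMod (_root_.GrSyz.stdGr k (Fin N)) (tailQuot k N (j + 1)).gr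
      (isHomogeneous_smulRange (X := tailQuot k N (j + 1)) (X_mem_stdGr_one k (⟨j, hj⟩ : Fin N)))).gr
        (irrelS k N) p n = ⊥ ↔ LC.gr (tailQuot k N j).gr (irrelS k N) p n = ⊥ := by
  let S := MvPolynomial (Fin N) k
  have hle : tailIdeal k N (j + 1) ≤ tailIdeal k N j :=
    Ideal.span_mono (Set.image_mono fun c (hc : j + 1 ≤ (c : ℕ)) => le_trans (Nat.le_succ j) hc)
  let π : (tailQuot k N (j + 1)).carrier →ₗ[S] (tailQuot k N j).carrier :=
    Submodule.mapQ (tailIdeal k N (j + 1)) (tailIdeal k N j) LinearMap.id hle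
  have hπ : Function.Surjective π := fun y => by
    obtain ⟨q, rfl⟩ := Submodule.Quotient.mk_surjective _ y
    exact ⟨Submodule.Quotient.mk q, rfl⟩
  have hker : LinearMap.ker π =
      smulRange (MvPolynomial.X ⟨j, hj⟩ : S) (tailQuot k N (j + 1)).carrier := by
    ext z
    obtain ⟨q, rfl⟩ := Submodule.Quotient.mk_surjective _ z
    constructor
    · intro hq
      have hq' : q ∈ tailIdeal k N j := (Submodule.Quotient.mk_eq_zero _).1 hq
      rw [tailIdeal_eq_sup k N hj, Submodule.mem_sup] at hq'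
      obtain ⟨u, hu, v, hv, rfl⟩ := hq'
      obtain ⟨w, rfl⟩ := Ideal.mem_span_singleton'.1 hu
      refine ⟨Submodule.Quotient.mk w, ?_⟩
      refine ((Submodule.Quotient.mk_smul (tailIdeal k N (j + 1)) _ w).symm.trans ?_)
      refine (Submodule.Quotient.eq _).2 ?_
      rw [smul_eq_mul, mul_comm, sub_add_cancel_left]
      exact neg_mem hv
    · rintro ⟨w, hw⟩
      rw [← hw]
      obtain ⟨w, rfl⟩ := Submodule.Quotient.mk_surjective _ w
      refine (map_smul π _ _).trans ((Submodule.Quotient.mk_smul (tailIdeal k N j) _ w).symm.trans ?_)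
      exact (Submodule.Quotient.mk_eq_zero _).2
        (Ideal.mul_mem_right _ _ (Ideal.subset_span ⟨⟨j, hj⟩, le_refl j, rfl⟩))
  let Q := quoGMod (_root_.GrSyz.stdGr k (Fin N)) (tailQuot k N (j + 1)).gr
    (isHomogeneous_smulRange (X := tailQuot k N (j + 1)) (X_mem_stdGr_one k (⟨j, hj⟩ : Fin N)))
  let f : Q.carrier →ₗ[S] (tailQuot k N j).carrier := Submodule.liftQ _ π hker.ge
  have hf : Function.Bijective f := by
    refine ⟨LinearMap.ker_eq_bot.1 ?_, fun y => ?_⟩
    · exact Submodule.ker_liftQ_eq_bot' _ π hker.symm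
    · obtain ⟨x, rfl⟩ := hπ y; exact ⟨Submodule.Quotient.mk x, rfl⟩
  have hfgr : _root_.GrLC.IsGrHom Q.gr (tailQuot k N j).gr f := by
    rintro g x ⟨y, ⟨q, hq, rfl⟩, rfl⟩
    exact ⟨q, hq, rfl⟩
  exact LC.gr_eq_bot_iff_of_bijective (f := f) (irrelS k N) p hf hfgr n

theorem gr_tailQuot_zero (p : ℕ) (n : ℤ) (h : p ≠ 0 ∨ n ≠ 0) :
    LC.gr (tailQuot k N 0).gr (irrelS k N) p n = ⊥ := by
  rcases p with - | p
  · refine LC.gr_zero_eq_bot (irrelS k N) fun m hm _ => ?_
    obtain ⟨q, hq, rfl⟩ := hm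
    refine (Submodule.Quotient.mk_eq_zero _).2 (MvPolynomial.mem_ideal_span_X_image.2 fun d hd => ?_)
    have hdeg := stdGr_degree_eq hq (MvPolynomial.mem_support_iff.1 hd)
    by_contra hc
    push Not at hc
    rw [(Finsupp.degree_eq_zero_iff d).2 (Finsupp.ext fun c => hc c (Nat.zero_le _))] at hdeg
    rcases h with h | h <;> omega
  · haveI := LocCohElt.subsingleton_of_powerTorsion (irrelS k N).toIdeal p (tailQuot k N 0).carrier
      fun m => ⟨1, fun r hr => by
        obtain ⟨q, rfl⟩ := Submodule.Quotient.mk_surjective _ m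
        rw [pow_one] at hr
        refine (Submodule.Quotient.mk_smul _ r q).symm.trans ((Submodule.Quotient.mk_eq_zero _).2 ?_)
        refine Ideal.mul_mem_right q _ (Ideal.span_mono (Set.image_mono ?_) (irrelS_le_span_X k N hr))
        exact fun c _ => Nat.zero_le _⟩
    exact (AddSubgroup.eq_bot_iff_forall _).2 fun y _ => Subsingleton.elim y 0

theorem gr_tailQuot_zero_ne : LC.gr (tailQuot k N 0).gr (irrelS k N) 0 0 ≠ ⊥ := by
  refine LC.exists_mem_gr_zero_ne (irrelS k N) (m := Submodule.Quotient.mk 1)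
    ⟨1, SetLike.one_mem_graded (_root_.GrSyz.stdGr k (Fin N)), rfl⟩ ⟨1, fun r hr => ?_⟩ fun h1 => ?_
  · rw [pow_one] at hr
    refine (Submodule.Quotient.mk_smul _ r (1 : MvPolynomial (Fin N) k)).symm.trans
      ((Submodule.Quotient.mk_eq_zero _).2 ?_)
    refine Ideal.mul_mem_right _ _ (Ideal.span_mono (Set.image_mono ?_) (irrelS_le_span_X k N hr))
    exact fun c _ => Nat.zero_le _
  · obtain ⟨c, -, hc⟩ := MvPolynomial.mem_ideal_span_X_image.1 ((Submodule.Quotient.mk_eq_zero _).1 h1)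
      0 (by rw [MvPolynomial.mem_support_iff, MvPolynomial.coeff_zero_one]; exact one_ne_zero)
    exact hc rfl

theorem gr_tailQuot : ∀ j, j ≤ N →
    (∀ p n, (p ≠ j ∨ -(j : ℤ) < n) → LC.gr (tailQuot k N j).gr (irrelS k N) p n = ⊥) ∧
      LC.gr (tailQuot k N j).gr (irrelS k N) j (-(j : ℤ)) ≠ ⊥ := by
  intro j
  induction j with
  | zero =>
    refine fun _ => ⟨fun p n h => gr_tailQuot_zero k N p n (h.imp id fun hn => ?_), ?_⟩
    · omega
    · simpa using gr_tailQuot_zero_ne k N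
  | succ j ih =>
    intro hjN
    have hj : j < N := hjN
    obtain ⟨hvan, hne⟩ := ih (le_of_lt hj)
    have hX := X_mem_stdGr_one k (⟨j, hj⟩ : Fin N)
    have hinj := tailQuot_smul_injective k N hj
    have h0 : ∀ n, LC.gr (tailQuot k N (j + 1)).gr (irrelS k N) 0 n = ⊥ := fun n =>
      LC.gr_zero_eq_bot_of_nzd (irrelS k N) (X_mem_irrelS k N ⟨j, hj⟩) hinj n
    have hmain : ∀ p n, (p ≠ j + 1 ∨ -((j : ℤ) + 1) < n) →
        LC.gr (tailQuot k N (j + 1)).gr (irrelS k N) p n = ⊥ := by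
      intro p n h
      rcases p with - | p
      · exact h0 n
      · refine LC.gr_succ_eq_bot_of_quot (irrelS k N) p (tailQuot k N (j + 1)) hX hinj zero_le_one
          (X_mem_irrelS k N ⟨j, hj⟩) (r := n + 1) (fun m hm => ?_) le_rfl
        exact (gr_quot_eq_bot_iff k N hj p m).2
          (hvan p m (h.imp (fun h e => h (by omega)) fun h => by omega))
    refine ⟨fun p n h => hmain p n (h.imp id fun h => by push_cast at h; omega), ?_⟩
    refine LC.gr_succ_ne_bot_of_quot (irrelS k N) j (tailQuot k N (j + 1)) hX hinj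
      (hmain j _ (Or.inl (by omega))) fun hq => hne ?_
    have e : -((j : ℤ)) = -((j + 1 : ℕ) : ℤ) + 1 := by push_cast; ring
    rw [e]
    exact (gr_quot_eq_bot_iff k N hj j _).1 hq

theorem gr_tailQuot_self_iff (p : ℕ) (n : ℤ) :
    LC.gr (_root_.GrSyz.stdGr k (Fin N)) (irrelS k N) p n = ⊥ ↔
      LC.gr (tailQuot k N N).gr (irrelS k N) p n = ⊥ := by
  have hbot : tailIdeal k N N = ⊥ := by
    rw [tailIdeal, Ideal.span_eq_bot]
    rintro - ⟨c, hc, rfl⟩
    have : N ≤ (c : ℕ) := hc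
    have := c.isLt
    omega
  let f : MvPolynomial (Fin N) k →ₗ[MvPolynomial (Fin N) k] (tailQuot k N N).carrier :=
    (tailIdeal k N N).mkQ
  have hf : Function.Bijective f :=
    ⟨LinearMap.ker_eq_bot.1 ((Submodule.ker_mkQ _).trans hbot), Submodule.mkQ_surjective _⟩
  have hfgr : _root_.GrLC.IsGrHom (_root_.GrSyz.stdGr k (Fin N)) (tailQuot k N N).gr f :=
    isGrHom_mkQ _ _
  exact LC.gr_eq_bot_iff_of_bijective (f := f) (irrelS k N) p hf hfgr n

/-- `H^p_𝔪(S)_n = 0` unless `p = N` and `n ≤ -N`. -/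
theorem gr_poly_eq_bot {p : ℕ} {n : ℤ} (h : p ≠ N ∨ -(N : ℤ) < n) :
    LC.gr (_root_.GrSyz.stdGr k (Fin N)) (irrelS k N) p n = ⊥ :=
  (gr_tailQuot_self_iff k N p n).2 ((gr_tailQuot k N N le_rfl).1 p n h)

/-- `H^N_𝔪(S)_{-N} ≠ 0`. -/
theorem gr_poly_ne_bot :
    LC.gr (_root_.GrSyz.stdGr k (Fin N)) (irrelS k N) N (-(N : ℤ)) ≠ ⊥ := fun h =>
  (gr_tailQuot k N N le_rfl).2 ((gr_tailQuot_self_iff k N N _).1 h)

end Groth.Agent.GrSyz
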