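import Groth.Agent.GrSyz.CohBound
import Groth.Agent.GrLC.Diagonal

/-!
# Regularity of graded modules over a polynomial ring

`isGenLE_iff` (regularity through local cohomology), `isRegLE_iff`, `reg_eq_iInf`,
`endDeg_le_iff`, `cohReg_iff_diag`.
-/

set_option autoImplicit false
set_option linter.unusedSectionVars false
set_option linter.style.haveILetI false
set_option maxRecDepth 20000
universe u

open DirectSum Groth.Agent.GrLC

namespace Groth.Agent.GrSyz

theorem endDeg_le_iff {M : Type u} [AddCommGroup M] (ℳ : ℤ → AddSubgroup M) (d : ℤ) :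
    _root_.GrLC.endDeg ℳ ≤ ((d : WithTop ℤ) : WithBot (WithTop ℤ)) ↔ ∀ n, d < n → ℳ n = ⊥ := by
  constructor
  · intro h n hn
    by_contra hne
    have h' : ((n : WithTop ℤ) : WithBot (WithTop ℤ)) ≤ ((d : WithTop ℤ) : WithBot (WithTop ℤ)) :=
      le_trans (le_iSup₂ (f := fun (n : ℤ) (_ : ℳ n ≠ ⊥) =>
        ((n : WithTop ℤ) : WithBot (WithTop ℤ))) n hne) h
    rw [WithBot.coe_le_coe, WithTop.coe_le_coe] at h'
    omega
  · intro h
    refine iSup₂_le fun n hn => ?_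
    rw [WithBot.coe_le_coe, WithTop.coe_le_coe]
    by_contra hc
    exact hn (h n (by omega))

theorem add_int_le_iff (x : WithBot (WithTop ℤ)) (i d : ℤ) :
    x + ((i : WithTop ℤ) : WithBot (WithTop ℤ)) ≤ ((d : WithTop ℤ) : WithBot (WithTop ℤ)) ↔
      x ≤ (((d - i : ℤ) : WithTop ℤ) : WithBot (WithTop ℤ)) := by
  induction x with
  | bot => simp
  | coe y =>
    induction y with
    | top => rw [← WithBot.coe_add]; simp
    | coe y =>
      rw [← WithBot.coe_add, ← WithTop.coe_add, WithBot.coe_le_coe, WithTop.coe_le_coe,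
        WithBot.coe_le_coe, WithTop.coe_le_coe]
      omega

theorem eq_of_forall_le_int_iff {x y : WithBot (WithTop ℤ)}
    (h : ∀ d : ℤ, x ≤ ((d : WithTop ℤ) : WithBot (WithTop ℤ)) ↔
      y ≤ ((d : WithTop ℤ) : WithBot (WithTop ℤ))) : x = y := by
  have key : ∀ {a b : WithBot (WithTop ℤ)},
      (∀ d : ℤ, b ≤ ((d : WithTop ℤ) : WithBot (WithTop ℤ)) →
        a ≤ ((d : WithTop ℤ) : WithBot (WithTop ℤ))) → a ≤ b := by
    intro a b hab
    induction b with
    | bot =>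
      induction a with
      | bot => exact le_rfl
      | coe a =>
        induction a with
        | top => exact absurd (WithBot.coe_le_coe.1 (hab 0 bot_le)) (WithTop.coe_lt_top (0 : ℤ)).not_ge
        | coe a =>
          have := hab (a - 1) bot_le
          rw [WithBot.coe_le_coe, WithTop.coe_le_coe] at this
          omega
    | coe b =>
      induction b with
      | top => exact le_top
      | coe b => exact hab b le_rfl
  exact le_antisymm (key fun d => (h d).2) (key fun d => (h d).1)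

theorem iInf_le_int_iff {P : ℤ → Prop} (hP : ∀ r r', r ≤ r' → P r → P r') (d : ℤ) :
    (⨅ (r : ℤ) (_ : P r), ((r : WithTop ℤ) : WithBot (WithTop ℤ))) ≤
      ((d : WithTop ℤ) : WithBot (WithTop ℤ)) ↔ P d := by
  refine ⟨fun h => ?_, fun h => iInf₂_le d h⟩
  by_contra hd
  have h1 : (((d + 1 : ℤ) : WithTop ℤ) : WithBot (WithTop ℤ)) ≤
      ⨅ (r : ℤ) (_ : P r), ((r : WithTop ℤ) : WithBot (WithTop ℤ)) := le_iInf₂ fun r hr => by
    rw [WithBot.coe_le_coe, WithTop.coe_le_coe]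
    by_contra hc
    exact hd (hP r d (by omega) hr)
  have := h1.trans h
  rw [WithBot.coe_le_coe, WithTop.coe_le_coe] at this
  omega

section Poly

variable {k : Type u} [Field k] {N : ℕ}
variable {M : Type u} [AddCommGroup M] [Module (MvPolynomial (Fin N) k) M]
  {τ : Type u} [SetLike τ M] [AddSubgroupClass τ M]

variable (ℳ : ℤ → τ) [DirectSum.Decomposition ℳ] [SetLike.GradedSMul (_root_.GrSyz.stdGr k (Fin N)) ℳ]

variable (k N) in
/-- `M` is `d`-regular in the sense of local cohomology. -/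
def CohReg (d : ℤ) : Prop :=
  ∀ (p : ℕ) (n : ℤ), d < n + (p : ℤ) → LC.gr ℳ (irrelS k N) p n = ⊥

variable (k N) in
/-- The vanishing on one diagonal only. -/
def DiagReg (d : ℤ) : Prop :=
  (∀ n, d < n → LC.gr ℳ (irrelS k N) 0 n = ⊥) ∧
    ∀ i : ℕ, 0 < i → LC.gr ℳ (irrelS k N) i (d - (i : ℤ) + 1) = ⊥

theorem CohReg.mono {d d' : ℤ} (h : CohReg k N ℳ d) (hd : d ≤ d') : CohReg k N ℳ d' :=
  fun p n hn => h p n (by omega)

theorem eq_bot_of_diag {d : ℤ} {l : ℕ} (hl : 1 ≤ l)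
    (h : ∀ i : ℕ, l ≤ i → LC.gr ℳ (irrelS k N) i (d - (i : ℤ) + 1) = ⊥) {i : ℕ} (hi : l ≤ i) {n : ℤ}
    (hn : d < n + (i : ℤ)) : LC.gr ℳ (irrelS k N) i n = ⊥ := by
  let T := toGMod (_root_.GrSyz.stdGr k (Fin N)) ℳ
  let f : M →ₗ[MvPolynomial (Fin N) k] T.carrier := LinearMap.id
  have hf : _root_.GrLC.IsGrHom ℳ T.gr f := fun _ _ hm => hm
  have hX := LC.gr_eq_bot_iff_of_bijective (f := f) (irrelS k N) i Function.bijective_id hf n
  refine hX.2 ?_
  have h' := gr_eq_bot_of_diag (irrelS k N) (irrelS_eq_span_one k N) (toGMod (_root_.GrSyz.stdGr k (Fin N)) ℳ) (r := d) hl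
    (fun j hj => (LC.gr_eq_bot_iff_of_bijective (f := f) (irrelS k N) j
      Function.bijective_id hf _).1 (by
        rw [show d + 1 - (j : ℤ) = d - (j : ℤ) + 1 by ring]; exact h j hj)) i hi (n + i) hn
  rwa [add_sub_cancel_right] at h'

theorem cohReg_iff_diagReg {d : ℤ} : CohReg k N ℳ d ↔ DiagReg k N ℳ d := by
  refine ⟨fun h => ⟨fun n hn => h 0 n (by push_cast; omega), fun i _ => h i _ (by omega)⟩,
    fun h p n hn => ?_⟩
  rcases Nat.eq_zero_or_pos p with rfl | hp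
  · exact h.1 n (by push_cast at hn; omega)
  · exact eq_bot_of_diag ℳ le_rfl (fun i hi => h.2 i hi) hp hn

theorem cohReg_iff_isGenLE {F : _root_.GrSyz.FreeRes (_root_.GrSyz.stdGr k (Fin N)) ℳ}
    (hF : F.IsMinimal (irrelS k N).toIdeal) (d : ℤ) : F.IsGenLE d ↔ CohReg k N ℳ d :=
  ⟨fun h p n hn => gr_eq_bot_of_isGenLE F (hasLengthLE_of_minimal F hF) h hn,
    fun h => isGenLE_of_gr_eq_bot F hF h⟩

theorem isRegLE_iff [Module.Finite (MvPolynomial (Fin N) k) M] (d : ℤ) :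
    _root_.GrSyz.IsRegLE (_root_.GrSyz.stdGr k (Fin N)) ℳ (irrelS k N).toIdeal d ↔ CohReg k N ℳ d := by
  constructor
  · rintro ⟨F, hF, hd⟩; exact (cohReg_iff_isGenLE ℳ hF d).1 hd
  · intro h
    obtain ⟨F, hF⟩ := exists_minimal (𝒜 := _root_.GrSyz.stdGr k (Fin N)) (ℳ := ℳ)
      stdGr_eq_zero_of_neg stdGr_isUnit
    exact ⟨F, hF, (cohReg_iff_isGenLE ℳ hF d).2 h⟩

theorem reg_le_iff [Module.Finite (MvPolynomial (Fin N) k) M] (d : ℤ) :
    _root_.GrSyz.reg (_root_.GrSyz.stdGr k (Fin N)) ℳ (irrelS k N).toIdeal ≤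
      ((d : WithTop ℤ) : WithBot (WithTop ℤ)) ↔ CohReg k N ℳ d := by
  rw [_root_.GrSyz.reg, iInf_le_int_iff ?_ d, isRegLE_iff]
  intro r r' hr h
  exact (isRegLE_iff ℳ r').2 (((isRegLE_iff ℳ r).1 h).mono ℳ hr)

variable (E : _root_.GrLC.StarInjRes (_root_.GrSyz.stdGr k (Fin N)) ℳ)

theorem endDeg_add_le_iff (i : ℕ) (d : ℤ) :
    _root_.GrLC.endDeg (E.Hgr (irrelS k N) i) + (((i : ℤ) : WithTop ℤ) : WithBot (WithTop ℤ)) ≤
      ((d : WithTop ℤ) : WithBot (WithTop ℤ)) ↔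
        ∀ n : ℤ, d < n + (i : ℤ) → LC.gr ℳ (irrelS k N) i n = ⊥ := by
  rw [add_int_le_iff, endDeg_le_iff]
  refine forall_congr' fun n => ?_
  rw [← LC.Hcomp_eq_bot_iff (irrelS k N) i E n]
  constructor
  · intro h hn
    exact Submodule.toAddSubgroup_inj (E.Hcomp (irrelS k N) i n) ⊥ |>.1 (h (by omega))
  · intro h hn
    change (E.Hcomp (irrelS k N) i n).toAddSubgroup = ⊥
    rw [h (by omega)]
    rfl

theorem forall_endDeg_le_iff (d : ℤ) :
    (∀ i : ℕ, _root_.GrLC.endDeg (E.Hgr (irrelS k N) i) + (((i : ℤ) : WithTop ℤ) : WithBot (WithTop ℤ)) ≤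
      ((d : WithTop ℤ) : WithBot (WithTop ℤ))) ↔ CohReg k N ℳ d :=
  forall_congr' fun i => endDeg_add_le_iff ℳ E i d

theorem endDeg_zero_le_iff (d : ℤ) :
    _root_.GrLC.endDeg (E.Hgr (irrelS k N) 0) ≤ ((d : WithTop ℤ) : WithBot (WithTop ℤ)) ↔
      ∀ n : ℤ, d < n → LC.gr ℳ (irrelS k N) 0 n = ⊥ := by
  rw [endDeg_le_iff]
  refine forall_congr' fun n => imp_congr_right fun _ => ?_
  rw [← LC.Hcomp_eq_bot_iff (irrelS k N) 0 E n]
  exact Submodule.toAddSubgroup_inj (E.Hcomp (irrelS k N) 0 n) ⊥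

theorem diag_iff (d : ℤ) :
    (_root_.GrLC.endDeg (E.Hgr (irrelS k N) 0) ≤ ((d : WithTop ℤ) : WithBot (WithTop ℤ)) ∧
      ∀ i : ℕ, 0 < i → E.Hcomp (irrelS k N) i (d - (i : ℤ) + 1) = ⊥) ↔ DiagReg k N ℳ d :=
  and_congr (endDeg_zero_le_iff ℳ E d)
    (forall_congr' fun i => imp_congr_right fun _ => LC.Hcomp_eq_bot_iff (irrelS k N) i E _)

end Poly

end Groth.Agent.GrSyz
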