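import Groth.Agent.GrLC.StandardCM
import Groth.Agent.GrSyz.PolyCoh

/-!
# The degree-zero subring of the standard grading of a polynomial ring
-/

set_option autoImplicit false
universe u

namespace Groth.Agent.GrSyz

variable (k : Type u) [Field k] (N : ℕ)

theorem mem_deg0_stdGr_iff (x : MvPolynomial (Fin N) k) :
    x ∈ _root_.GrLC.deg0 (_root_.GrSyz.stdGr k (Fin N)) ↔
      ∃ c, algebraMap k (MvPolynomial (Fin N) k) c = x :=
  ⟨fun hx => ⟨_, (stdGr_zero_eq_C hx).symm⟩, by
    rintro ⟨c, rfl⟩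
    exact (SetLike.algebraMap_mem_graded (_root_.GrSyz.stdGr k (Fin N)) c :)⟩

theorem isField_deg0_stdGr : IsField (_root_.GrLC.deg0 (_root_.GrSyz.stdGr k (Fin N))) :=
  { exists_pair_ne := ⟨0, 1, fun h => zero_ne_one (congrArg Subtype.val h)⟩
    mul_comm := mul_comm
    mul_inv_cancel := fun {a} ha => by
      obtain ⟨c, hc⟩ := (mem_deg0_stdGr_iff k N a.1).1 a.2
      refine ⟨⟨algebraMap k _ c⁻¹, (mem_deg0_stdGr_iff k N _).2 ⟨_, rfl⟩⟩, Subtype.ext ?_⟩
      have : c ≠ 0 := fun h => ha (Subtype.ext (by rw [← hc, h, map_zero]; rfl))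
      change a.1 * _ = 1
      rw [← hc, ← map_mul, mul_inv_cancel₀ this, map_one] }

theorem isArtinianRing_deg0_stdGr : IsArtinianRing (_root_.GrLC.deg0 (_root_.GrSyz.stdGr k (Fin N))) := by
  letI := (isField_deg0_stdGr k N).toField
  infer_instance

end Groth.Agent.GrSyz
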