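import Groth.Agent.GrModLib.LocalLift
import Groth.Agent.ProjTilde.Twists
import Groth.Agent.ProjTwist.Pn.Coh
import Groth.Agent.GrSyz.Hilbert
import Groth.Agent.GrModLib.NegTwist

/-!
# `M~` on projective space along graded free resolutions

The sheaves of modules graded by the integers are taken with the pieces of non-negative degree only,
so no decomposition indexed by `ℕ` is available: exactness and annihilator conditions are passed
piecewise.

* `tmap`, `mono_tmap`, `epi_tmap`, `exact_tmap`: functoriality and exactness of `M(n)~`;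
* `freeFam`: the pieces of `⊕ S(-a b)`; `subsingleton_freeFam`: vanishing of its cohomology;
* `nonempty_tensor_iso`: `M~ ⊗ O(t) ≅ M(t)~`.
-/

set_option autoImplicit false

universe u

open CategoryTheory CategoryTheory.Limits AlgebraicGeometry TopologicalSpace Opposite

noncomputable section

namespace Groth.Agent.GrSyzTilde

open Groth.Agent.GrModLib

variable {k : Type u} [Field k] {r : ℕ}

section Maps

variable {M N L : Type u} [AddCommGroup M] [Module k M] [Module (MvPolynomial (Fin (r + 1)) k) M]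
  [AddCommGroup N] [Module k N] [Module (MvPolynomial (Fin (r + 1)) k) N]
  [AddCommGroup L] [Module k L] [Module (MvPolynomial (Fin (r + 1)) k) L]
  {ℳ : ℕ → Submodule k M} {𝒩 : ℕ → Submodule k N} {ℒ : ℕ → Submodule k L}
  [SetLike.GradedSMul (CohB1.polyGrading r k) ℳ] [SetLike.GradedSMul (CohB1.polyGrading r k) 𝒩]
  [SetLike.GradedSMul (CohB1.polyGrading r k) ℒ]
  (u : M →ₗ[MvPolynomial (Fin (r + 1)) k] N) (hu : ∀ (i : ℕ) (m : M), m ∈ ℳ i → u m ∈ 𝒩 i)
  (v : N →ₗ[MvPolynomial (Fin (r + 1)) k] L) (hv : ∀ (i : ℕ) (m : N), m ∈ 𝒩 i → v m ∈ ℒ i)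
  (n : ℤ)

variable (r 𝒩) in
/-- Homogeneous elements killed outside a point are killed by a homogeneous element outside it. -/
def HomAnn : Prop :=
  ∀ (x : ProjectiveSpectrum (CohB1.polyGrading r k)) (i : ℕ), ∀ q ∈ 𝒩 i,
    ∀ c : MvPolynomial (Fin (r + 1)) k, c ∉ x.asHomogeneousIdeal → c • q = 0 →
      ∃ (e : ℕ) (c' : MvPolynomial (Fin (r + 1)) k),
        c' ∈ CohB1.polyGrading r k e ∧ c' ∉ x.asHomogeneousIdeal ∧ c' • q = 0

/-- The morphism `M(n)~ ⟶ N(n)~`. -/
def tmap : GrTilde.tilde (CohB1.polyGrading r k) ℳ n ⟶ GrTilde.tilde (CohB1.polyGrading r k) 𝒩 n :=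
  GrMod.map (CohB1.polyGrading r k) u hu n

theorem tmap_app (U : (Proj (CohB1.polyGrading r k)).Opens)
    (s : GrMod.sect (CohB1.polyGrading r k) ℳ n (op U)) :
    (tmap u hu n).app U s = GrMod.mapApp u hu n (op U) s := rfl

theorem tmap_comp_zero (h : ∀ m, v (u m) = 0) : tmap u hu n ≫ tmap v hv n = 0 := by
  refine Scheme.Modules.hom_ext _ 0 fun U ↦ ?_
  ext s
  refine sect_ext fun x hx ↦ ?_
  change GrMod.locMap v x (GrMod.locMap u x (valAt
    (show GrMod.sect (CohB1.polyGrading r k) ℳ n (op U) from s) x hx)) = 0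
  induction valAt (show GrMod.sect (CohB1.polyGrading r k) ℳ n (op U) from s) x hx using
    LocalizedModule.induction_on with
  | _ m t => rw [GrMod.locMap_mk, GrMod.locMap_mk, h, LocalizedModule.zero_mk]

theorem mono_tmap (hN : HomAnn r 𝒩) (h : ∀ i, ∀ m ∈ ℳ i, u m = 0 → m = 0) : Mono (tmap u hu n) :=
  mono_of_injective _ fun W s hs ↦ by
    refine sect_ext fun x hx ↦ ?_
    obtain ⟨j, i, g, q, -, hq, -, hgx, hval⟩ :=
      exists_local_frac' n (show GrMod.sect (CohB1.polyGrading r k) ℳ n (op W) from s) x hx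
    obtain ⟨_, e⟩ := hval x hgx
    have h1 : mk x (u q) g hgx = 0 := by
      refine (GrMod.locMap_mk u x q ⟨g, hgx⟩).symm.trans ?_
      refine (congrArg (GrMod.locMap u x) e).symm.trans ?_
      exact congrArg
        (fun t : GrMod.sect (CohB1.polyGrading r k) 𝒩 n (op W) ↦ valAt t x hx) hs
    obtain ⟨c, hc, hcm⟩ := mk_eq_zero_iff.mp h1
    obtain ⟨ec, c', hc', hc'x, hc'm⟩ := hN x i _ (hu i q hq) c hc hcm
    refine e.trans (mk_eq_zero_iff.mpr ⟨c', hc'x, ?_⟩)
    exact h (ec + i) _ (SetLike.GradedSMul.smul_mem hc' hq) (by rw [map_smul, hc'm])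

theorem epi_tmap (h : ∀ i, ∀ q ∈ 𝒩 i, ∃ m ∈ ℳ i, u m = q) : Epi (tmap u hu n) :=
  epi_of_locally_surjective _ fun W t x hx ↦ by
    obtain ⟨V, hVW, hxV, s, hs⟩ := exists_mapApp_eq u hu n (n₀ := 0) (fun i _ ↦ h i)
      (show GrMod.sect (CohB1.polyGrading r k) 𝒩 n (op W) from t) x hx
    exact ⟨V, hVW, hxV, s, hs⟩

theorem exact_tmap (hL : HomAnn r ℒ) (h0 : ∀ m, v (u m) = 0)
    (hex : ∀ i, ∀ q ∈ 𝒩 i, v q = 0 → ∃ m ∈ ℳ i, u m = q) :
    (ShortComplex.mk (tmap u hu n) (tmap v hv n) (tmap_comp_zero u hu v hv n h0)).Exact :=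
  exact_of_locally_exists _ _ _ fun W t ht x hx ↦ by
    obtain ⟨j, i, g, q, hg, hq, hk, hgx, hval⟩ :=
      exists_local_frac' n (show GrMod.sect (CohB1.polyGrading r k) 𝒩 n (op W) from t) x hx
    obtain ⟨_, e⟩ := hval x hgx
    have h1 : mk x (v q) g hgx = 0 := by
      refine (GrMod.locMap_mk v x q ⟨g, hgx⟩).symm.trans ?_
      refine (congrArg (GrMod.locMap v x) e).symm.trans ?_
      exact congrArg
        (fun s : GrMod.sect (CohB1.polyGrading r k) ℒ n (op W) ↦ valAt s x hx) ht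
    obtain ⟨c, hc, hcm⟩ := mk_eq_zero_iff.mp h1
    obtain ⟨ec, c', hc', hc'x, hc'm⟩ := hL x i _ (hv i q hq) c hc hcm
    obtain ⟨m, hm, hum⟩ :=
      hex (ec + i) (c' • q) (SetLike.GradedSMul.smul_mem hc' hq) (by rw [map_smul, hc'm])
    have hsub : ∀ y : ProjectiveSpectrum (CohB1.polyGrading r k),
        c' * g ∉ y.asHomogeneousIdeal → g ∉ y.asHomogeneousIdeal :=
      fun y hy h' ↦ hy (Ideal.mul_mem_left _ _ h')
    refine ⟨dPlus (CohB1.polyGrading r k) (c' * g), fun y hy ↦ (hval y (hsub y hy)).1,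
      fun h' ↦ (x.isPrime.mem_or_mem h').elim hc'x hgx,
      fracSec hm (SetLike.mul_mem_graded hc' hg) n (by push_cast; omega) (fun y ↦ y.2),
      sect_ext fun y hy ↦ ?_⟩
    obtain ⟨_, e'⟩ := hval y (hsub y hy)
    refine (GrMod.locMap_mk u y _ ⟨_, hy⟩).trans (Eq.trans ?_ e'.symm)
    refine mk_eq_mk_iff.mpr ⟨1, GrMod.one_nin y, ?_⟩
    rw [one_smul, hum, sub_eq_zero, ← mul_smul, mul_comm]

end Maps

/-! ## The grading of the polynomial ring -/

theorem mem_polyGrading_iff {e : ℕ} {p : MvPolynomial (Fin (r + 1)) k} :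
    p ∈ CohB1.polyGrading r k e ↔ p ∈ _root_.GrSyz.stdGr k (Fin (r + 1)) (e : ℤ) := by
  have hw : ∀ d : Fin (r + 1) →₀ ℕ, Finsupp.weight (fun _ : Fin (r + 1) => (1 : ℤ)) d =
      ((Finsupp.weight (1 : Fin (r + 1) → ℕ) d : ℕ) : ℤ) := fun d => by
    simp [Finsupp.weight_apply, Finsupp.sum]
  rw [MvPolynomial.mem_homogeneousSubmodule, _root_.GrSyz.stdGr,
    MvPolynomial.mem_weightedHomogeneousSubmodule]
  refine forall_congr' fun d => imp_congr_right fun _ => ?_
  rw [hw, Nat.cast_inj]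

/-! ## Annihilators in modules graded by the integers -/

theorem homAnn_int {M : Type u} [AddCommGroup M] [Module k M] [Module (MvPolynomial (Fin (r + 1)) k) M]
    (ℳ : ℤ → Submodule k M) [DirectSum.Decomposition ℳ]
    [SetLike.GradedSMul (_root_.GrSyz.stdGr k (Fin (r + 1))) ℳ] :
    HomAnn r (fun i : ℕ => ℳ (i : ℤ)) := by
  classical
  intro x i q hq c hc hcq
  obtain ⟨e, he⟩ : ∃ e, MvPolynomial.homogeneousComponent e c ∉ x.asHomogeneousIdeal := by
    by_contra! hall
    refine hc ?_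
    rw [← MvPolynomial.sum_homogeneousComponent c]
    exact Ideal.sum_mem _ fun e _ ↦ hall e
  refine ⟨e, _, MvPolynomial.homogeneousComponent_mem e c, he, ?_⟩
  have hmem : ∀ j : ℕ, MvPolynomial.homogeneousComponent j c • q ∈ ℳ ((j : ℤ) + i) := fun j =>
    SetLike.GradedSMul.smul_mem (mem_polyGrading_iff.1 (MvPolynomial.homogeneousComponent_mem j c)) hq
  have hsum : ∀ j : ℕ, (DirectSum.decompose ℳ (MvPolynomial.homogeneousComponent j c • q)
      ((e : ℤ) + i) : M) = if j = e then MvPolynomial.homogeneousComponent e c • q else 0 := fun j => by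
    split_ifs with h
    · subst h; exact DirectSum.decompose_of_mem_same ℳ (hmem j)
    · exact DirectSum.decompose_of_mem_ne ℳ (hmem j) (by omega)
  have h0 : (DirectSum.decompose ℳ (c • q) ((e : ℤ) + i) : M) = 0 := by
    rw [hcq, DirectSum.decompose_zero]; simp
  conv_lhs at h0 => rw [← MvPolynomial.sum_homogeneousComponent c, Finset.sum_smul,
    DirectSum.decompose_sum, DFinsupp.finsetSum_apply, AddSubmonoidClass.coe_finsetSum]
  rw [Finset.sum_congr rfl fun j _ => hsum j, Finset.sum_ite_eq'] at h0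
  split_ifs at h0 with h
  · exact h0
  · rw [Finset.mem_range, not_lt] at h
    rw [MvPolynomial.homogeneousComponent_eq_zero _ _ (by omega), zero_smul]

/-! ## Free modules -/

variable (k r) in
/-- The pieces of non-negative degree of `⊕_b S(-a b)`. -/
def freeFam {N : ℕ} (a : Fin N → ℤ) (e : ℕ) :
    Submodule k (Fin N → MvPolynomial (Fin (r + 1)) k) :=
  Submodule.pi Set.univ fun b => _root_.GrSyz.stdGr k (Fin (r + 1)) ((e : ℤ) - a b)

variable (k r) in
/-- The pieces of non-negative degree of `S(-a)`. -/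
def shFam (a : ℤ) (e : ℕ) : Submodule k (MvPolynomial (Fin (r + 1)) k) :=
  _root_.GrSyz.stdGr k (Fin (r + 1)) ((e : ℤ) - a)

theorem mem_freeFam {N : ℕ} {a : Fin N → ℤ} {e : ℕ} {v : Fin N → MvPolynomial (Fin (r + 1)) k} :
    v ∈ freeFam k r a e ↔ ∀ b, v b ∈ _root_.GrSyz.stdGr k (Fin (r + 1)) ((e : ℤ) - a b) := by
  simp [freeFam]

theorem smul_mem_stdGr {i : ℕ} {c p : MvPolynomial (Fin (r + 1)) k} {l m : ℤ}
    (hc : c ∈ CohB1.polyGrading r k i) (hp : p ∈ _root_.GrSyz.stdGr k (Fin (r + 1)) l)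
    (h : (i : ℤ) + l = m) : c * p ∈ _root_.GrSyz.stdGr k (Fin (r + 1)) m :=
  h ▸ SetLike.mul_mem_graded (mem_polyGrading_iff.1 hc) hp

instance gradedSMul_shFam (a : ℤ) :
    SetLike.GradedSMul (CohB1.polyGrading r k) (shFam k r a) where
  smul_mem {i j c p} hc hp := smul_mem_stdGr hc hp (by rw [vadd_eq_add]; push_cast; ring)

instance gradedSMul_freeFam {N : ℕ} (a : Fin N → ℤ) :
    SetLike.GradedSMul (CohB1.polyGrading r k) (freeFam k r a) where
  smul_mem {i j c p} hc hp :=
    mem_freeFam.2 fun b => smul_mem_stdGr hc (mem_freeFam.1 hp b)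
      (by rw [vadd_eq_add]; push_cast; ring)

theorem homAnn_free {N : ℕ} (a : Fin N → ℤ) : HomAnn r (freeFam k r a) := by
  intro x i q _ c hc hcq
  have hc0 : c ≠ 0 := fun h => hc (h ▸ zero_mem _)
  obtain rfl : q = 0 := funext fun b =>
    (mul_eq_zero.1 (congrFun hcq b)).resolve_left hc0
  exact ⟨0, 1, SetLike.GradedOne.one_mem, GrMod.one_nin x, smul_zero _⟩

theorem twist_cohom (d : ℤ) {q : ℕ} (hq : 0 < q) (h : q = r → -((r : ℤ) + 1) < d) :
    Subsingleton (Coh.HH (CohB1.ProjSpace r k) (Twist.twistProjSpace r k d) q) := by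
  obtain ⟨q, rfl⟩ := Nat.exists_eq_succ_of_ne_zero hq.ne'
  exact ProjTwist.Pn.subsingleton_twist d q (by tauto)

set_option maxHeartbeats 1000000 in
/-- `S(-a)(n)~ ≅ O(n - a)`. -/
theorem nonempty_shFam_iso (a n : ℤ) :
    Nonempty (GrTilde.tilde (CohB1.polyGrading r k) (shFam k r a) n ≅
      Twist.twist (CohB1.polyGrading r k) (n - a)) := by
  have hu : ∀ (i : ℕ) (m : MvPolynomial (Fin (r + 1)) k), m ∈ shFam k r a i →
      (LinearMap.id : MvPolynomial (Fin (r + 1)) k →ₗ[MvPolynomial (Fin (r + 1)) k] _) m = 0 ∨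
        ∃ i' : ℕ, (i' : ℤ) - (n - a) = i - n ∧
          (LinearMap.id : MvPolynomial (Fin (r + 1)) k →ₗ[MvPolynomial (Fin (r + 1)) k] _) m ∈
            CohB1.polyGrading r k i' := fun i m hm => by
    rcases lt_or_ge ((i : ℤ) - a) 0 with h | h
    · exact Or.inl (GrSyz.stdGr_eq_zero_of_neg _ h m hm)
    · refine Or.inr ⟨((i : ℤ) - a).toNat, by omega, mem_polyGrading_iff.2 ?_⟩
      rw [Int.toNat_of_nonneg h]
      exact hm
  have hid : ∀ (x : ProjectiveSpectrum (CohB1.polyGrading r k))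
      (q : GrMod.LocMod (CohB1.polyGrading r k) (M := MvPolynomial (Fin (r + 1)) k) x),
      GrMod.locMap (LinearMap.id : MvPolynomial (Fin (r + 1)) k →ₗ[MvPolynomial (Fin (r + 1)) k] _)
        x q = q := fun x q => by
    induction q using LocalizedModule.induction_on with
    | _ m t => rw [GrMod.locMap_mk, LinearMap.id_apply]
  let φ : GrTilde.tilde (CohB1.polyGrading r k) (shFam k r a) n ⟶
      Twist.twist (CohB1.polyGrading r k) (n - a) :=
    shiftMap LinearMap.id n (n - a) hu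
  have hm : Mono φ := mono_of_injective _ fun W s hs => sect_ext fun x hx => by
    refine (hid x _).symm.trans ?_
    exact congrArg (fun t : GrMod.sect (CohB1.polyGrading r k) (CohB1.polyGrading r k) (n - a)
      (op W) => valAt t x hx) hs
  have he : Epi φ := epi_of_locally_surjective _ fun W t x hx => by
    obtain ⟨d, f, hd, hf, hxf⟩ := exists_pos_nin (𝒜 := CohB1.polyGrading r k) x
    obtain ⟨j, i, g, q, hg, hq, hk, hgx, hval⟩ := exists_local_frac' (n - a)
      (show GrMod.sect (CohB1.polyGrading r k) (CohB1.polyGrading r k) (n - a) (op W) from t) x hx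
    have hfd : f ^ a.natAbs ∈ CohB1.polyGrading r k (a.natAbs * d) := by
      simpa using SetLike.pow_mem_graded a.natAbs hf
    have hpos : (0 : ℤ) ≤ ((a.natAbs * d + i : ℕ) : ℤ) + a := by
      have : a.natAbs ≤ a.natAbs * d := Nat.le_mul_of_pos_right _ hd
      omega
    have hmem : f ^ a.natAbs * q ∈
        shFam k r a (((a.natAbs * d + i : ℕ) : ℤ) + a).toNat := by
      refine smul_mem_stdGr hfd (mem_polyGrading_iff.1 hq) ?_
      rw [Int.toNat_of_nonneg hpos]
      push_cast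
      ring
    have hsub : ∀ y : ProjectiveSpectrum (CohB1.polyGrading r k),
        f ^ a.natAbs * g ∉ y.asHomogeneousIdeal → g ∉ y.asHomogeneousIdeal :=
      fun y hy h' ↦ hy (Ideal.mul_mem_left _ _ h')
    refine ⟨dPlus (CohB1.polyGrading r k) (f ^ a.natAbs * g),
      fun y hy => (hval y (hsub y hy)).1,
      fun h' ↦ (x.isPrime.mem_or_mem h').elim (pow_nin hxf _) hgx,
      fracSec hmem (SetLike.mul_mem_graded hfd hg) n
        (by rw [Int.toNat_of_nonneg hpos]; push_cast; linear_combination hk) (fun y ↦ y.2),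
      sect_ext fun y hy => ?_⟩
    obtain ⟨_, e⟩ := hval y (hsub y hy)
    refine (hid y _).trans (Eq.trans ?_ e.symm)
    refine mk_eq_mk_iff.mpr ⟨1, GrMod.one_nin y, ?_⟩
    rw [one_smul, sub_eq_zero, smul_eq_mul, smul_eq_mul]
    ring
  have : IsIso φ := isIso_of_mono_of_epi φ
  exact ⟨asIso φ⟩

/-- The first coordinate as a map of free modules. -/
theorem single_mem_freeFam {N : ℕ} (a : Fin (N + 1) → ℤ) (i : ℕ)
    (m : MvPolynomial (Fin (r + 1)) k) (hm : m ∈ shFam k r (a 0) i) :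
    LinearMap.single (MvPolynomial (Fin (r + 1)) k)
      (fun _ : Fin (N + 1) => MvPolynomial (Fin (r + 1)) k) 0 m ∈ freeFam k r a i :=
  mem_freeFam.2 fun b => by
    rcases eq_or_ne b 0 with rfl | hb
    · rw [LinearMap.single_apply, Pi.single_eq_same]; exact hm
    · rw [LinearMap.single_apply, Pi.single_eq_of_ne hb]; exact zero_mem _

/-- Cohomology of the sheaves of free modules. -/
theorem subsingleton_freeFam (n : ℤ) {q : ℕ} (hq : 0 < q) :
    ∀ {N : ℕ} (a : Fin N → ℤ), (∀ b, q = r → -((r : ℤ) + 1) < n - a b) →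
      Subsingleton (Coh.HH (CohB1.ProjSpace r k)
        (GrTilde.tilde (CohB1.polyGrading r k) (freeFam k r a) n) q)
  | 0, a, _ => by
    refine GrModLib.NegTwist.hh_of_isZero (A := k) (n := r) ?_ q
    refine (IsZero.iff_id_eq_zero (C := (CohB1.ProjSpace r k).Modules) _).2 ?_
    refine Scheme.Modules.hom_ext _ 0 fun U => ?_
    ext s
    refine sect_ext (𝒜 := CohB1.polyGrading r k) (ℳ := freeFam k r a) (n := n) fun x hx => ?_
    change valAt (show GrMod.sect (CohB1.polyGrading r k) (freeFam k r a) n (op U) from s) x hx = 0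
    generalize valAt (show GrMod.sect (CohB1.polyGrading r k) (freeFam k r a) n (op U) from s) x hx = z
    induction z using LocalizedModule.induction_on with
    | _ m t =>
      rw [show m = 0 from Subsingleton.elim _ _, LocalizedModule.zero_mk]
  | N + 1, a, h => by
    let u := LinearMap.single (MvPolynomial (Fin (r + 1)) k)
      (fun _ : Fin (N + 1) => MvPolynomial (Fin (r + 1)) k) 0
    let v : (Fin (N + 1) → MvPolynomial (Fin (r + 1)) k) →ₗ[MvPolynomial (Fin (r + 1)) k]
        (Fin N → MvPolynomial (Fin (r + 1)) k) := LinearMap.funLeft _ _ Fin.succ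
    have hu : ∀ i m, m ∈ shFam k r (a 0) i → u m ∈ freeFam k r a i := single_mem_freeFam a
    have hv : ∀ i m, m ∈ freeFam k r a i → v m ∈ freeFam k r (fun b => a b.succ) i :=
      fun i m hm => mem_freeFam.2 fun b => mem_freeFam.1 hm b.succ
    have h0 : ∀ m, v (u m) = 0 := fun m => funext fun b => by
      simp [u, v, LinearMap.funLeft_apply]
    have hS : (ShortComplex.mk (tmap u hu n) (tmap v hv n) (tmap_comp_zero u hu v hv n h0)).ShortExact :=
      ShortComplex.ShortExact.mk'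
        (exact_tmap u hu v hv n (homAnn_free _) h0 fun i q hq hvq =>
          ⟨q 0, mem_freeFam.1 hq 0, funext fun b => by
            rcases Fin.eq_zero_or_eq_succ b with rfl | ⟨c, rfl⟩
            · simp [u]
            · simpa [u, v, LinearMap.funLeft_apply] using (congrFun hvq c).symm⟩)
        (mono_tmap u hu n (homAnn_free _) fun i m _ hm => by simpa [u] using congrFun hm 0)
        (epi_tmap v hv n fun i q hq =>
          ⟨Fin.cons 0 q, mem_freeFam.2 fun b => by
            rcases Fin.eq_zero_or_eq_succ b with rfl | ⟨c, rfl⟩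
            · rw [Fin.cons_zero]; exact zero_mem _
            · rw [Fin.cons_succ]; exact mem_freeFam.1 hq c,
           funext fun c => by simp [v, LinearMap.funLeft_apply]⟩)
    obtain ⟨e⟩ := nonempty_shFam_iso (k := k) (r := r) (a 0) n
    have h1 : Subsingleton (Coh.HH (CohB1.ProjSpace r k)
        (GrTilde.tilde (CohB1.polyGrading r k) (shFam k r (a 0)) n) q) :=
      @Equiv.subsingleton _ _ (CohLin.hIso e q).toEquiv
        (twist_cohom (k := k) (r := r) (n - a 0) hq (h 0))
    have h3 : Subsingleton (Coh.HH (CohB1.ProjSpace r k)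
        (GrTilde.tilde (CohB1.polyGrading r k) (freeFam k r (fun b => a b.succ)) n) q) :=
      subsingleton_freeFam n hq _ fun b => h b.succ
    exact @CohLin.subsingleton_X₂ _ _ hS _ h1 h3

/-- `M~ ⊗ O(t) ≅ M(t)~`. -/
theorem nonempty_tensor_iso {M : Type u} [AddCommGroup M] [Module k M]
    [Module (MvPolynomial (Fin (r + 1)) k) M] (ℳ : ℕ → Submodule k M)
    [SetLike.GradedSMul (CohB1.polyGrading r k) ℳ] (t : ℤ) :
    Nonempty (CohB1.tensorMod (GrTilde.tilde (CohB1.polyGrading r k) ℳ 0)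
      (Twist.twistProjSpace r k t) ≅ GrTilde.tilde (CohB1.polyGrading r k) ℳ t) := by
  have hc : ProjTilde.CoveredBy (CohB1.polyGrading r k) 1 ⊤ := fun x _ => by
    have hx : x ∈ (⊤ : Opens (CohB1.ProjSpace r k).toPresheafedSpace.carrier) := trivial
    rw [← ProjTwist.Pn.iSup_cov (n := r) (R := k)] at hx
    obtain ⟨i, hi⟩ := Opens.mem_iSup.mp hx
    exact ⟨1, 0, _, 1, MvPolynomial.isHomogeneous_X k i.down, SetLike.GradedOne.one_mem, rfl,
      by rw [mul_one]; exact hi⟩
  have h : t * ((1 : ℕ) : ℤ) + 0 = t := by push_cast; ring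
  have hiso := ProjTilde.isIso_actHom (ℳ := ℳ) (𝒜 := CohB1.polyGrading r k) hc h
  exact ⟨eqToIso (by rw [Nat.cast_one, mul_one]; rfl) ≪≫ @asIso _ _ _ _ _ hiso⟩

end Groth.Agent.GrSyzTilde
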