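import Groth.Agent.GrSyz.TildeRes
import Groth.Agent.ProjTwist.Pn.Multiplication
import Groth.Agent.ProjConst.Forms
import Groth.Agent.ProjTilde.QC
import Groth.Agent.GrModLib.Cohom
import Groth.Agent.GrModLib.EventExact

/-!
# Global sections of `M(e)~` and regularity

For a graded module with a minimal free resolution, regularity of the sheaf together with
bijectivity of `M_e → Γ(M(e)~)` bounds the generators; the same data then holds for the first
syzygy module one degree higher.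
-/

set_option autoImplicit false
set_option maxHeartbeats 1000000
set_option synthInstance.maxHeartbeats 80000

universe u

open CategoryTheory CategoryTheory.Limits AlgebraicGeometry TopologicalSpace Opposite

noncomputable section

namespace Groth.Agent.GrSyzTilde

open Groth.Agent.GrModLib

variable {k : Type u} [Field k] {r : ℕ}

theorem isQCoh_of_iso {X : Scheme.{u}} (M M' : X.Modules) (e : M ≅ M') (h : Coh.IsQCoh M) :
    Coh.IsQCoh M' :=
  (SheafOfModules.isQuasicoherent X.ringCatSheaf).prop_of_iso e h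

theorem exists_sec_preimage {X : Scheme.{u}} {S : ShortComplex X.Modules} (hS : S.ShortExact)
    (h : Subsingleton (Coh.HH X S.X₁ 1)) (y : Γ(S.X₃, ⊤)) : ∃ s, S.g.app ⊤ s = y :=
  have := h
  GrModLib.topMap_g_surjective hS y

theorem mk_one_eq_zero_iff {M : Type u} [AddCommGroup M] [Module (MvPolynomial (Fin (r + 1)) k) M]
    {x : ProjectiveSpectrum (CohB1.polyGrading r k)} {m : M} :
    mk x m 1 (GrMod.one_nin x) = 0 ↔ ∃ c ∉ x.asHomogeneousIdeal, c • m = 0 :=
  mk_eq_zero_iff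

section Defs

variable (r)
variable {Y : Type u} [AddCommGroup Y] [Module k Y] [Module (MvPolynomial (Fin (r + 1)) k) Y]
  (𝒴 : ℕ → Submodule k Y) [SetLike.GradedSMul (CohB1.polyGrading r k) 𝒴]

/-- Every global section of `Y(e)~` is some `y / 1`. -/
def GSurj (e : ℕ) : Prop :=
  ∀ s : GrMod.sect (CohB1.polyGrading r k) 𝒴 (e : ℤ) (op ⊤),
    ∃ y ∈ 𝒴 e, ∀ (x : ProjectiveSpectrum (CohB1.polyGrading r k)) (hx : x ∈ (⊤ : Opens _)),
      valAt s x hx = mk x y 1 (GrMod.one_nin x)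

/-- Above degree `D` only `0` has vanishing sections. -/
def TorsFree (D : ℕ) : Prop :=
  ∀ e, D < e → ∀ y ∈ 𝒴 e,
    (∀ x : ProjectiveSpectrum (CohB1.polyGrading r k),
      ∃ c ∉ x.asHomogeneousIdeal, c • y = 0) → y = 0

/-- `H^i(Y(D - i)~) = 0` for `1 ≤ i ≤ r`. -/
def Reg (D : ℤ) : Prop :=
  ∀ i : ℕ, 1 ≤ i → i ≤ r →
    Subsingleton (Coh.HH (CohB1.ProjSpace r k)
      (GrTilde.tilde (CohB1.polyGrading r k) 𝒴 (D - i)) i)

theorem reg_iff (D : ℤ) :
    Reg r 𝒴 D ↔ Curv2.IsMRegular k r (GrTilde.tilde (CohB1.polyGrading r k) 𝒴 0) D := by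
  refine forall_congr' fun i => imp_congr_right fun _ => imp_congr_right fun _ => ?_
  obtain ⟨e⟩ := nonempty_tensor_iso (k := k) (r := r) 𝒴 (D - i)
  exact (CohLin.hIso e i).toEquiv.subsingleton_congr.symm

end Defs

variable {Y : Type u} [AddCommGroup Y] [Module k Y] [Module (MvPolynomial (Fin (r + 1)) k) Y]
  {𝒴 : ℕ → Submodule k Y} [SetLike.GradedSMul (CohB1.polyGrading r k) 𝒴]

/-! ## Quasi-coherence and sections of free modules -/

theorem isQuasicoherent_shFam (a n : ℤ) :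
    Coh.IsQCoh (X := CohB1.ProjSpace r k)
      (GrTilde.tilde (CohB1.polyGrading r k) (shFam k r a) n) := by
  obtain ⟨e⟩ := nonempty_shFam_iso (k := k) (r := r) a n
  exact isQCoh_of_iso _ _ e.symm (ProjTilde.isQuasicoherent_twist (n - a))

theorem isQuasicoherent_freeFam (n : ℤ) :
    ∀ {N : ℕ} (a : Fin N → ℤ), Coh.IsQCoh (X := CohB1.ProjSpace r k)
      (GrTilde.tilde (CohB1.polyGrading r k) (freeFam k r a) n)
  | 0, a => by
    have hz := isZero_tilde_of_subsingleton (k := k) (r := r) (freeFam k r a) n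
    have hz' := isZero_tilde_of_subsingleton (k := k) (r := r) (freeFam k r a) 0
    have hq : Coh.IsQCoh (X := CohB1.ProjSpace r k) (cokernel (𝟙 (Twist.twistProjSpace r k 0))) :=
      haveI : Coh.IsQCoh (Twist.twistProjSpace r k 0) := ProjTilde.isQuasicoherent_twist 0
      QCoh.isQuasicoherent_cokernel _
    exact isQCoh_of_iso _ _ ((isZero_cokernel_of_epi _).iso hz) hq
  | N + 1, a => by
    let u := LinearMap.single (MvPolynomial (Fin (r + 1)) k)
      (fun _ : Fin (N + 1) => MvPolynomial (Fin (r + 1)) k) 0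
    let v : (Fin (N + 1) → MvPolynomial (Fin (r + 1)) k) →ₗ[MvPolynomial (Fin (r + 1)) k]
        (Fin N → MvPolynomial (Fin (r + 1)) k) := LinearMap.funLeft _ _ Fin.succ
    have hu : ∀ i m, m ∈ shFam k r (a 0) i → u m ∈ freeFam k r a i := single_mem_freeFam a
    have hv : ∀ i m, m ∈ freeFam k r a i → v m ∈ freeFam k r (fun b => a b.succ) i :=
      fun i m hm => mem_freeFam.2 fun b => mem_freeFam.1 hm b.succ
    have h0 : ∀ m, v (u m) = 0 := fun m => funext fun b => by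
      simp [u, v, LinearMap.funLeft_apply]
    have hS : (ShortComplex.mk (tmap u hu n) (tmap v hv n) (tmap_comp_zero u hu v hv n h0)).ShortExact :=
      ShortComplex.ShortExact.mk'
        (exact_tmap u hu v hv n (homAnn_free _) h0 fun i q hq hvq =>
          ⟨q 0, mem_freeFam.1 hq 0, funext fun b => by
            rcases Fin.eq_zero_or_eq_succ b with rfl | ⟨c, rfl⟩
            · simp [u]
            · simpa [u, v, LinearMap.funLeft_apply] using (congrFun hvq c).symm⟩)
        (mono_tmap u hu n (homAnn_free _) fun i m _ hm => by simpa [u] using congrFun hm 0)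
        (epi_tmap v hv n fun i q hq =>
          ⟨Fin.cons 0 q, mem_freeFam.2 fun b => by
            rcases Fin.eq_zero_or_eq_succ b with rfl | ⟨c, rfl⟩
            · rw [Fin.cons_zero]; exact zero_mem _
            · rw [Fin.cons_succ]; exact mem_freeFam.1 hq c,
           funext fun c => by simp [v, LinearMap.funLeft_apply]⟩)
    exact @QCoh.isQuasicoherent_X₂ _ _ hS (isQuasicoherent_shFam (a 0) n)
      (isQuasicoherent_freeFam n _)

theorem forall_exists_of_mk_eq_zero {N : ℕ} {x : ProjectiveSpectrum (CohB1.polyGrading r k)}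
    {m : Fin N → MvPolynomial (Fin (r + 1)) k} {c : MvPolynomial (Fin (r + 1)) k}
    (hc : c ∉ x.asHomogeneousIdeal) (hcm : c • m = 0) : m = 0 :=
  funext fun b => (mul_eq_zero.1 (congrFun hcm b)).resolve_left fun h => hc (h ▸ zero_mem _)

theorem gSurj_freeFam {N : ℕ} (a : Fin N → ℤ) (e : ℕ) (h : ∀ b, a b ≤ e) :
    GSurj r (freeFam k r a) e := by
  intro s
  have hb : ∀ b, ∃ p ∈ shFam k r (a b) e,
      ∀ (x : ProjectiveSpectrum (CohB1.polyGrading r k)) (hx : x ∈ (⊤ : Opens _)),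
        GrMod.locMap (LinearMap.proj b : (Fin N → MvPolynomial (Fin (r + 1)) k)
          →ₗ[MvPolynomial (Fin (r + 1)) k] _) x (valAt s x hx) = mk x p 1 (GrMod.one_nin x) := by
    intro b
    obtain ⟨t, ht⟩ := Int.eq_ofNat_of_zero_le (sub_nonneg.2 (h b))
    have hproj : ∀ (i : ℕ) (m : Fin N → MvPolynomial (Fin (r + 1)) k), m ∈ freeFam k r a i →
        (LinearMap.proj b : (Fin N → MvPolynomial (Fin (r + 1)) k)
            →ₗ[MvPolynomial (Fin (r + 1)) k] _) m = 0 ∨
          ∃ i' : ℕ, (i' : ℤ) - (t : ℤ) = i - (e : ℤ) ∧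
            (LinearMap.proj b : (Fin N → MvPolynomial (Fin (r + 1)) k)
              →ₗ[MvPolynomial (Fin (r + 1)) k] _) m ∈ CohB1.polyGrading r k i' := fun i m hm => by
      rcases lt_or_ge ((i : ℤ) - a b) 0 with h' | h'
      · exact Or.inl (GrSyz.stdGr_eq_zero_of_neg _ h' _ (mem_freeFam.1 hm b))
      · refine Or.inr ⟨((i : ℤ) - a b).toNat, by omega, mem_polyGrading_iff.2 ?_⟩
        rw [Int.toNat_of_nonneg h']
        exact mem_freeFam.1 hm b
    obtain ⟨P, hP⟩ := ProjConst.globalOf_surjective r k t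
      (shiftApp (ℳ := freeFam k r a) (𝒩 := CohB1.polyGrading r k)
        (LinearMap.proj b : (Fin N → MvPolynomial (Fin (r + 1)) k)
          →ₗ[MvPolynomial (Fin (r + 1)) k] _) (e : ℤ) (t : ℤ) hproj (op ⊤) s)
    refine ⟨P.1, ?_, fun x hx => ?_⟩
    · show P.1 ∈ _root_.GrSyz.stdGr k (Fin (r + 1)) ((e : ℤ) - a b)
      rw [ht]
      exact mem_polyGrading_iff.1 P.2
    · exact (congrArg (fun σ : GrMod.sect (CohB1.polyGrading r k) (CohB1.polyGrading r k) (t : ℤ)
        (op ⊤) => valAt σ x hx) hP).symm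
  choose p hp hval using hb
  refine ⟨p, mem_freeFam.2 hp, fun x hx => ?_⟩
  have hx' := fun b => hval b x hx
  generalize valAt s x hx = z at hx' ⊢
  induction z using LocalizedModule.induction_on with
  | _ m t =>
    refine mk_eq_mk_iff.mpr ⟨1, GrMod.one_nin x, ?_⟩
    rw [one_smul, one_smul, sub_eq_zero]
    funext b
    obtain ⟨c, hc, hcm⟩ := mk_eq_mk_iff.mp ((GrMod.locMap_mk _ x m t).symm.trans (hx' b))
    rw [one_smul] at hcm
    exact sub_eq_zero.1 ((mul_eq_zero.1 hcm).resolve_left fun h => hc (h ▸ zero_mem _))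

/-- A preimage of a section gives an element. -/
theorem GSurj.of_tmap {N : ℕ} {a : Fin N → ℤ}
    (u : (Fin N → MvPolynomial (Fin (r + 1)) k) →ₗ[MvPolynomial (Fin (r + 1)) k] Y)
    (hu : ∀ i m, m ∈ freeFam k r a i → u m ∈ 𝒴 i) {e : ℕ} (hG : GSurj r (freeFam k r a) e)
    (h : ∀ y : GrMod.sect (CohB1.polyGrading r k) 𝒴 (e : ℤ) (op ⊤),
      ∃ s : GrMod.sect (CohB1.polyGrading r k) (freeFam k r a) (e : ℤ) (op ⊤),
        ∀ (x : ProjectiveSpectrum (CohB1.polyGrading r k)) (hx : x ∈ (⊤ : Opens _)),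
          GrMod.locMap (𝒜 := CohB1.polyGrading r k) u x (valAt s x hx) = valAt y x hx) :
    GSurj r 𝒴 e := by
  intro y
  obtain ⟨s, hs⟩ := h y
  obtain ⟨p, hp, hval⟩ := hG s
  refine ⟨u p, hu e p hp, fun x hx => ?_⟩
  rw [← hs x hx, hval x hx]
  exact GrMod.locMap_mk u x p _

/-! ## Multiplication by the coordinates -/

theorem coveredBy_poly : ProjTilde.CoveredBy (CohB1.polyGrading r k) 1 ⊤ := fun x _ => by
  have hx : x ∈ (⊤ : Opens (CohB1.ProjSpace r k).toPresheafedSpace.carrier) := trivial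
  rw [← ProjTwist.Pn.iSup_cov (n := r) (R := k)] at hx
  obtain ⟨i, hi⟩ := Opens.mem_iSup.mp hx
  exact ⟨1, 0, _, 1, MvPolynomial.isHomogeneous_X k i.down, SetLike.GradedOne.one_mem, rfl,
    by rw [mul_one]; exact hi⟩

theorem isIso_act {e m l : ℤ} (h : e + m = l) :
    IsIso (ProjTilde.actHom (ℳ := 𝒴) (𝒜 := CohB1.polyGrading r k) h) := by
  have aux : ∀ (e' : ℤ) (h' : e' + m = l), e' = e * ((1 : ℕ) : ℤ) →
      IsIso (ProjTilde.actHom (ℳ := 𝒴) (𝒜 := CohB1.polyGrading r k) h') := by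
    rintro e' h' rfl
    exact ProjTilde.isIso_actHom coveredBy_poly h'
  exact aux e h (by rw [Nat.cast_one, mul_one])

/-- Sections of `Y(e+1)~` are combinations of coordinates and sections of `Y(e)~`. -/
theorem exists_sum_X {D : ℤ} (hqc : Coh.IsQCoh (X := CohB1.ProjSpace r k)
      (GrTilde.tilde (CohB1.polyGrading r k) 𝒴 0))
    (hreg : Reg r 𝒴 D) {e : ℕ} (he : D ≤ e) (hsurj : GSurj r 𝒴 e)
    (s : GrMod.sect (CohB1.polyGrading r k) 𝒴 ((e + 1 : ℕ) : ℤ) (op ⊤)) :
    ∃ z : Fin (r + 1) → Y, (∀ l, z l ∈ 𝒴 e) ∧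
      ∀ (x : ProjectiveSpectrum (CohB1.polyGrading r k)) (hx : x ∈ (⊤ : Opens _)),
        valAt s x hx = mk x (∑ l, (MvPolynomial.X l : MvPolynomial (Fin (r + 1)) k) • z l) 1 (GrMod.one_nin x) := by
  obtain ⟨i0⟩ := nonempty_tensor_iso (k := k) (r := r) 𝒴 (e : ℤ)
  have hq : Coh.IsQCoh (X := CohB1.ProjSpace r k)
      (GrTilde.tilde (CohB1.polyGrading r k) 𝒴 (e : ℤ)) :=
    isQCoh_of_iso _ _ i0 (ProjTwist.Pn.isQCoh_tw _ hqc _)
  have h0 : Curv2.IsMRegular k r (GrTilde.tilde (CohB1.polyGrading r k) 𝒴 (e : ℤ)) 0 := by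
    have h1 := ProjTwist.Pn.isMRegular_twF (e : ℤ)
      (ProjTwist.Pn.isMRegular_of_le hqc ((reg_iff r 𝒴 D).1 hreg) he) (zero_add _)
    intro i hi hin
    exact @Equiv.subsingleton _ _ (CohLin.hIso
      (((DCoh.tensorBi (X := CohB1.ProjSpace r k)).flip.obj
        (Twist.twistProjSpace r k (0 - (i : ℤ)))).mapIso i0.symm) i).toEquiv (h1 i hi hin)
  have h : (1 : ℤ) + (e : ℤ) = ((e + 1 : ℕ) : ℤ) := by push_cast; ring
  haveI := isIso_act (𝒴 := 𝒴) (r := r) h
  let φ := ProjTilde.actHom (ℳ := 𝒴) (𝒜 := CohB1.polyGrading r k) h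
  let s' : Γ(ProjTwist.Pn.twF (GrTilde.tilde (CohB1.polyGrading r k) 𝒴 (e : ℤ)) 1, ⊤) :=
    (inv φ).app ⊤ (show Γ(GrTilde.tilde (CohB1.polyGrading r k) 𝒴 ((e + 1 : ℕ) : ℤ), ⊤) from s)
  obtain ⟨a, ha⟩ := ProjTwist.Pn.exists_sections_eq_sum_tmul hq h0 s'
  choose z hz hzval using fun l => hsurj (a l)
  refine ⟨z, hz, fun x hx => ?_⟩
  have hs : s = ∑ l, (show GrMod.sect (CohB1.polyGrading r k) 𝒴 ((e + 1 : ℕ) : ℤ) (op ⊤) from
      ProjTilde.act h (ProjTwist.Pn.xSec l) (a l)) := by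
    have h1 : φ.app ⊤ s' = s := by
      show φ.app ⊤ ((inv φ).app ⊤ _) = _
      rw [← ConcreteCategory.comp_apply, ← Scheme.Modules.Hom.comp_app, IsIso.inv_hom_id]
      rfl
    rw [← h1, ha]
    refine (map_sum (φ.app ⊤).hom _ _).trans (Finset.sum_congr rfl fun l _ => ?_)
    exact ProjTilde.actHom_tmul h _ _
  rw [hs]
  let ev : GrMod.sect (CohB1.polyGrading r k) 𝒴 ((e + 1 : ℕ) : ℤ) (op ⊤) →+
      GrMod.LocMod (CohB1.polyGrading r k) (M := Y) x :=
    AddMonoidHom.mk' (fun t => valAt t x hx) fun _ _ => rfl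
  refine (map_sum ev _ _).trans ?_
  refine Eq.trans ?_ (map_sum (mkHom (M := Y) x 1 (GrMod.one_nin x)) _ _).symm
  refine Finset.sum_congr rfl fun l _ => ?_
  show ProjTilde.tval (ProjTwist.Pn.xSec l) x hx • valAt (show GrMod.sect (CohB1.polyGrading r k) 𝒴
    (e : ℤ) (op ⊤) from a l) x hx = _
  rw [hzval l x hx]
  refine (LocalizedModule.mk_smul_mk _ _ _ _).trans (mk_eq_mk_iff.mpr ⟨1, GrMod.one_nin x, ?_⟩)
  simp

/-! ## The step -/

/-- The pieces of non-negative degree of a submodule of a free module. -/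
def subFam {N : ℕ} (a : Fin N → ℤ)
    (P : Submodule (MvPolynomial (Fin (r + 1)) k) (Fin N → MvPolynomial (Fin (r + 1)) k)) (e : ℕ) :
    Submodule k P :=
  (freeFam k r a e).comap (P.subtype.restrictScalars k)

instance gradedSMul_subFam {N : ℕ} (a : Fin N → ℤ)
    (P : Submodule (MvPolynomial (Fin (r + 1)) k) (Fin N → MvPolynomial (Fin (r + 1)) k)) :
    SetLike.GradedSMul (CohB1.polyGrading r k) (subFam a P) where
  smul_mem {_ _ _ p} hc hp :=
    (SetLike.GradedSMul.smul_mem (A := CohB1.polyGrading r k) hc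
      (show (p : Fin N → MvPolynomial (Fin (r + 1)) k) ∈ freeFam k r a _ from hp) :)

theorem homAnn_sub {N : ℕ} (a : Fin N → ℤ)
    (P : Submodule (MvPolynomial (Fin (r + 1)) k) (Fin N → MvPolynomial (Fin (r + 1)) k)) :
    HomAnn r (subFam a P) := by
  intro x i q _ c hc hcq
  obtain rfl : q = 0 :=
    Subtype.ext (forall_exists_of_mk_eq_zero hc (congrArg Subtype.val hcq))
  exact ⟨0, 1, SetLike.GradedOne.one_mem, GrMod.one_nin x, smul_zero _⟩

theorem torsFree_sub {N : ℕ} (a : Fin N → ℤ)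
    (P : Submodule (MvPolynomial (Fin (r + 1)) k) (Fin N → MvPolynomial (Fin (r + 1)) k))
    (x : ProjectiveSpectrum (CohB1.polyGrading r k)) (D : ℕ) : TorsFree r (subFam a P) D := by
  intro e _ y _ h
  obtain ⟨c, hc, hcy⟩ := h x
  exact Subtype.ext (forall_exists_of_mk_eq_zero hc (congrArg Subtype.val hcy))

variable (k r) in
theorem exists_point : Nonempty (ProjectiveSpectrum (CohB1.polyGrading r k)) := by
  refine ⟨⟨⊥, ?_, fun h => MvPolynomial.X_ne_zero (R := k) (0 : Fin (r + 1)) ?_⟩⟩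
  · rw [HomogeneousIdeal.toIdeal_bot]; exact Ideal.isPrime_bot
  · have := h (HomogeneousIdeal.mem_irrelevant_of_mem (CohB1.polyGrading r k) one_pos
      (MvPolynomial.isHomogeneous_X k (0 : Fin (r + 1))))
    rwa [← HomogeneousIdeal.mem_iff, HomogeneousIdeal.toIdeal_bot, Ideal.mem_bot] at this

theorem irrel_le_ker :
    (_root_.GrSyz.irrel (_root_.GrSyz.stdGr k (Fin (r + 1)))).toIdeal ≤
      RingHom.ker (MvPolynomial.constantCoeff (R := k) (σ := Fin (r + 1))) := by
  refine Ideal.span_le.2 fun p ⟨n, hn, hp⟩ => ?_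
  rw [SetLike.mem_coe, RingHom.mem_ker, MvPolynomial.constantCoeff_eq]
  by_contra hc
  have := GrSyz.stdGr_degree_eq hp hc
  simp only [map_zero, Nat.cast_zero] at this
  omega

theorem X_mem_irrel (l : Fin (r + 1)) :
    (MvPolynomial.X l : MvPolynomial (Fin (r + 1)) k) ∈
      (_root_.GrSyz.irrel (_root_.GrSyz.stdGr k (Fin (r + 1)))).toIdeal :=
  Ideal.subset_span ⟨1, one_pos,
    by exact_mod_cast mem_polyGrading_iff.1 (MvPolynomial.isHomogeneous_X k l)⟩

section Step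

variable {N N' : ℕ} {a : Fin N → ℤ} {a' : Fin N' → ℤ}
  {w : (Fin N' → MvPolynomial (Fin (r + 1)) k) →ₗ[MvPolynomial (Fin (r + 1)) k]
    (Fin N → MvPolynomial (Fin (r + 1)) k)}
  {u : (Fin N → MvPolynomial (Fin (r + 1)) k) →ₗ[MvPolynomial (Fin (r + 1)) k] Y}
  (hw : ∀ i m, m ∈ freeFam k r a' i → w m ∈ freeFam k r a i)
  (hu : ∀ i m, m ∈ freeFam k r a i → u m ∈ 𝒴 i)
  (hY : HomAnn r 𝒴) (huw : ∀ m, u (w m) = 0)
  (hex : ∀ i, ∀ q ∈ freeFam k r a i, u q = 0 → ∃ m ∈ freeFam k r a' i, w m = q)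
  (hsurj : ∀ i, ∀ y ∈ 𝒴 i, ∃ q ∈ freeFam k r a i, u q = y)
  (hmin : ∀ v b, w v b ∈ (_root_.GrSyz.irrel (_root_.GrSyz.stdGr k (Fin (r + 1)))).toIdeal)

include hw hu hY huw hex hsurj hmin in
/-- Regularity of the sheaf and bijectivity on sections bound the generators, and pass to the
syzygies one degree higher. -/
theorem step {D : ℕ} (hreg : Reg r 𝒴 (D : ℤ)) (hfree : TorsFree r 𝒴 D) (hG : GSurj r 𝒴 D) :
    (∀ b, a b ≤ (D : ℤ)) ∧ Reg r (subFam a (LinearMap.range w)) ((D : ℤ) + 1) ∧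
      GSurj r (subFam a (LinearMap.range w)) (D + 1) := by
  have hqc : Coh.IsQCoh (X := CohB1.ProjSpace r k)
      (GrTilde.tilde (CohB1.polyGrading r k) 𝒴 0) := by
    have hex' := exact_tmap w hw u hu 0 hY huw hex
    have : Epi (ShortComplex.mk (tmap w hw 0) (tmap u hu 0)
      (tmap_comp_zero w hw u hu 0 huw)).g := epi_tmap u hu 0 hsurj
    exact isQCoh_of_iso _ _
      ((cokernelIsCokernel (C := (CohB1.ProjSpace r k).Modules)
        (tmap w hw 0)).coconePointUniqueUpToIso hex'.gIsCokernel)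
      (@QCoh.isQuasicoherent_cokernel (CohB1.ProjSpace r k) _ _ (tmap w hw 0)
        (isQuasicoherent_freeFam 0 a') (isQuasicoherent_freeFam 0 a))
  have hall : ∀ t, GSurj r 𝒴 (D + t) := by
    intro t
    induction t with
    | zero => exact hG
    | succ t ih =>
      intro s
      obtain ⟨z, hz, hval⟩ := exists_sum_X hqc hreg (e := D + t) (by push_cast; omega) ih s
      refine ⟨_, sum_mem fun l _ => ?_, hval⟩
      have := SetLike.GradedSMul.smul_mem (A := CohB1.polyGrading r k) (B := 𝒴)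
        (MvPolynomial.isHomogeneous_X k l) (hz l)
      rwa [vadd_eq_add, Nat.add_comm 1 _] at this
  have hgen : ∀ b, a b ≤ (D : ℤ) := by
    intro b
    by_contra! hb
    obtain ⟨t, ht⟩ : ∃ t : ℕ, a b = ((D + t + 1 : ℕ) : ℤ) :=
      ⟨(a b - D - 1).toNat, by omega⟩
    have hE : Pi.single b (1 : MvPolynomial (Fin (r + 1)) k) ∈ freeFam k r a (D + t + 1) :=
      mem_freeFam.2 fun c => by
        rcases eq_or_ne c b with rfl | hc
        · rw [Pi.single_eq_same, ht, sub_self]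
          exact SetLike.GradedOne.one_mem
        · rw [Pi.single_eq_of_ne hc]; exact zero_mem _
    have hy := hu _ _ hE
    obtain ⟨z, hz, hval⟩ := exists_sum_X hqc hreg (e := D + t) (by push_cast; omega) (hall t)
      (fracSec hy (SetLike.GradedOne.one_mem (A := CohB1.polyGrading r k)) ((D + t + 1 : ℕ) : ℤ)
        (by simp) fun x => GrMod.one_nin x.1)
    have hzsum : ∑ l, (MvPolynomial.X l : MvPolynomial (Fin (r + 1)) k) • z l ∈ 𝒴 (D + t + 1) := sum_mem fun l _ => by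
      have := SetLike.GradedSMul.smul_mem (A := CohB1.polyGrading r k) (B := 𝒴)
        (MvPolynomial.isHomogeneous_X k l) (hz l)
      rwa [vadd_eq_add, Nat.add_comm 1 _] at this
    have heq : u (Pi.single b 1) = ∑ l, (MvPolynomial.X l : MvPolynomial (Fin (r + 1)) k) • z l := by
      refine sub_eq_zero.1 (hfree _ (by omega) _ (sub_mem hy hzsum) fun x => ?_)
      obtain ⟨c, hc, hcm⟩ := mk_eq_mk_iff.mp (hval x trivial)
      rw [one_smul, one_smul] at hcm
      exact ⟨c, hc, hcm⟩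
    choose q hq hqz using fun l => hsurj _ (z l) (hz l)
    have hmem : Pi.single b (1 : MvPolynomial (Fin (r + 1)) k) -
        ∑ l, (MvPolynomial.X l : MvPolynomial (Fin (r + 1)) k) • q l ∈ freeFam k r a (D + t + 1) := by
      refine sub_mem hE (sum_mem fun l _ => ?_)
      have := SetLike.GradedSMul.smul_mem (A := CohB1.polyGrading r k) (B := freeFam k r a)
        (MvPolynomial.isHomogeneous_X k l) (hq l)
      rwa [vadd_eq_add, Nat.add_comm 1 _] at this
    obtain ⟨m, -, hm⟩ := hex _ _ hmem (by simp [map_sum, hqz, heq])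
    have hone : (1 : MvPolynomial (Fin (r + 1)) k) ∈
        (_root_.GrSyz.irrel (_root_.GrSyz.stdGr k (Fin (r + 1)))).toIdeal := by
      have he := congrFun hm b
      simp only [Pi.sub_apply, Pi.single_eq_same, Finset.sum_apply, Pi.smul_apply, smul_eq_mul] at he
      rw [show (1 : MvPolynomial (Fin (r + 1)) k) =
        w m b + ∑ l, (MvPolynomial.X l : MvPolynomial (Fin (r + 1)) k) * q l b by rw [he, sub_add_cancel]]
      exact add_mem (hmin m b) (sum_mem fun l _ => Ideal.mul_mem_right _ _ (X_mem_irrel l))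
    simpa using irrel_le_ker hone
  let P := LinearMap.range w
  have hi : ∀ i m, m ∈ subFam a P i → P.subtype m ∈ freeFam k r a i := fun i m hm => hm
  have h0 : ∀ m, u (P.subtype m) = 0 := by
    rintro ⟨_, m, rfl⟩
    exact huw m
  have hexP : ∀ i, ∀ q ∈ freeFam k r a i, u q = 0 → ∃ p ∈ subFam a P i, P.subtype p = q :=
    fun i q hq hq0 => by
      obtain ⟨m, -, hm⟩ := hex i q hq hq0
      exact ⟨⟨q, m, hm⟩, hq, rfl⟩
  have hS : ∀ n : ℤ, (ShortComplex.mk (tmap P.subtype hi n) (tmap u hu n)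
      (tmap_comp_zero _ hi u hu n h0)).ShortExact := fun n =>
    ShortComplex.ShortExact.mk' (exact_tmap _ hi u hu n hY h0 hexP)
      (mono_tmap _ hi n (homAnn_free a) fun i m _ hm => Subtype.ext hm) (epi_tmap u hu n hsurj)
  refine ⟨hgen, fun i hi1 hir => ?_, fun s => ?_⟩
  · obtain ⟨j, rfl⟩ := Nat.exists_eq_succ_of_ne_zero (by omega : i ≠ 0)
    have h2 : Subsingleton (Coh.HH (CohB1.ProjSpace r k)
        (GrTilde.tilde (CohB1.polyGrading r k) (freeFam k r a) ((D : ℤ) + 1 - (j + 1 : ℕ))) (j + 1)) :=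
      subsingleton_freeFam _ (Nat.succ_pos j) _ fun b hb => by
        have := hgen b
        omega
    rcases Nat.eq_zero_or_pos j with rfl | hj
    · rw [show ((D : ℤ) + 1 - ((0 + 1 : ℕ) : ℤ)) = (D : ℤ) by simp] at h2 ⊢
      refine subsingleton_of_forall_eq 0 fun x => ?_
      obtain ⟨y, hy⟩ := CohLin.exists_hδ_eq (hS (D : ℤ)) x (@Subsingleton.elim _ h2 _ _)
      obtain ⟨p, hp, hval⟩ := hG (ProperFin.h0Sec _ y)
      obtain ⟨q, hq, rfl⟩ := hsurj D p hp
      let σ : GrMod.sect (CohB1.polyGrading r k) (freeFam k r a) (D : ℤ) (op ⊤) :=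
        fracSec hq (SetLike.GradedOne.one_mem (A := CohB1.polyGrading r k)) (D : ℤ) (by simp)
          fun x => GrMod.one_nin x.1
      have hg : CohLin.hMap (tmap u hu (D : ℤ)) 0
          ((ProperFin.h0Sec (X := CohB1.ProjSpace r k) _).symm σ) = y := by
        refine (ProperFin.h0Sec _).injective ((ProperFin.h0Sec_hMap _ _).trans ?_)
        refine (congrArg _ (AddEquiv.apply_symm_apply _ _)).trans ?_
        exact sect_ext fun z hz => (GrMod.locMap_mk u z q _).trans (hval z hz).symm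
      rw [← hy, ← hg]
      exact CohLin.hδ_hMap_g (hS (D : ℤ)) _
    · have h3 : Subsingleton (Coh.HH (CohB1.ProjSpace r k)
          (GrTilde.tilde (CohB1.polyGrading r k) 𝒴 ((D : ℤ) + 1 - (j + 1 : ℕ))) j) := by
        rw [show (D : ℤ) + 1 - ((j + 1 : ℕ) : ℤ) = (D : ℤ) - (j : ℤ) by push_cast; ring]
        exact hreg j hj (by omega)
      exact @CohLin.subsingleton_X₁ _ _ (hS _) _ h2 h3
  · obtain ⟨q, hq, hval⟩ := gSurj_freeFam a (D + 1)
      (fun b => by have := hgen b; push_cast; omega)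
      (GrMod.mapApp P.subtype hi ((D + 1 : ℕ) : ℤ) (op ⊤) s)
    have hu0 : u q = 0 := hfree _ (by omega) _ (hu _ _ hq) fun x => by
      refine mk_one_eq_zero_iff.1 ?_
      refine ((GrMod.locMap_mk u x q _).symm.trans
        (congrArg (GrMod.locMap u x) (hval x trivial).symm)).trans ?_
      show GrMod.locMap u x (GrMod.locMap P.subtype x (valAt s x trivial)) = 0
      generalize valAt s x trivial = z
      induction z using LocalizedModule.induction_on with
      | _ m t => rw [GrMod.locMap_mk, GrMod.locMap_mk, h0, LocalizedModule.zero_mk]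
    obtain ⟨p, hp, rfl⟩ := hexP _ q hq hu0
    refine ⟨p, hp, fun x hx => ?_⟩
    have hz : GrMod.locMap P.subtype x (valAt s x hx) =
        mk x (P.subtype p) 1 (GrMod.one_nin x) := hval x hx
    generalize valAt s x hx = z at hz ⊢
    induction z using LocalizedModule.induction_on with
    | _ m t =>
      obtain ⟨c, hc, hcm⟩ := mk_eq_mk_iff.mp ((GrMod.locMap_mk _ x m t).symm.trans hz)
      exact mk_eq_mk_iff.mpr ⟨c, hc, Subtype.ext hcm⟩

end Step

/-! ## Applying the step along a resolution -/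

variable {M : Type u} [AddCommGroup M] [Module k M] [Module (MvPolynomial (Fin (r + 1)) k) M]
  [IsScalarTower k (MvPolynomial (Fin (r + 1)) k) M]
  {ℳ : ℤ → Submodule k M} [DirectSum.Decomposition ℳ]
  [SetLike.GradedSMul (_root_.GrSyz.stdGr k (Fin (r + 1))) ℳ]
  [SetLike.GradedSMul (CohB1.polyGrading r k) (fun i : ℕ => ℳ (i : ℤ))]
  (F : _root_.GrSyz.FreeRes (_root_.GrSyz.stdGr k (Fin (r + 1))) ℳ)

theorem dLin_mem_irrel (hF : F.IsMinimal (_root_.GrSyz.irrel (_root_.GrSyz.stdGr k (Fin (r + 1)))).toIdeal)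
    (j : ℕ) (v : Fin (F.rk (j + 1)) → MvPolynomial (Fin (r + 1)) k) (b : Fin (F.rk j)) :
    F.dLin j v b ∈ (_root_.GrSyz.irrel (_root_.GrSyz.stdGr k (Fin (r + 1)))).toIdeal := by
  change ∑ c, F.d j b c * v c ∈ _
  exact sum_mem fun c _ => Ideal.mul_mem_right _ _ (hF j b c)

/-- Regularity of the sheaf, absence of torsion above `D` and surjectivity on sections in degree
`D` give regularity at most `D`. -/
theorem isGenLE_of_sheaf
    (hF : F.IsMinimal (_root_.GrSyz.irrel (_root_.GrSyz.stdGr k (Fin (r + 1)))).toIdeal) {D : ℕ}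
    (hreg : Reg r (fun i : ℕ => ℳ (i : ℤ)) (D : ℤ))
    (hfree : TorsFree r (fun i : ℕ => ℳ (i : ℤ)) D)
    (hG : GSurj r (fun i : ℕ => ℳ (i : ℤ)) D) : F.IsGenLE (D : ℤ) := by
  obtain ⟨x⟩ := exists_point k r
  have main : ∀ j, (∀ b, F.deg j b ≤ ((D + j : ℕ) : ℤ)) ∧
      Reg r (subFam (F.deg j) (LinearMap.range (F.dLin j))) (((D + j : ℕ) : ℤ) + 1) ∧
      GSurj r (subFam (F.deg j) (LinearMap.range (F.dLin j))) (D + j + 1) := by
    intro j
    induction j with
    | zero =>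
      exact step (a' := F.deg 1) (a := F.deg 0) (w := F.dLin 0) (u := F.augLin)
        (fun i m hm => dLin_freeFam F 0 i m hm) (fun _ _ hm => GrSyz.augLin_mem F hm)
        (homAnn_int ℳ) (augLin_dLin F)
        (fun i q hq h0 => by
          obtain ⟨w, hw⟩ := (GrSyz.ker_augPiece F (i : ℤ)).le
            (show (⟨q, hq⟩ : GrSyz.freePiece F 0 (i : ℤ)) ∈
              LinearMap.ker (GrSyz.augPiece F (i : ℤ)) from LinearMap.mem_ker.2 (Subtype.ext h0))
          exact ⟨w.1, w.2, congrArg Subtype.val hw⟩)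
        (fun i q hq => by
          obtain ⟨w, hw⟩ := GrSyz.augPiece_surjective F (i : ℤ) ⟨q, hq⟩
          exact ⟨w.1, w.2, congrArg Subtype.val hw⟩)
        (dLin_mem_irrel F hF 0) hreg hfree hG
    | succ j ih =>
      obtain ⟨-, hr, hg⟩ := ih
      refine step (a' := F.deg (j + 1 + 1)) (a := F.deg (j + 1)) (w := F.dLin (j + 1))
        (u := (F.dLin j).rangeRestrict) (fun i m hm => dLin_freeFam F (j + 1) i m hm)
        (fun i m hm => dLin_freeFam F j i m hm) (homAnn_sub _ _)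
        (fun m => Subtype.ext (dLin_dLin F j m))
        (fun i q hq h0 => ?_) (fun i y hy => ?_) (dLin_mem_irrel F hF (j + 1)) ?_
        (torsFree_sub _ _ x _) hg
      · obtain ⟨w, hw⟩ := (GrSyz.ker_dPiece F j (i : ℤ)).le
          (show (⟨q, hq⟩ : GrSyz.freePiece F (j + 1) (i : ℤ)) ∈
            LinearMap.ker (GrSyz.dPiece F j (i : ℤ)) from
            LinearMap.mem_ker.2 (Subtype.ext (congrArg Subtype.val h0 :)))
        exact ⟨w.1, w.2, congrArg Subtype.val hw⟩
      · obtain ⟨w, hw⟩ := GrSyz.mem_range_dPiece F (d := (i : ℤ)) ⟨y.1, hy⟩ y.2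
        exact ⟨w.1, w.2, Subtype.ext (congrArg Subtype.val hw :)⟩
      · rw [show ((D + (j + 1) : ℕ) : ℤ) = ((D + j : ℕ) : ℤ) + 1 by push_cast; ring]
        exact hr
  intro j b
  have := (main j).1 b
  push_cast at this
  exact this

/-- The converse: sections in degree `D` come from `M`. -/
theorem gSurj_of_isGenLE {L : ℕ} (hL : F.HasLengthLE L) {D : ℕ} (hd : F.IsGenLE (D : ℤ)) :
    GSurj r (fun i : ℕ => ℳ (i : ℤ)) D := by
  refine GSurj.of_tmap F.augLin (fun _ _ hm => GrSyz.augLin_mem F hm)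
    (gSurj_freeFam (F.deg 0) D fun b => by simpa using hd 0 b) fun y => ?_
  have h1 : Subsingleton (Coh.HH (CohB1.ProjSpace r k) (qSeq F (D : ℤ) 0).X₁ 1) :=
    subsingleton_Q F (D : ℤ) hL hd L 1 1 (by omega) (by omega) le_rfl (by simp)
  let h := exact_augS F (D : ℤ)
  have : Epi (ShortComplex.mk (dS F (D : ℤ) 0) (augS F (D : ℤ)) (dS_aug F (D : ℤ))).g :=
    epi_augS F (D : ℤ)
  let e := (cokernelIsCokernel (dS F (D : ℤ) 0)).coconePointUniqueUpToIso h.gIsCokernel
  have he : cokernel.π (dS F (D : ℤ) 0) ≫ e.hom = augS F (D : ℤ) :=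
    IsColimit.comp_coconePointUniqueUpToIso_hom (cokernelIsCokernel (dS F (D : ℤ) 0))
      h.gIsCokernel WalkingParallelPair.one
  let y' : Γ(target (ℳ := ℳ) (D : ℤ), ⊤) := y
  obtain ⟨σ, hσ⟩ : ∃ σ, (cokernel.π (dS F (D : ℤ) 0)).app ⊤ σ = e.inv.app ⊤ y' :=
    exists_sec_preimage (shortExact_qSeq F (D : ℤ) 0) h1 (e.inv.app ⊤ y')
  have hy : (augS F (D : ℤ)).app ⊤ σ = y' := by
    rw [← he, Scheme.Modules.Hom.comp_app, ConcreteCategory.comp_apply, hσ,
      ← ConcreteCategory.comp_apply, ← Scheme.Modules.Hom.comp_app, e.inv_hom_id]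
    rfl
  refine ⟨σ, fun x hx => ?_⟩
  exact congrArg (fun w : GrMod.sect (CohB1.polyGrading r k) (fun i : ℕ => ℳ (i : ℤ)) (D : ℤ)
    (op ⊤) => valAt w x hx) hy

/-- An element whose section vanishes everywhere is torsion. -/
theorem mem_gam_of_forall {i : ℕ} {m : M} (hm : m ∈ ℳ (i : ℤ))
    (h : ∀ x : ProjectiveSpectrum (CohB1.polyGrading r k),
      ∃ c ∉ x.asHomogeneousIdeal, c • m = 0) :
    m ∈ _root_.GrLC.gam (_root_.GrSyz.irrel (_root_.GrSyz.stdGr k (Fin (r + 1)))).toIdeal M := by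
  choose c hc hcm using h
  choose e c' hc' hc'x hc'm using fun x =>
    homAnn_int ℳ x i m hm (c x) (hc x) (hcm x)
  have hle : (_root_.GrSyz.irrel (_root_.GrSyz.stdGr k (Fin (r + 1)))).toIdeal ≤
      (annOf (A := MvPolynomial (Fin (r + 1)) k) m).radical := by
    refine Ideal.span_le.2 fun p ⟨n, hn, hp⟩ => ?_
    obtain ⟨t, rfl⟩ := Int.eq_ofNat_of_zero_le hn.le
    obtain ⟨N, hN⟩ := GrModLib.exists_pow_mem_span c' e hc' (mem_polyGrading_iff.2 hp)
      (by exact_mod_cast hn) fun x _ => ⟨x, hc'x x⟩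
    exact ⟨N, Ideal.span_le.2 (by rintro _ ⟨x, rfl⟩; exact hc'm x) hN⟩
  obtain ⟨n, hn⟩ := Ideal.exists_pow_le_of_le_radical_of_fg hle (IsNoetherian.noetherian _)
  exact ⟨n, fun p hp => hn hp⟩

end Groth.Agent.GrSyzTilde
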