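import Groth.Agent.GrSyz.TildeFree
import Groth.Agent.GrSyz.Regularity
import Groth.Prelude.Def_Curv2

/-!
# Vanishing for `M(n)~` from a graded free resolution

The complex of sheaves of a finite free resolution is exact; its cokernels `Q j` give the
dimension shifting `H^q(Q_j) ↪ H^(q+1)(Q_(j+1))`.
-/

set_option autoImplicit false

universe u

open CategoryTheory CategoryTheory.Limits AlgebraicGeometry TopologicalSpace Opposite

noncomputable section

namespace Groth.Agent.GrSyzTilde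

open Groth.Agent.GrModLib

variable {k : Type u} [Field k] {r : ℕ}

theorem isZero_tilde_of_subsingleton {M : Type u} [AddCommGroup M] [Module k M]
    [Module (MvPolynomial (Fin (r + 1)) k) M] [Subsingleton M] (ℳ : ℕ → Submodule k M)
    [SetLike.GradedSMul (CohB1.polyGrading r k) ℳ] (n : ℤ) :
    IsZero (C := (CohB1.ProjSpace r k).Modules) (GrTilde.tilde (CohB1.polyGrading r k) ℳ n) := by
  refine (IsZero.iff_id_eq_zero (C := (CohB1.ProjSpace r k).Modules) _).2 ?_
  refine Scheme.Modules.hom_ext _ 0 fun U => ?_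
  ext s
  refine sect_ext (𝒜 := CohB1.polyGrading r k) (ℳ := ℳ) (n := n) fun x hx => ?_
  change valAt (show GrMod.sect (CohB1.polyGrading r k) ℳ n (op U) from s) x hx = 0
  generalize valAt (show GrMod.sect (CohB1.polyGrading r k) ℳ n (op U) from s) x hx = z
  induction z using LocalizedModule.induction_on with
  | _ m t => rw [show m = 0 from Subsingleton.elim _ _, LocalizedModule.zero_mk]

variable {M : Type u} [AddCommGroup M] [Module k M] [Module (MvPolynomial (Fin (r + 1)) k) M]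
  [IsScalarTower k (MvPolynomial (Fin (r + 1)) k) M]
  {ℳ : ℤ → Submodule k M} [DirectSum.Decomposition ℳ]
  [SetLike.GradedSMul (_root_.GrSyz.stdGr k (Fin (r + 1))) ℳ]
  [SetLike.GradedSMul (CohB1.polyGrading r k) (fun i : ℕ => ℳ (i : ℤ))]
  (F : _root_.GrSyz.FreeRes (_root_.GrSyz.stdGr k (Fin (r + 1))) ℳ) (n : ℤ)

/-- The sheaf of the `j`-th term. -/
abbrev term (j : ℕ) : (CohB1.ProjSpace r k).Modules :=
  GrTilde.tilde (CohB1.polyGrading r k) (freeFam k r (F.deg j)) n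

/-- The sheaf of the resolved module. -/
abbrev target : (CohB1.ProjSpace r k).Modules :=
  GrTilde.tilde (CohB1.polyGrading r k) (fun i : ℕ => ℳ (i : ℤ)) n

theorem dLin_freeFam (j i : ℕ) (m : Fin (F.rk (j + 1)) → MvPolynomial (Fin (r + 1)) k)
    (hm : m ∈ freeFam k r (F.deg (j + 1)) i) : F.dLin j m ∈ freeFam k r (F.deg j) i :=
  GrSyz.dLin_mem_freePiece F j hm

/-- The differential of sheaves. -/
def dS (j : ℕ) : term F n (j + 1) ⟶ term F n j :=
  tmap (ℳ := freeFam k r (F.deg (j + 1))) (𝒩 := freeFam k r (F.deg j)) (F.dLin j)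
    (dLin_freeFam F j) n

/-- The augmentation of sheaves. -/
def augS : term F n 0 ⟶ target (ℳ := ℳ) n :=
  tmap (ℳ := freeFam k r (F.deg 0)) (𝒩 := fun i : ℕ => ℳ (i : ℤ)) F.augLin
    (fun _ _ hm => GrSyz.augLin_mem F hm) n

theorem dLin_dLin (j : ℕ) (m : Fin (F.rk (j + 1 + 1)) → MvPolynomial (Fin (r + 1)) k) :
    F.dLin j (F.dLin (j + 1) m) = 0 :=
  LinearMap.mem_ker.1 ((F.exact_succ j).ge ⟨m, rfl⟩)

theorem augLin_dLin (m : Fin (F.rk 1) → MvPolynomial (Fin (r + 1)) k) :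
    F.augLin (F.dLin 0 m) = 0 :=
  LinearMap.mem_ker.1 (F.exact_zero.ge ⟨m, rfl⟩)

theorem dS_comp (j : ℕ) : dS F n (j + 1) ≫ dS F n j = 0 :=
  tmap_comp_zero _ _ _ _ n (dLin_dLin F j)

theorem dS_aug : dS F n 0 ≫ augS F n = 0 :=
  tmap_comp_zero _ _ _ _ n (augLin_dLin F)

theorem exact_dS (j : ℕ) : (ShortComplex.mk (dS F n (j + 1)) (dS F n j) (dS_comp F n j)).Exact :=
  exact_tmap _ _ _ _ n (homAnn_free _) (dLin_dLin F j) fun i q hq h0 => by
    obtain ⟨w, hw⟩ := (GrSyz.ker_dPiece F j (i : ℤ)).le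
      (show (⟨q, hq⟩ : GrSyz.freePiece F (j + 1) (i : ℤ)) ∈
        LinearMap.ker (GrSyz.dPiece F j (i : ℤ)) from LinearMap.mem_ker.2 (Subtype.ext h0))
    exact ⟨w.1, w.2, congrArg Subtype.val hw⟩

theorem exact_augS : (ShortComplex.mk (dS F n 0) (augS F n) (dS_aug F n)).Exact :=
  exact_tmap _ _ _ _ n (homAnn_int ℳ) (augLin_dLin F) fun i q hq h0 => by
    obtain ⟨w, hw⟩ := (GrSyz.ker_augPiece F (i : ℤ)).le
      (show (⟨q, hq⟩ : GrSyz.freePiece F 0 (i : ℤ)) ∈
        LinearMap.ker (GrSyz.augPiece F (i : ℤ)) from LinearMap.mem_ker.2 (Subtype.ext h0))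
    exact ⟨w.1, w.2, congrArg Subtype.val hw⟩

theorem epi_augS : Epi (augS F n) :=
  epi_tmap _ _ n fun i q hq => by
    obtain ⟨w, hw⟩ := GrSyz.augPiece_surjective F (i : ℤ) ⟨q, hq⟩
    exact ⟨w.1, w.2, congrArg Subtype.val hw⟩

/-- The `j`-th cokernel. -/
def Q (j : ℕ) : (CohB1.ProjSpace r k).Modules := cokernel (dS F n j)

theorem nonempty_Q_zero : Nonempty (Q F n 0 ≅ target (ℳ := ℳ) n) :=
  haveI : Epi (ShortComplex.mk (dS F n 0) (augS F n) (dS_aug F n)).g := epi_augS F n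
  ⟨(cokernelIsCokernel (dS F n 0)).coconePointUniqueUpToIso (exact_augS F n).gIsCokernel⟩

/-- `0 → Q (j+1) → F_j → Q j → 0`. -/
def qSeq (j : ℕ) : ShortComplex (CohB1.ProjSpace r k).Modules :=
  ShortComplex.mk (cokernel.desc (dS F n (j + 1)) (dS F n j) (dS_comp F n j))
    (cokernel.π (dS F n j))
    (by rw [← cancel_epi (cokernel.π (dS F n (j + 1))), comp_zero, cokernel.π_desc_assoc,
      cokernel.condition])

theorem shortExact_qSeq (j : ℕ) : (qSeq F n j).ShortExact := by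
  refine ShortComplex.ShortExact.mk' ?_ (exact_dS F n j).mono_cokernelDesc
    (inferInstanceAs (Epi (cokernel.π (dS F n j))))
  let φ : ShortComplex.mk (dS F n j) (cokernel.π (dS F n j)) (cokernel.condition _) ⟶ qSeq F n j :=
    { τ₁ := cokernel.π (dS F n (j + 1))
      τ₂ := 𝟙 _
      τ₃ := 𝟙 _
      comm₁₂ := by simp [qSeq]
      comm₂₃ := by simp [qSeq] }
  haveI : Epi φ.τ₁ := inferInstanceAs (Epi (cokernel.π (dS F n (j + 1))))
  haveI : IsIso φ.τ₂ := inferInstanceAs (IsIso (𝟙 _))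
  haveI : Mono φ.τ₃ := inferInstanceAs (Mono (𝟙 _))
  exact (ShortComplex.exact_iff_of_epi_of_isIso_of_mono φ).1 (ShortComplex.exact_cokernel _)

theorem isZero_Q {L : ℕ} (hL : F.HasLengthLE L) {j : ℕ} (hj : L < j) : IsZero (Q F n j) := by
  haveI : IsEmpty (Fin (F.rk j)) := by rw [hL j hj]; exact Fin.isEmpty
  exact (IsZero.of_epi (cokernel.π (dS F n j)) (isZero_tilde_of_subsingleton _ n) :
    IsZero (cokernel (dS F n j)))

/-- The dimension shifting. -/
theorem subsingleton_Q {L : ℕ} (hL : F.HasLengthLE L) {d : ℤ} (hd : F.IsGenLE d) :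
    ∀ (m j q : ℕ), L < j + m → 0 < q → j ≤ q → n = d - ((q : ℤ) - j) →
      Subsingleton (Coh.HH (CohB1.ProjSpace r k) (Q F n j) q)
  | 0, j, q, hm, _, _, _ => GrModLib.NegTwist.hh_of_isZero (isZero_Q F n hL (by omega)) q
  | m + 1, j, q, hm, hq, hjq, hn => by
    have h1 : Subsingleton (Coh.HH (CohB1.ProjSpace r k) (Q F n (j + 1)) (q + 1)) :=
      subsingleton_Q hL hd m (j + 1) (q + 1) (by omega) (by omega) (by omega) (by push_cast; omega)
    have h2 : Subsingleton (Coh.HH (CohB1.ProjSpace r k) (term F n j) q) :=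
      subsingleton_freeFam n hq _ fun b e => by
        have := hd j b
        omega
    exact @CohLin.subsingleton_X₃ _ _ (shortExact_qSeq F n j) _ h2 h1

/-- `H^q(M(n)~) = 0` for `n = d - q`, `q > 0`, when `M` has a resolution generated in degrees
`≤ d + i`. -/
theorem subsingleton_target {L : ℕ} (hL : F.HasLengthLE L) {d : ℤ} (hd : F.IsGenLE d) {q : ℕ}
    (hq : 0 < q) (hn : n = d - q) :
    Subsingleton (Coh.HH (CohB1.ProjSpace r k) (target (ℳ := ℳ) n) q) := by
  obtain ⟨e⟩ := nonempty_Q_zero F n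
  exact @Equiv.subsingleton _ _ (CohLin.hIso e q).symm.toEquiv
    (subsingleton_Q F n hL hd (L + 1) 0 q (by omega) hq (by omega) (by simpa using hn))

/-- The sheaf of a module of regularity at most `d` is `d`-regular. -/
theorem isMRegular_of_isRegLE {d : ℤ}
    (hd : _root_.GrSyz.IsRegLE (_root_.GrSyz.stdGr k (Fin (r + 1))) ℳ
      (_root_.GrSyz.irrel (_root_.GrSyz.stdGr k (Fin (r + 1)))).toIdeal d) :
    Curv2.IsMRegular k r
      (GrTilde.tilde (CohB1.polyGrading r k) (fun i : ℕ => ℳ (i : ℤ)) 0) d := by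
  obtain ⟨F, hmin, hgen⟩ := hd
  intro i hi _
  obtain ⟨e⟩ := nonempty_tensor_iso (k := k) (r := r) (fun j : ℕ => ℳ (j : ℤ)) (d - i)
  exact @Equiv.subsingleton _ _ (CohLin.hIso e i).toEquiv
    (subsingleton_target F (d - i) (GrSyz.hasLengthLE_of_minimal F hmin) hgen (by omega) rfl)

end Groth.Agent.GrSyzTilde
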